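import Groth.Agent.HyperLib.CechDeg
import Groth.Agent.SpObjSS.CechSS
import Mathlib.Algebra.Homology.GrothendieckAbelian
import Mathlib.Algebra.Homology.HasNoLoop
import Mathlib.CategoryTheory.Abelian.GrothendieckCategory.EnoughInjectives

/-!
# The spectral sequence of a hypercovering
-/

universe v u

open CategoryTheory CategoryTheory.Limits Opposite Simplicial

namespace Groth.Agent.HyperLib

section

variable {A : Type u} [Category.{v} A] [Abelian A]

/-- A complex exact in positive degrees receiving a given one by a split monomorphism in each degree. -/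
noncomputable def coneObj (I : CochainComplex A ℕ) : CochainComplex A ℕ :=
  CochainComplex.of (fun n => I.X n ⊞ I.X (n + 1))
    (fun n => biprod.snd ≫ biprod.inl) (fun n => by simp)

/-- The embedding. -/
noncomputable def toCone (I : CochainComplex A ℕ) : I ⟶ coneObj I where
  f n := biprod.lift (𝟙 _) (I.d n (n + 1))
  comm' i j h := by
    obtain rfl : i + 1 = j := h
    dsimp [coneObj]
    rw [CochainComplex.of_d]
    apply biprod.hom_ext <;> simp

lemma coneObj_exactAt (I : CochainComplex A ℕ) (p : ℕ) : (coneObj I).ExactAt (p + 1) := by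
  rw [HomologicalComplex.exactAt_iff' _ p (p + 1) (p + 1 + 1) (by simp) (by simp),
    ShortComplex.exact_iff_exact_up_to_refinements]
  intro W x hx
  let x' : W ⟶ I.X (p + 1) ⊞ I.X (p + 1 + 1) := x
  have hd : (coneObj I).d (p + 1) (p + 1 + 1) =
      (biprod.snd ≫ biprod.inl : I.X (p + 1) ⊞ I.X (p + 1 + 1) ⟶ _) := by
    dsimp [coneObj]
    exact CochainComplex.of_d _ _ _
  have hd' : (coneObj I).d p (p + 1) =
      (biprod.snd ≫ biprod.inl : I.X p ⊞ I.X (p + 1) ⟶ _) := by
    dsimp [coneObj]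
    exact CochainComplex.of_d _ _ _
  have h0 : x' ≫ biprod.snd = 0 := by
    refine (cancel_mono (biprod.inl : I.X (p + 1 + 1) ⟶ I.X (p + 1 + 1) ⊞ I.X (p + 1 + 1 + 1))).1 ?_
    rw [Category.assoc, zero_comp]
    exact (congrArg (x' ≫ ·) hd.symm).trans hx
  refine ⟨W, 𝟙 W, inferInstance, (x' ≫ biprod.fst) ≫ biprod.inr, ?_⟩
  refine (Category.id_comp x).trans ?_
  refine Eq.trans ?_ (congrArg (((x' ≫ biprod.fst) ≫ biprod.inr) ≫ ·) hd'.symm)
  show x' = ((x' ≫ biprod.fst) ≫ biprod.inr) ≫ biprod.snd ≫ biprod.inl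
  rw [Category.assoc (x' ≫ biprod.fst), BinaryBicone.inr_snd_assoc]
  apply biprod.hom_ext <;> simp [h0]

/-- Injective complexes are exact in positive degrees. -/
lemma exactAt_of_injective (I : CochainComplex A ℕ) [Injective I] (p : ℕ) : I.ExactAt (p + 1) := by
  have : ∀ n, Mono ((toCone I).f n) := fun n =>
    (SplitMono.mk (f := biprod.lift (𝟙 _) (I.d n (n + 1))) biprod.fst (by simp)).mono
  have : Mono (toCone I) := HomologicalComplex.mono_of_mono_f _ this
  have e : toCone I ≫ Injective.factorThru (𝟙 I) (toCone I) = 𝟙 I := Injective.comp_factorThru _ _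
  rw [HomologicalComplex.exactAt_iff_isZero_homology]
  have e' := congrArg (fun z => HomologicalComplex.homologyMap z (p + 1)) e
  simp only [HomologicalComplex.homologyMap_comp, HomologicalComplex.homologyMap_id] at e'
  have : Mono (HomologicalComplex.homologyMap (toCone I) (p + 1)) := (SplitMono.mk _ e').mono
  exact IsZero.of_mono (HomologicalComplex.homologyMap (toCone I) (p + 1)) ((HomologicalComplex.exactAt_iff_isZero_homology _ _).1 (coneObj_exactAt I p))

end

open FormalCoproduct Groth.Agent.SiteBase Groth.Agent.SpObjSS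

variable {C : Type u} [SmallCategory C] {J : GrothendieckTopology C}

variable (J) in
/-- The constant sheaf of integers. -/
noncomputable abbrev ZConst : Sheaf J AddCommGrpCat.{u} :=
  (constantSheaf J AddCommGrpCat.{u}).obj (AddCommGrpCat.of (ULift.{u} ℤ))

/-- The presheaf map of a morphism out of the constant sheaf. -/
noncomputable abbrev zcHom (F : Sheaf J AddCommGrpCat.{u}) :
    (ZConst J ⟶ F) ≃+ ((Functor.const Cᵒᵖ).obj (AddCommGrpCat.of (ULift.{u} ℤ)) ⟶ F.obj) :=
  (sheafificationAdjunction J AddCommGrpCat.{u}).homAddEquiv _ F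

/-- The global section of a morphism out of the constant sheaf. -/
noncomputable def gval (F : Sheaf J AddCommGrpCat.{u}) (U : C) :
    AddCommGrpCat.of (ZConst J ⟶ F) ⟶ F.obj.obj (op U) :=
  AddCommGrpCat.ofHom (AddMonoidHom.mk' (fun φ => (zcHom F φ).app (op U) (ULift.up 1))
    fun φ φ' => by rw [map_add]; rfl)

lemma gval_map (F : Sheaf J AddCommGrpCat.{u}) {U V : C} (g : V ⟶ U) (φ : ZConst J ⟶ F) :
    F.obj.map g.op (gval F U φ) = gval F V φ :=
  ((zcHom F φ).naturality_apply g.op (ULift.up 1)).symm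

lemma gval_comp {F G : Sheaf J AddCommGrpCat.{u}} (g : F ⟶ G) (U : C) (φ : ZConst J ⟶ F) :
    gval G U (φ ≫ g) = g.hom.app (op U) (gval F U φ) := by
  have e : zcHom G (φ ≫ g) = zcHom F φ ≫ g.hom :=
    (sheafificationAdjunction J AddCommGrpCat.{u}).homEquiv_naturality_right φ g
  exact ConcreteCategory.congr_hom (congr_app e (op U)) (ULift.up 1)

lemma gval_ext {F : Sheaf J AddCommGrpCat.{u}} {φ ψ : ZConst J ⟶ F}
    (h : ∀ U, gval F U φ = gval F U ψ) : φ = ψ := by
  refine (zcHom F).injective (NatTrans.ext (funext fun U => ?_))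
  ext ⟨z⟩
  have e : (ULift.up z : ULift.{u} ℤ) = z • ULift.up 1 := by
    refine ULift.ext _ _ ?_
    show z = z • (1 : ℤ)
    simp
  show (zcHom F φ).app U (ULift.up z) = (zcHom F ψ).app U (ULift.up z)
  rw [e]
  exact ((map_zsmul ((zcHom F φ).app U).hom z _).trans (congrArg (z • ·) (h U.unop))).trans
    (map_zsmul ((zcHom F ψ).app U).hom z _).symm

lemma gval_surjective (F : Sheaf J AddCommGrpCat.{u}) (s : ∀ U : C, F.obj.obj (op U))
    (hs : ∀ (U V : C) (g : V ⟶ U), F.obj.map g.op (s U) = s V) :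
    ∃ φ : ZConst J ⟶ F, ∀ U, gval F U φ = s U := by
  let t : (Functor.const Cᵒᵖ).obj (AddCommGrpCat.of (ULift.{u} ℤ)) ⟶ F.obj :=
    { app := fun U => AddCommGrpCat.ofHom
        ((zmultiplesHom _ (s U.unop)).comp AddEquiv.ulift.toAddMonoidHom)
      naturality := fun U V g => by
        ext z
        exact ((map_zsmul (F.obj.map g).hom z.down (s U.unop)).trans
          (congrArg (z.down • ·) (hs _ _ g.unop))).symm }
  refine ⟨(zcHom F).symm t, fun U => ?_⟩
  show (zcHom F ((zcHom F).symm t)).app (op U) (ULift.up 1) = s U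
  rw [AddEquiv.apply_symm_apply]
  exact one_zsmul _

variable (K : SimplicialObject (FormalCoproduct.{u} C))

/-- The cochain of a global section. -/
noncomputable def gcochain (F : Sheaf J AddCommGrpCat.{u}) :
    AddCommGrpCat.of (ZConst J ⟶ F) ⟶ ((cech K).obj F.obj).X 0 :=
  Pi.lift fun i => gval F ((K _⦋0⦌).obj i)

lemma cpr_gcochain (F : Sheaf J AddCommGrpCat.{u}) (i : (K _⦋0⦌).I) (φ : ZConst J ⟶ F) :
    cpr (P := F.obj) i (gcochain K F φ) = gval F ((K _⦋0⦌).obj i) φ :=
  ConcreteCategory.congr_hom (Pi.lift_π (fun i => gval F ((K _⦋0⦌).obj i)) i) φ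

lemma gcochain_d (F : Sheaf J AddCommGrpCat.{u}) :
    gcochain K F ≫ ((cech K).obj F.obj).d 0 1 = 0 := by
  ext φ
  refine cochT_ext (P := F.obj) (A := K _⦋1⦌) fun j => ?_
  refine (cpr_d_zero (P := F.obj) _ j).trans ?_
  refine Eq.trans ?_ ((cpr (P := F.obj) (A := K _⦋1⦌) j).hom.map_zero).symm
  exact (congrArg₂ (· - ·) ((congrArg _ (cpr_gcochain K F _ φ)).trans (gval_map F _ φ))
    ((congrArg _ (cpr_gcochain K F _ φ)).trans (gval_map F _ φ))).trans (sub_self _)

/-- The class of a global section. -/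
noncomputable def gClass (F : Sheaf J AddCommGrpCat.{u}) :
    AddCommGrpCat.of (ZConst J ⟶ F) ⟶ ((cech K).obj F.obj).homology 0 :=
  ((cech K).obj F.obj).liftCycles (gcochain K F) 1 (by simp) (gcochain_d K F) ≫
    ((cech K).obj F.obj).homologyπ 0

lemma isIso_gClass (hK : IsLocTrivial J K) (F : Sheaf J AddCommGrpCat.{u}) :
    IsIso (gClass K F) := by
  let Z := (cech K).obj F.obj
  have hl : ∀ φ, Z.iCycles 0 (Z.liftCycles (gcochain K F) 1 (by simp) (gcochain_d K F) φ) =
      gcochain K F φ :=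
    fun φ => ConcreteCategory.congr_hom (Z.liftCycles_i (gcochain K F) 1 (by simp) (gcochain_d K F)) φ
  rw [ConcreteCategory.isIso_iff_bijective]
  constructor
  · intro φ ψ h
    have h' := (hl φ).symm.trans ((congrArg (Z.iCycles 0)
      (homologyπ_zero_injective (K := K) F.obj h)).trans (hl ψ))
    refine gval_ext fun U => sections_ext hK F fun V g a => ?_
    rw [gval_map, gval_map]
    refine (gval_map F (Hom.φ a PUnit.unit) φ).symm.trans (Eq.trans ?_ (gval_map F (Hom.φ a PUnit.unit) ψ))
    refine congrArg _ ((cpr_gcochain K F (Hom.f a PUnit.unit) φ).symm.trans (Eq.trans ?_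
      (cpr_gcochain K F (Hom.f a PUnit.unit) ψ)))
    exact congrArg (cpr (P := F.obj) (A := K _⦋0⦌) _) h'
  · intro ξ
    obtain ⟨z, rfl⟩ := exists_cocycle_zero ξ
    obtain ⟨s, hs, hs'⟩ := exists_glue_cocycle hK F (Z.iCycles 0 z)
      (ConcreteCategory.congr_hom (Z.iCycles_d 0 1) z)
    obtain ⟨φ, hφ⟩ := gval_surjective F s hs
    refine ⟨φ, congrArg (Z.homologyπ 0)
      ((AddCommGrpCat.mono_iff_injective (Z.iCycles 0)).1 inferInstance ((hl φ).trans ?_))⟩
    exact cochT_ext (P := F.obj) fun i => (cpr_gcochain K F i φ).trans ((hφ _).trans (hs' i).symm)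

/-- Degree-zero Cech cohomology of sheaves is the global sections functor. -/
noncomputable def h0NatIso (hK : IsLocTrivial J K) :
    (sheafToPresheaf J AddCommGrpCat.{u} ⋙ cech K) ⋙ hZero (𝟭 (CochainComplex AddCommGrpCat.{u} ℕ)) ≅
      homFrom (ZConst J) :=
  (NatIso.ofComponents (F := homFrom (ZConst J))
    (G := (sheafToPresheaf J AddCommGrpCat.{u} ⋙ cech K) ⋙ hZero (𝟭 (CochainComplex AddCommGrpCat.{u} ℕ)))
    (fun F => @asIso _ _ _ _ (gClass K F) (isIso_gClass K hK F))
    (fun {F G} g => by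
      show (homFrom (ZConst J)).map g ≫ gClass K G =
        gClass K F ≫ HomologicalComplex.homologyMap ((cech K).map g.hom) 0
      refine Eq.trans (Category.assoc _ _ _).symm (Eq.trans (congrArg (· ≫ _) ?_)
        ((Category.assoc _ _ _).trans ((congrArg (_ ≫ ·)
          (HomologicalComplex.homologyπ_naturality ((cech K).map g.hom) 0).symm).trans
            (Category.assoc _ _ _).symm)))
      refine (cancel_mono (((cech K).obj G.obj).iCycles 0)).1 ?_
      refine (Category.assoc _ _ _).trans ((congrArg (_ ≫ ·)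
        (HomologicalComplex.liftCycles_i _ (gcochain K G) 1 (by simp) (gcochain_d K G))).trans ?_)
      refine Eq.trans ?_ ((Category.assoc _ _ _).trans ((congrArg (_ ≫ ·)
        (HomologicalComplex.cyclesMap_i ((cech K).map g.hom) 0)).trans
          (HomologicalComplex.liftCycles_i_assoc _ (gcochain K F) 1 (by simp) (gcochain_d K F) _))).symm
      ext φ
      refine cochT_ext (P := G.obj) (A := K _⦋0⦌) fun i => ?_
      refine (cpr_gcochain K G i (φ ≫ g)).trans ?_
      refine Eq.trans ?_ (cpr_cech_map K g.hom 0 _ i).symm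
      exact (gval_comp g _ φ).trans (congrArg _ (cpr_gcochain K F i φ).symm))).symm

instance : PreservesFiniteLimits (cech K) := by
  have t := (Functor.exact_tfae (cech K)).out 0 3
  exact ((t.1 fun S hS => cech_shortExact K S hS)).1

instance : PreservesFiniteColimits (cech K) := by
  have t := (Functor.exact_tfae (cech K)).out 0 3
  exact ((t.1 fun S hS => cech_shortExact K S hS)).2

/-- The spectral sequence of a hypercovering. -/
theorem exists_hypercovering_spectralSequence (hK : IsLocTrivial J K)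
    (M : Sheaf J AddCommGrpCat.{u}) :
    ∃ (E : E₂CohomologicalSpectralSequence AddCommGrpCat.{u})
      (a : SpSeq.Abutment E (fun n : ℤ => if 0 ≤ n then AddCommGrpCat.of (Sheaf.H M n.toNat)
        else AddCommGrpCat.of PUnit.{u + 1})),
      (∀ n, a.IsFinite n) ∧ SpSeq.IsBounded E ∧
      ∀ p q : ℤ, Nonempty ((E.page 2 le_rfl).X (p, q) ≅
        (if 0 ≤ p ∧ 0 ≤ q then ((cech K).obj (M.cohomologyPresheaf q.toNat)).homology p.toNat
         else AddCommGrpCat.of PUnit.{u + 1})) := by
  let Ch := CochainComplex AddCommGrpCat.{u} ℕ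
  have hid : ∀ S : ShortComplex Ch, S.ShortExact → (S.map (𝟭 Ch)).ShortExact := fun S hS => hS
  have hI : ∀ I : Ch, Injective I → ∀ p : ℕ, ((𝟭 Ch).obj I).ExactAt (p + 1) := fun I hI p =>
    exactAt_of_injective I p
  have := preservesFiniteLimits_hZero (𝟭 Ch) hid
  refine exists_grothendieck_spectralSequence' (sheafToPresheaf J AddCommGrpCat.{u} ⋙ cech K)
    (hZero (𝟭 Ch)) (fun Q hQ i hi => ?_) M (fun n => AddCommGrpCat.of (Sheaf.H M n))
    (fun n => ⟨(rightDerivedCongr (h0NatIso K hK) n).app M ≪≫ rightDerivedHomFromIso (ZConst J) n M⟩)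
    (fun p q => ((cech K).obj (M.cohomologyPresheaf q)).homology p)
    (fun p q => ⟨(nonempty_rightDerived_hZero_iso (𝟭 Ch) hid hI p _).some ≪≫
      (HomologicalComplex.homologyFunctor _ _ p).mapIso
        ((rightDerivedCompIso (sheafToPresheaf J AddCommGrpCat.{u}) (cech K) q).app M ≪≫
          (cech K).mapIso ((rightDerivedIsoCohomology q).app M))⟩)
    _ (AddCommGrpCat.isZero_of_subsingleton _)
  obtain ⟨j, rfl⟩ := Nat.exists_eq_succ_of_ne_zero (Nat.pos_iff_ne_zero.1 hi)
  exact IsZero.of_iso (isZero_homology_cechCxSite K hK Q j)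
    (nonempty_rightDerived_hZero_iso (𝟭 Ch) hid hI (j + 1) _).some

end Groth.Agent.HyperLib
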