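import Groth.Agent.HyperLib.Basic

/-!
# Hypercoverings as locally trivial simplicial semi-representable objects
-/

universe u

open CategoryTheory CategoryTheory.Limits Opposite Simplicial

namespace Groth.Agent.HyperLib

open FormalCoproduct

variable {C : Type u} [SmallCategory C] (J : GrothendieckTopology C)

lemma isSRCovering_comp {K L M : FormalCoproduct.{u} C} {f : K ⟶ L} {g : L ⟶ M}
    (hf : Hyper.IsSRCovering J f) (hg : Hyper.IsSRCovering J g) : Hyper.IsSRCovering J (f ≫ g) := by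
  rw [isSRCovering_iff_locallySurjective] at *
  rw [Functor.map_comp]
  infer_instance

lemma isSRCovering_of_section {K L : FormalCoproduct.{u} C} (f : K ⟶ L) (s : L ⟶ K)
    (h : s ≫ f = 𝟙 L) : Hyper.IsSRCovering J f := by
  rw [isSRCovering_iff]
  intro U y
  refine J.superset_covering ?_ (J.top_mem U)
  intro V g _
  exact ⟨(incl C).map g ≫ y ≫ s, by simp [h]⟩

lemma isSRCovering_of_isPullback {P K L L' : FormalCoproduct.{u} C} {a : P ⟶ L'} {b : P ⟶ K}
    {g : L' ⟶ L} {f : K ⟶ L} (h : IsPullback a b g f) (hf : Hyper.IsSRCovering J f) :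
    Hyper.IsSRCovering J a := by
  rw [isSRCovering_iff] at *
  intro U y
  refine J.superset_covering ?_ (hf U (y ≫ g))
  rintro V k ⟨x, hx⟩
  exact ⟨h.lift ((incl C).map k ≫ y) x (by simp [hx]), h.lift_fst _ _ _⟩

theorem locallySurjective_terminal_iff (X : FormalCoproduct.{u} C) :
    Presheaf.IsLocallySurjective J (terminal.from (FormalCoproduct.yoneda.obj X)) ↔
      ∀ U : C, ptSieve X U ∈ J U := by
  constructor
  · intro h U
    refine J.superset_covering ?_
      (h.1 (U := U) (yonedaEquiv (terminal.from (CategoryTheory.yoneda.obj U))))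
    rintro V g ⟨t, _⟩
    exact ⟨(yonedaIsoEl.hom.app X).app (op V) t⟩
  · intro h
    refine ⟨fun {U} s => J.superset_covering ?_ (h U)⟩
    rintro V g ⟨x⟩
    exact ⟨(yonedaIsoEl.inv.app X).app (op V) x,
      yonedaEquiv.symm.injective (terminal.hom_ext _ _)⟩

lemma prod_elem_ext {P Q : Cᵒᵖ ⥤ Type u} {U : C} {s t : (P ⨯ Q).obj (op U)}
    (h₁ : (Limits.prod.fst : P ⨯ Q ⟶ P).app (op U) s = (Limits.prod.fst : P ⨯ Q ⟶ P).app (op U) t)
    (h₂ : (Limits.prod.snd : P ⨯ Q ⟶ Q).app (op U) s = (Limits.prod.snd : P ⨯ Q ⟶ Q).app (op U) t) :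
    s = t := by
  refine yonedaEquiv.symm.injective (Limits.prod.hom_ext ?_ ?_)
  · apply yonedaEquiv.injective
    simpa [yonedaEquiv_comp] using h₁
  · apply yonedaEquiv.injective
    simpa [yonedaEquiv_comp] using h₂

lemma exists_prod_elem {P Q : Cᵒᵖ ⥤ Type u} {U : C} (a : P.obj (op U)) (b : Q.obj (op U)) :
    ∃ s : (P ⨯ Q).obj (op U), (Limits.prod.fst : P ⨯ Q ⟶ P).app (op U) s = a ∧
      (Limits.prod.snd : P ⨯ Q ⟶ Q).app (op U) s = b := by
  refine ⟨yonedaEquiv (Limits.prod.lift (yonedaEquiv.symm a) (yonedaEquiv.symm b)), ?_, ?_⟩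
  · rw [← yonedaEquiv_comp, Limits.prod.lift_fst, Equiv.apply_symm_apply]
  · rw [← yonedaEquiv_comp, Limits.prod.lift_snd, Equiv.apply_symm_apply]

lemma isBdry_zero {K : SimplicialObject (FormalCoproduct.{u} C)} {P : FormalCoproduct.{u} C}
    (y : Fin 2 → (P ⟶ K _⦋0⦌)) : IsBdry K 0 P y := by
  intro Δ hΔ φ ψ a b e
  obtain rfl : φ = ψ := SimplexCategory.Hom.ext _ _ (OrderHom.ext _ _ (funext fun _ => Subsingleton.elim (α := Fin 1) _ _))
  have : a = b := by
    have e' := congrArg (fun f : Δ ⟶ ⦋1⦌ => f.toOrderHom 0) e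
    have h0 : φ.toOrderHom 0 = 0 := Subsingleton.elim (α := Fin 1) _ _
    simp only [SimplexCategory.comp_toOrderHom, OrderHom.comp_coe, Function.comp_apply, h0] at e'
    revert e'
    fin_cases a <;> fin_cases b <;> decide
  rw [this]

theorem locallySurjective_pair_iff (K : SimplicialObject (FormalCoproduct.{u} C)) :
    Presheaf.IsLocallySurjective J
      (Limits.prod.lift (FormalCoproduct.yoneda.map (K.δ (1 : Fin 2)))
        (FormalCoproduct.yoneda.map (K.δ (0 : Fin 2)))) ↔ Fills J K 0 := by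
  have hel : ∀ {X Y : FormalCoproduct.{u} C} (f : X ⟶ Y) (W : C)
      (t : (FormalCoproduct.yoneda.obj X).obj (op W)),
      (yonedaIsoEl.hom.app Y).app (op W) ((FormalCoproduct.yoneda.map f).app (op W) t) =
        (yonedaIsoEl.hom.app X).app (op W) t ≫ f := fun {X Y} f W t =>
    ConcreteCategory.congr_hom (congr_app (yonedaIsoEl.hom.naturality f) (op W)) t
  have hinv : ∀ (X : FormalCoproduct.{u} C) (W : C) (x : (incl C).obj W ⟶ X),
      (yonedaIsoEl.hom.app X).app (op W) ((yonedaIsoEl.inv.app X).app (op W) x) = x := fun X W x =>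
    ConcreteCategory.congr_hom (congr_app (yonedaIsoEl.inv_hom_id_app X) (op W)) x
  have hinj : ∀ (X : FormalCoproduct.{u} C) (W : C) (s t : (FormalCoproduct.yoneda.obj X).obj (op W)),
      (yonedaIsoEl.hom.app X).app (op W) s = (yonedaIsoEl.hom.app X).app (op W) t → s = t :=
    fun X W s t e => by
      have e₁ := ConcreteCategory.congr_hom (congr_app (yonedaIsoEl.hom_inv_id_app X) (op W))
      exact (e₁ s).symm.trans ((congrArg (fun z => (yonedaIsoEl.inv.app X).app (op W) z) e).trans (e₁ t))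
  have hnat : ∀ (X : FormalCoproduct.{u} C) {W V : C} (g : V ⟶ W)
      (t : (FormalCoproduct.yoneda.obj X).obj (op W)),
      (yonedaIsoEl.hom.app X).app (op V) ((FormalCoproduct.yoneda.obj X).map g.op t) =
        (incl C).map g ≫ (yonedaIsoEl.hom.app X).app (op W) t :=
    fun X _ _ g t => (yonedaIsoEl.hom.app X).naturality_apply g.op t
  have hfst : ∀ {A B₁ B₂ : Cᵒᵖ ⥤ Type u} (a : A ⟶ B₁) (b : A ⟶ B₂) (W : C) (t : A.obj (op W)),
      (Limits.prod.fst : B₁ ⨯ B₂ ⟶ B₁).app (op W) ((Limits.prod.lift a b).app (op W) t) =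
        a.app (op W) t := fun a b W t =>
    ConcreteCategory.congr_hom (congr_app (Limits.prod.lift_fst a b) (op W)) t
  have hsnd : ∀ {A B₁ B₂ : Cᵒᵖ ⥤ Type u} (a : A ⟶ B₁) (b : A ⟶ B₂) (W : C) (t : A.obj (op W)),
      (Limits.prod.snd : B₁ ⨯ B₂ ⟶ B₂).app (op W) ((Limits.prod.lift a b).app (op W) t) =
        b.app (op W) t := fun a b W t =>
    ConcreteCategory.congr_hom (congr_app (Limits.prod.lift_snd a b) (op W)) t
  constructor
  · intro h U y _
    obtain ⟨s, hs₁, hs₂⟩ := exists_prod_elem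
      ((yonedaIsoEl.inv.app _).app (op U) (y 1)) ((yonedaIsoEl.inv.app _).app (op U) (y 0))
    refine ⟨_, h.1 s, ?_⟩
    rintro V g ⟨t, ht⟩
    refine ⟨(yonedaIsoEl.hom.app _).app (op V) t, fun i => ?_⟩
    fin_cases i
    · refine (hel (K.δ 0) V t).symm.trans ?_
      rw [← hinv (K _⦋0⦌) U (y _), ← hnat]
      refine congrArg _ (((hsnd _ _ V t).symm.trans (congrArg _ ht)).trans ?_)
      exact (NatTrans.naturality_apply (Limits.prod.snd :
        FormalCoproduct.yoneda.obj (K _⦋0⦌) ⨯ FormalCoproduct.yoneda.obj (K _⦋0⦌) ⟶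
          FormalCoproduct.yoneda.obj (K _⦋0⦌)) g.op s).trans (congrArg _ hs₂)
    · refine (hel (K.δ 1) V t).symm.trans ?_
      rw [← hinv (K _⦋0⦌) U (y _), ← hnat]
      refine congrArg _ (((hfst _ _ V t).symm.trans (congrArg _ ht)).trans ?_)
      exact (NatTrans.naturality_apply (Limits.prod.fst :
        FormalCoproduct.yoneda.obj (K _⦋0⦌) ⨯ FormalCoproduct.yoneda.obj (K _⦋0⦌) ⟶
          FormalCoproduct.yoneda.obj (K _⦋0⦌)) g.op s).trans (congrArg _ hs₁)
  · intro h
    refine ⟨fun {U} s => ?_⟩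
    obtain ⟨S, hS, hS'⟩ := h U
      ![(yonedaIsoEl.hom.app _).app (op U)
          ((Limits.prod.snd : _ ⟶ FormalCoproduct.yoneda.obj (K _⦋0⦌)).app (op U) s),
        (yonedaIsoEl.hom.app _).app (op U)
          ((Limits.prod.fst : _ ⟶ FormalCoproduct.yoneda.obj (K _⦋0⦌)).app (op U) s)] (isBdry_zero _)
    refine J.superset_covering ?_ hS
    intro V g hg
    obtain ⟨x, hx⟩ := hS' g hg
    refine ⟨(yonedaIsoEl.inv.app _).app (op V) x, prod_elem_ext ?_ ?_⟩
    · apply hinj
      rw [hfst, hel, hinv]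
      refine (hx 1).trans ((hnat _ g _).symm.trans (congrArg _ ?_))
      exact (NatTrans.naturality_apply _ g.op s).symm
    · apply hinj
      rw [hsnd, hel, hinv]
      refine (hx 0).trans ((hnat _ g _).symm.trans (congrArg _ ?_))
      exact (NatTrans.naturality_apply _ g.op s).symm

theorem isHypercoveringSite_iff (K : SimplicialObject (FormalCoproduct.{u} C))
    [∀ (n : ℕ) (F : (SimplexCategory.Truncated n)ᵒᵖ ⥤ FormalCoproduct.{u} C),
      (SimplexCategory.Truncated.inclusion n).op.HasRightKanExtension F] :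
    Hyper.IsHypercoveringSite J K ↔ IsLocTrivial J K := by
  unfold Hyper.IsHypercoveringSite IsLocTrivial
  rw [locallySurjective_terminal_iff, locallySurjective_pair_iff]
  refine and_congr_right fun _ => ⟨fun h n => ?_, fun h => ⟨h 0, fun n _ => ?_⟩⟩
  · rcases n with _ | n
    · exact h.1
    · exact (unit_covering_iff J K (n + 1)).1
        ((yoneda_map_locallySurjective_iff J _).1 (h.2 (n + 1) (Nat.le_add_left 1 n)))
  · exact (yoneda_map_locallySurjective_iff J _).2 ((unit_covering_iff J K n).2 (h n))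

theorem ptSieve_over_mem_iff (X : C) (Y : FormalCoproduct.{u} (Over X)) :
    (∀ U : Over X, ptSieve Y U ∈ (J.over X) U) ↔
      Sieve.ofArrows (fun i => (Y.obj i).left) (fun i => (Y.obj i).hom) ∈ J X := by
  constructor
  · intro h
    refine J.superset_covering ?_ ((J.mem_over_iff _).1 (h (Over.mk (𝟙 X))))
    intro V g hg
    obtain ⟨x⟩ := (Sieve.overEquiv_iff (Y := Over.mk (𝟙 X)) _ g).1 hg
    refine ⟨_, (x.φ PUnit.unit).left, _, Presieve.ofArrows.mk (x.f PUnit.unit), ?_⟩
    exact (Over.w (x.φ PUnit.unit)).trans (Category.comp_id g)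
  · intro h U
    rw [J.mem_over_iff]
    refine J.superset_covering ?_ (J.pullback_stable U.hom h)
    rintro V g ⟨Z, a, _, ⟨i⟩, e⟩
    rw [Sieve.overEquiv_iff]
    exact ⟨Hom.fromIncl i (Over.homMk a e)⟩

theorem isHypercovering_iff (X : C) (K : SimplicialObject (FormalCoproduct.{u} (Over X)))
    [∀ (n : ℕ) (F : (SimplexCategory.Truncated n)ᵒᵖ ⥤ FormalCoproduct.{u} (Over X)),
      (SimplexCategory.Truncated.inclusion n).op.HasRightKanExtension F] :
    Hyper.IsHypercovering J X K ↔ IsLocTrivial (J.over X) K := by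
  unfold Hyper.IsHypercovering IsLocTrivial
  rw [ptSieve_over_mem_iff]
  exact and_congr_right fun _ => forall_congr' fun n => unit_covering_iff (J.over X) K n

end Groth.Agent.HyperLib
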