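import Groth.Agent.HyperLib.Fibrations
import Mathlib.Algebra.Ring.GeomSum
import Mathlib.Algebra.Module.BigOperators

/-!
# The free chain complex of a hypercovering is a resolution of the constant sheaf
-/

universe u v w

open CategoryTheory CategoryTheory.Limits Opposite Simplicial

namespace Groth.Agent.HyperLib

section

variable {A : Type w} [Category.{v} A] [Preadditive A]

/-- The alternating face map complex of a constant simplicial object. -/
noncomputable abbrev constCx (Z : A) : ChainComplex A ℕ :=
  (AlgebraicTopology.alternatingFaceMapComplex A).obj ((Functor.const _).obj Z)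

lemma constCx_d (Z : A) (n : ℕ) :
    (constCx Z).d (n + 1) n = (if Even n then 0 else 1 : ℤ) • 𝟙 Z := by
  simp only [AlgebraicTopology.alternatingFaceMapComplex_obj_d,
    AlgebraicTopology.AlternatingFaceMapComplex.objD]
  have : ∀ i : Fin (n + 2),
      SimplicialObject.δ ((Functor.const _).obj Z : SimplicialObject A) i = 𝟙 Z := fun i => rfl
  simp only [this]
  erw [← Finset.sum_smul]
  congr 1
  rw [Fin.sum_univ_eq_sum_range (fun i => (-1 : ℤ) ^ i), neg_one_geom_sum]
  simp [Nat.even_add_one]

end

section

variable {A : Type w} [Category.{v} A] [Abelian A] (Z : A)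

lemma isZero_homology_constCx (n : ℕ) : IsZero ((constCx Z).homology (n + 1)) := by
  rw [← HomologicalComplex.exactAt_iff_isZero_homology,
    HomologicalComplex.exactAt_iff' _ (n + 1 + 1) (n + 1) n (by simp) (by simp)]
  rcases Nat.even_or_odd n with h | h
  · have e : (constCx Z).d (n + 1 + 1) (n + 1) = 𝟙 Z := by
      rw [constCx_d, if_neg (by simp [Nat.even_add_one, h]), one_smul]
    rw [ShortComplex.exact_iff_epi _ (show (constCx Z).d (n + 1) n = 0 by
      rw [constCx_d, if_pos h, zero_smul])]
    show Epi ((constCx Z).d (n + 1 + 1) (n + 1))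
    rw [e]
    exact inferInstanceAs (Epi (𝟙 Z))
  · have e : (constCx Z).d (n + 1) n = 𝟙 Z := by
      rw [constCx_d, if_neg (Nat.not_even_iff_odd.2 h), one_smul]
    rw [ShortComplex.exact_iff_mono _ (show (constCx Z).d (n + 1 + 1) (n + 1) = 0 by
      rw [constCx_d, if_pos (Nat.even_add_one.2 (Nat.not_even_iff_odd.2 h)), zero_smul])]
    show Mono ((constCx Z).d (n + 1) n)
    rw [e]
    exact inferInstanceAs (Mono (𝟙 Z))

/-- The homology in degree zero of a constant simplicial object. -/
noncomputable def homologyConstCxZero : (constCx Z).homology 0 ≅ Z :=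
  haveI := (constCx Z).isIso_homologyπ 1 0 (by simp) (by rw [constCx_d]; simp)
  haveI := (constCx Z).isIso_iCycles 0 0 (by simp) (by simp)
  (asIso ((constCx Z).homologyπ 0)).symm ≪≫ asIso ((constCx Z).iCycles 0)

end

variable {C : Type u} [SmallCategory C] (J : GrothendieckTopology C)

/-- The sheafified constant free presheaf. -/
noncomputable abbrev ZSh : Sheaf J AddCommGrpCat.{u} :=
  (presheafToSheaf J AddCommGrpCat.{u}).obj
    ((Functor.const Cᵒᵖ).obj (AddCommGrpCat.free.{u}.obj PUnit.{u + 1}))

/-- The free simplicial sheaf of the point. -/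
noncomputable def scPtIso : SC J (ptS (C := C)) ≅ constCx (ZSh J) :=
  (AlgebraicTopology.alternatingFaceMapComplex _).mapIso
    (Functor.constComp _ _ (freeP ⋙ presheafToSheaf J AddCommGrpCat.{u}) ≪≫
      (Functor.const _).mapIso ((presheafToSheaf J AddCommGrpCat.{u}).mapIso
        (Functor.constComp _ _ AddCommGrpCat.free.{u})))

/-- Comparison with the complex of the Hyper prelude. -/
noncomputable def freeChainCxIso (K : SimplicialObject (FormalCoproduct.{u} C)) :
    Hyper.freeChainCx J K ≅ SC J (K ⋙ el) :=
  (AlgebraicTopology.alternatingFaceMapComplex _).mapIso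
    (Functor.isoWhiskerRight (Functor.isoWhiskerLeft K yonedaIsoEl)
      (freeP ⋙ presheafToSheaf J AddCommGrpCat.{u}))

/-- The homology of the free chain complex of a locally trivial semi-representable object. -/
theorem exists_freeChainCx_homologyIso {K : SimplicialObject (FormalCoproduct.{u} C)}
    (hK : IsLocTrivial J K) (p : ℕ) :
    Nonempty ((Hyper.freeChainCx J K).homology p ≅ (constCx (ZSh J)).homology p) :=
  ⟨(HomologicalComplex.homologyFunctor _ _ p).mapIso (freeChainCxIso J K) ≪≫
    @asIso _ _ _ _ (HomologicalComplex.homologyMap (scMap J (toPtS K)) p)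
      (isIso_homologyMap_scMap J (toPtS K) (locFib_toPtS J hK) p) ≪≫
    (HomologicalComplex.homologyFunctor _ _ p).mapIso (scPtIso J)⟩

theorem isZero_homology_freeChainCx {K : SimplicialObject (FormalCoproduct.{u} C)}
    (hK : IsLocTrivial J K) (n : ℕ) : IsZero ((Hyper.freeChainCx J K).homology (n + 1)) :=
  (isZero_homology_constCx (ZSh J) n).of_iso (exists_freeChainCx_homologyIso J hK (n + 1)).some

theorem exists_homologyIso_zero {K : SimplicialObject (FormalCoproduct.{u} C)}
    (hK : IsLocTrivial J K) : Nonempty ((Hyper.freeChainCx J K).homology 0 ≅ ZSh J) :=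
  (exists_freeChainCx_homologyIso J hK 0).map fun e => e ≪≫ homologyConstCxZero _

end Groth.Agent.HyperLib
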