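import Mathlib.AlgebraicTopology.SimplicialObject.Coskeletal
import Mathlib.CategoryTheory.Limits.Shapes.Products

/-!
# The matching objects of coskeleta, via the adjunction only

For a category `D` with copowers by small sets, a morphism `P ⟶ (cosk_n sk_n K)_{n+1}` is the same as a
family of `n + 2` morphisms `P ⟶ K_n` which agree on the common faces.
-/

universe v w

open CategoryTheory CategoryTheory.Limits Opposite Simplicial

namespace Groth.Agent.HyperLib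

variable {D : Type w} [Category.{v} D] (K : SimplicialObject D) {n : ℕ}

/-- A family of `n + 2` generalized `n`-simplices agreeing on all common faces. -/
def IsBdry (n : ℕ) (P : D) (y : Fin (n + 2) → (P ⟶ K _⦋n⦌)) : Prop :=
  ∀ ⦃Δ : SimplexCategory⦄ (_ : Δ.len ≤ n) (φ ψ : Δ ⟶ ⦋n⦌) (a b : Fin (n + 2)),
    φ ≫ SimplexCategory.δ a = ψ ≫ SimplexCategory.δ b → y a ≫ K.map φ.op = y b ≫ K.map ψ.op

lemma isBdry_faces {P : D} (x : P ⟶ K _⦋n + 1⦌) : IsBdry K n P (fun i => x ≫ K.δ i) := by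
  intro Δ _ φ ψ a b h
  simp only [SimplicialObject.δ, Category.assoc, ← Functor.map_comp, ← op_comp, h]

/-- A map to `⦋n+1⦌` from a small simplex misses a vertex. -/
lemma exists_eq_comp_δ {Δ : SimplexCategory} (hΔ : Δ.len ≤ n) (φ : Δ ⟶ ⦋n + 1⦌) :
    ∃ (a : Fin (n + 2)) (φ' : Δ ⟶ ⦋n⦌), φ = φ' ≫ SimplexCategory.δ a := by
  refine SimplexCategory.eq_comp_δ_of_not_surjective φ fun h => ?_
  have := Fintype.card_le_of_surjective _ h
  simp only [Fintype.card_fin] at this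
  change n + 1 + 1 ≤ Δ.len + 1 at this
  omega

variable [∀ α : Type, HasColimitsOfShape (Discrete α) D]

/-- The copower of `P` by the simplices of a standard simplex. -/
noncomputable def copow (P : D) (q : ℕ) : SimplicialObject D where
  obj Δ := ∐ fun _ : (unop Δ ⟶ ⦋q⦌) => P
  map θ := Sigma.desc fun φ => Sigma.ι (fun _ => P) (θ.unop ≫ φ)
  map_id Δ := Sigma.hom_ext _ _ fun φ => by simp
  map_comp θ θ' := Sigma.hom_ext _ _ fun φ => by simp

/-- The structure maps of the copower. -/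
noncomputable def cι (P : D) {q : ℕ} {Δ : SimplexCategoryᵒᵖ} (φ : unop Δ ⟶ ⦋q⦌) :
    P ⟶ (copow P q).obj Δ :=
  Sigma.ι (fun _ : (unop Δ ⟶ ⦋q⦌) => P) φ

lemma copow_hom_ext {P : D} {q : ℕ} {Δ : SimplexCategoryᵒᵖ} {T : D}
    {f g : (copow P q).obj Δ ⟶ T} (h : ∀ φ, cι P φ ≫ f = cι P φ ≫ g) : f = g :=
  Sigma.hom_ext _ _ h

/-- A morphism out of the copower in one degree. -/
noncomputable def cdesc {P : D} {q : ℕ} {Δ : SimplexCategoryᵒᵖ} {T : D}
    (f : (unop Δ ⟶ ⦋q⦌) → (P ⟶ T)) : (copow P q).obj Δ ⟶ T :=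
  Sigma.desc f

@[reassoc (attr := simp)]
lemma cι_cdesc {P : D} {q : ℕ} {Δ : SimplexCategoryᵒᵖ} {T : D}
    (f : (unop Δ ⟶ ⦋q⦌) → (P ⟶ T)) (φ : unop Δ ⟶ ⦋q⦌) : cι P φ ≫ cdesc f = f φ :=
  Sigma.ι_desc _ _

@[reassoc (attr := simp)]
lemma cι_map {P : D} {q : ℕ} {Δ Δ' : SimplexCategoryᵒᵖ} (θ : Δ ⟶ Δ') (φ : unop Δ ⟶ ⦋q⦌) :
    cι P φ ≫ (copow P q).map θ = cι P (θ.unop ≫ φ) :=
  Sigma.ι_desc _ _

/-- The classifying map of a generalized simplex. -/
noncomputable def ofSimplex {P : D} {q : ℕ} {T : SimplicialObject D} (t : P ⟶ T _⦋q⦌) :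
    copow P q ⟶ T where
  app Δ := cdesc fun φ => t ≫ T.map φ.op
  naturality Δ Δ' θ := copow_hom_ext fun φ => by simp

@[reassoc (attr := simp)]
lemma cι_ofSimplex {P : D} {q : ℕ} {T : SimplicialObject D} (t : P ⟶ T _⦋q⦌)
    {Δ : SimplexCategoryᵒᵖ} (φ : unop Δ ⟶ ⦋q⦌) :
    cι P φ ≫ (ofSimplex t).app Δ = t ≫ T.map φ.op :=
  cι_cdesc _ _

lemma ι_ofSimplex_id {P : D} {q : ℕ} {T : SimplicialObject D} (t : P ⟶ T _⦋q⦌) :
    cι P (Δ := op ⦋q⦌) (𝟙 _) ≫ (ofSimplex t).app (op ⦋q⦌) = t := by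
  simp

set_option linter.unusedSectionVars false

variable [∀ F : (SimplexCategory.Truncated n)ᵒᵖ ⥤ D,
  (SimplexCategory.Truncated.inclusion n).op.HasRightKanExtension F]

/-- The counit of the coskeleton adjunction in degree `Δ`. -/
noncomputable abbrev ε (Δ : SimplexCategory) (h : Δ.len ≤ n) :
    ((SimplicialObject.cosk n).obj K).obj (op Δ) ⟶ K.obj (op Δ) :=
  ((SimplicialObject.coskAdj n).counit.app ((SimplicialObject.truncation n).obj K)).app (op ⟨Δ, h⟩)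

lemma ε_naturality {Δ Δ' : SimplexCategory} (h : Δ.len ≤ n) (h' : Δ'.len ≤ n) (φ : Δ ⟶ Δ') :
    ((SimplicialObject.cosk n).obj K).map φ.op ≫ ε K Δ h = ε K Δ' h' ≫ K.map φ.op :=
  ((SimplicialObject.coskAdj n).counit.app ((SimplicialObject.truncation n).obj K)).naturality
    (SimplexCategory.Truncated.Hom.tr φ h h').op

lemma unit_ε {Δ : SimplexCategory} (h : Δ.len ≤ n) :
    ((SimplicialObject.coskAdj n).unit.app K).app (op Δ) ≫ ε K Δ h = 𝟙 _ :=
  congr_app ((SimplicialObject.coskAdj n).left_triangle_components K) (op ⟨Δ, h⟩)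

/-- The boundary of a generalized simplex of the matching object. -/
noncomputable def bd {P : D} (h : P ⟶ ((SimplicialObject.cosk n).obj K) _⦋n + 1⦌) (i : Fin (n + 2)) :
    P ⟶ K _⦋n⦌ :=
  h ≫ ((SimplicialObject.cosk n).obj K).δ i ≫ ε K ⦋n⦌ le_rfl

lemma bd_spec {P : D} (h : P ⟶ ((SimplicialObject.cosk n).obj K) _⦋n + 1⦌) {Δ : SimplexCategory}
    (hΔ : Δ.len ≤ n) (φ : Δ ⟶ ⦋n⦌) (a : Fin (n + 2)) :
    bd K h a ≫ K.map φ.op =
      h ≫ ((SimplicialObject.cosk n).obj K).map (φ ≫ SimplexCategory.δ a).op ≫ ε K Δ hΔ := by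
  simp only [bd, SimplicialObject.δ, Category.assoc, op_comp, Functor.map_comp]
  rw [ε_naturality K hΔ le_rfl φ]

lemma isBdry_bd {P : D} (h : P ⟶ ((SimplicialObject.cosk n).obj K) _⦋n + 1⦌) :
    IsBdry K n P (bd K h) := by
  intro Δ hΔ φ ψ a b e
  rw [bd_spec K h hΔ, bd_spec K h hΔ, e]

lemma bd_comp {P Q : D} (g : Q ⟶ P) (h : P ⟶ ((SimplicialObject.cosk n).obj K) _⦋n + 1⦌)
    (i : Fin (n + 2)) : bd K (g ≫ h) i = g ≫ bd K h i := by
  simp [bd]

lemma bd_unit {P : D} (x : P ⟶ K _⦋n + 1⦌) (i : Fin (n + 2)) :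
    bd K (x ≫ ((SimplicialObject.coskAdj n).unit.app K).app (op ⦋n + 1⦌)) i = x ≫ K.δ i := by
  simp only [bd, SimplicialObject.δ, Category.assoc]
  congr 1
  erw [← ((SimplicialObject.coskAdj n).unit.app K).naturality_assoc (SimplexCategory.δ i).op]
  erw [unit_ε K]
  exact Category.comp_id _

lemma bd_injective {P : D} {h h' : P ⟶ ((SimplicialObject.cosk n).obj K) _⦋n + 1⦌}
    (e : ∀ i, bd K h i = bd K h' i) : h = h' := by
  have : ofSimplex h = ofSimplex (T := (SimplicialObject.cosk n).obj K) h' := by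
    refine ((SimplicialObject.coskAdj n).homEquiv _ _).symm.injective ?_
    simp only [Adjunction.homEquiv_counit]
    ext ⟨Δ, hΔ⟩
    refine copow_hom_ext (Δ := op Δ) fun φ => ?_
    obtain ⟨a, φ', rfl⟩ := exists_eq_comp_δ hΔ φ
    have key : ∀ t : P ⟶ ((SimplicialObject.cosk n).obj K) _⦋n + 1⦌,
        cι P (Δ := op Δ) (φ' ≫ SimplexCategory.δ a) ≫ (ofSimplex t).app (op Δ) ≫ ε K Δ hΔ =
          bd K t a ≫ K.map φ'.op := by
      intro t
      rw [bd_spec K t hΔ, cι_ofSimplex_assoc]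
    exact (key h).trans ((congrArg (fun z => z ≫ K.map φ'.op) (e a)).trans (key h').symm)
  rw [← ι_ofSimplex_id h, this, ι_ofSimplex_id]

lemma exists_bd {P : D} (y : Fin (n + 2) → (P ⟶ K _⦋n⦌)) (hy : IsBdry K n P y) :
    ∃ h : P ⟶ ((SimplicialObject.cosk n).obj K) _⦋n + 1⦌, ∀ i, bd K h i = y i := by
  classical
  choose a φ' hφ using fun (Δ : SimplexCategory.Truncated n) (φ : Δ.obj ⟶ ⦋n + 1⦌) =>
    exists_eq_comp_δ Δ.property φ
  let τ : (SimplicialObject.truncation n).obj (copow P (n + 1)) ⟶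
      (SimplicialObject.truncation n).obj K :=
    { app := fun Δ => cdesc (Δ := op (unop Δ).obj)
        fun φ => y (a (unop Δ) φ) ≫ K.map (φ' (unop Δ) φ).op
      naturality := fun Δ Δ' θ => copow_hom_ext fun φ => by
        refine (cι_map_assoc _ _ _).trans ((cι_cdesc _ _).trans ?_)
        refine Eq.trans ?_ (cι_cdesc_assoc (T := K.obj (op (unop Δ).obj)) _ φ _).symm
        refine Eq.trans ?_ (Category.assoc _ _ _).symm
        refine Eq.trans ?_ (congrArg (fun z => y (a (unop Δ) φ) ≫ z)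
          (K.map_comp (φ' (unop Δ) φ).op θ.unop.hom.op))
        refine hy (unop Δ').property _ (θ.unop.hom ≫ φ' (unop Δ) φ) _ _ ?_
        exact ((hφ _ _).symm).trans ((congrArg (fun z => θ.unop.hom ≫ z) (hφ _ φ)).trans
          (Category.assoc _ _ _).symm) }
  let τ' := (SimplicialObject.coskAdj n).homEquiv _ _ τ
  refine ⟨cι P (Δ := op ⦋n + 1⦌) (𝟙 _) ≫ τ'.app (op ⦋n + 1⦌), fun i => ?_⟩
  have e : (SimplicialObject.truncation n).map τ' ≫
      (SimplicialObject.coskAdj n).counit.app ((SimplicialObject.truncation n).obj K) = τ := by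
    exact ((SimplicialObject.coskAdj n).homEquiv_counit _ _ τ').symm.trans (Equiv.symm_apply_apply _ _)
  simp only [bd, SimplicialObject.δ, Category.assoc]
  erw [← τ'.naturality_assoc (SimplexCategory.δ i).op, cι_map_assoc]
  refine (congrArg (fun z => cι P (Δ := op ⦋n⦌) ((SimplexCategory.δ i).op.unop ≫ 𝟙 _) ≫ z)
    (congr_app e (op ⟨⦋n⦌, le_rfl⟩))).trans ?_
  refine (cι_cdesc (Δ := op ⦋n⦌) (P := P) (q := n + 1) _ _).trans ?_
  refine (hy le_rfl (φ' ⟨⦋n⦌, le_rfl⟩ _) (𝟙 _) _ i ?_).trans ?_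
  · refine (hφ _ _).symm.trans ?_
    simp
  · simp

end Groth.Agent.HyperLib
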