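import Groth.Prelude.Def_Hyper
import Groth.Agent.HyperLib.Coskel

/-!
# Elementwise description of coverings of semi-representable objects and of hypercoverings
-/

universe u

open CategoryTheory CategoryTheory.Limits Opposite Simplicial

namespace Groth.Agent.HyperLib

variable {C : Type u} [SmallCategory C]

open FormalCoproduct

/-- The restricted Yoneda functor: `U`-points of a formal coproduct are maps from `incl U`. -/
abbrev el : FormalCoproduct.{u} C ⥤ Cᵒᵖ ⥤ Type u :=
  CategoryTheory.yoneda ⋙ (Functor.whiskeringLeft _ _ (Type u)).obj (incl C).op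

/-- The point of an index. -/
abbrev pt (X : FormalCoproduct.{u} C) (i : X.I) : (incl C).obj (X.obj i) ⟶ X :=
  Hom.fromIncl i (𝟙 _)

lemma fc_ext {X Y : FormalCoproduct.{u} C} {f g : X ⟶ Y} (h : ∀ i, pt X i ≫ f = pt X i ≫ g) :
    f = g := by
  rw [hom_ext_iff']
  intro i
  obtain ⟨h₁, h₂⟩ := (hom_ext_iff _ _).1 (h i)
  refine ⟨congrFun h₁ PUnit.unit, ?_⟩
  have e : (𝟙 _ ≫ f.φ i) ≫ eqToHom _ = 𝟙 _ ≫ g.φ i := h₂ PUnit.unit
  simpa using e

/-- Glue a family of points. -/
def descPts {X Y : FormalCoproduct.{u} C} (h : ∀ i, (incl C).obj (X.obj i) ⟶ Y) : X ⟶ Y :=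
  ⟨fun i => (h i).f PUnit.unit, fun i => (h i).φ PUnit.unit⟩

lemma pt_descPts {X Y : FormalCoproduct.{u} C} (h : ∀ i, (incl C).obj (X.obj i) ⟶ Y) (i : X.I) :
    pt X i ≫ descPts h = h i :=
  hom_ext (funext fun _ => rfl) fun _ => by
    refine (Category.comp_id _).trans ?_
    exact Category.id_comp _

lemma incl_map_fromIncl {U V : C} {X : FormalCoproduct.{u} C} (g : V ⟶ U) (i : X.I)
    (f : U ⟶ X.obj i) :
    (incl C).map g ≫ Hom.fromIncl i f = Hom.fromIncl i (g ≫ f) :=
  hom_ext (funext fun _ => rfl) fun _ => by exact Category.comp_id _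

lemma fromIncl_eq {U : C} {X : FormalCoproduct.{u} C} (x : (incl C).obj U ⟶ X) :
    x = (incl C).map (x.φ PUnit.unit) ≫ pt X (x.f PUnit.unit) := by
  rw [incl_map_fromIncl, Category.comp_id]
  exact (Hom.fromIncl_asSigma x).symm

/-- The sieve of local lifts of a point along a morphism. -/
def liftSieve {K L : FormalCoproduct.{u} C} (f : K ⟶ L) {U : C} (y : (incl C).obj U ⟶ L) :
    Sieve U where
  arrows V g := ∃ x : (incl C).obj V ⟶ K, x ≫ f = (incl C).map g ≫ y
  downward_closed := by
    rintro V W g ⟨x, hx⟩ k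
    exact ⟨(incl C).map k ≫ x, by rw [Category.assoc, hx, Functor.map_comp, Category.assoc]⟩

variable (J : GrothendieckTopology C)

/-- Covering morphisms are the morphisms with local lifts of points. -/
theorem isSRCovering_iff {K L : FormalCoproduct.{u} C} (f : K ⟶ L) :
    Hyper.IsSRCovering J f ↔ ∀ (U : C) (y : (incl C).obj U ⟶ L), liftSieve f y ∈ J U := by
  constructor
  · intro hf U y
    refine J.superset_covering ?_ (J.pullback_stable (y.φ PUnit.unit) (hf (y.f PUnit.unit)))
    rintro V g ⟨Z, a, _, ⟨⟨i, hi⟩⟩, e⟩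
    refine ⟨Hom.fromIncl i a, ?_⟩
    rw [hom_ext_iff']
    intro _
    refine ⟨hi, ?_⟩
    exact (Category.assoc _ _ _).trans e
  · intro h j
    refine J.superset_covering ?_ (h (L.obj j) (pt L j))
    rintro V g ⟨x, hx⟩
    obtain ⟨h₁, h₂⟩ := (hom_ext_iff _ _).1 hx
    have e : (x.φ PUnit.unit ≫ f.φ _) ≫ eqToHom _ = g ≫ 𝟙 _ := h₂ PUnit.unit
    refine ⟨_, x.φ PUnit.unit, _,
      Presieve.ofArrows.mk (⟨x.f PUnit.unit, congrFun h₁ PUnit.unit⟩ :
        {i : K.I // f.f i = j}), ?_⟩
    exact ((Category.assoc _ _ _).symm.trans e).trans (Category.comp_id _)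

theorem isSRCovering_iff_locallySurjective {K L : FormalCoproduct.{u} C} (f : K ⟶ L) :
    Hyper.IsSRCovering J f ↔ Presheaf.IsLocallySurjective J (el.map f) :=
  (isSRCovering_iff J f).trans
    ⟨fun h => ⟨fun {U} y => h U y⟩, fun h U y => h.1 y⟩

/-- The points form a coproduct of representable presheaves. -/
def elCofan (X : FormalCoproduct.{u} C) : Cofan fun i => CategoryTheory.yoneda.obj (X.obj i) :=
  Cofan.mk (el.obj X) fun i =>
    { app := fun _ => ↾fun g => (incl C).map g ≫ pt X i
      naturality := fun V W k => by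
        ext g
        exact ((congrArg (fun z => z ≫ pt X i) ((incl C).map_comp k.unop g)).trans
          (Category.assoc _ _ _) :) }

/-- The points form a coproduct of representable presheaves. -/
noncomputable def isColimitElCofan (X : FormalCoproduct.{u} C) : IsColimit (elCofan X) :=
  Cofan.IsColimit.mk _
    (fun s =>
      { app := fun _ => ↾fun x => (s.inj (x.f PUnit.unit)).app _ (x.φ PUnit.unit)
        naturality := fun V W k => by
          ext x
          exact ((s.inj (x.f PUnit.unit)).naturality_apply k (x.φ PUnit.unit) :) })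
    (fun s i => by
      ext V g
      show (s.inj i).app _ (g ≫ 𝟙 _) = _
      rw [Category.comp_id]
      rfl)
    (fun s m hm => by
      ext V x
      have e := ConcreteCategory.congr_hom (congr_app (hm (x.f PUnit.unit)) V) (x.φ PUnit.unit)
      exact ((congrArg (fun z => (m.app V) z) (fromIncl_eq x)).trans e :))

/-- `FormalCoproduct.yoneda` is the functor of points. -/
noncomputable def yonedaIsoEl : FormalCoproduct.yoneda ≅ el (C := C) :=
  NatIso.ofComponents
    (fun X => (coproductIsCoproduct _).coconePointUniqueUpToIso (isColimitElCofan X))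
    (fun {X Y} f => Sigma.hom_ext _ _ fun i => by
      have e : ∀ (Z : FormalCoproduct.{u} C) (k : Z.I), Sigma.ι (fun j => CategoryTheory.yoneda.obj (Z.obj j)) k ≫
          ((coproductIsCoproduct _).coconePointUniqueUpToIso (isColimitElCofan Z)).hom =
          (elCofan Z).inj k :=
        fun Z k => IsColimit.comp_coconePointUniqueUpToIso_hom _ _ (Discrete.mk k)
      erw [Sigma.ι_desc_assoc, reassoc_of% (e X i)]
      erw [Category.assoc, e Y (f.f i)]
      ext V g
      show (incl C).map (g ≫ f.φ i) ≫ pt Y (f.f i) = ((incl C).map g ≫ pt X i) ≫ f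
      rw [Functor.map_comp, Category.assoc, Category.assoc]
      congr 1
      rw [incl_map_fromIncl, Category.comp_id]
      exact hom_ext (funext fun _ => rfl) fun _ => by
        refine (Category.comp_id _).trans ?_
        exact (Category.id_comp _).symm)

theorem yoneda_map_locallySurjective_iff {K L : FormalCoproduct.{u} C} (f : K ⟶ L) :
    Presheaf.IsLocallySurjective J (FormalCoproduct.yoneda.map f) ↔ Hyper.IsSRCovering J f := by
  rw [isSRCovering_iff_locallySurjective]
  have e := yonedaIsoEl.hom.naturality f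
  constructor
  · intro h
    have : Presheaf.IsLocallySurjective J (yonedaIsoEl.hom.app K ≫ el.map f) := by
      rw [← e]
      infer_instance
    exact Presheaf.isLocallySurjective_of_isLocallySurjective J (yonedaIsoEl.hom.app K) _
  · intro h
    have : FormalCoproduct.yoneda.map f =
        yonedaIsoEl.hom.app K ≫ el.map f ≫ inv (yonedaIsoEl.hom.app L) := by
      rw [← Category.assoc, ← e, Category.assoc, IsIso.hom_inv_id, Category.comp_id]
    rw [this]
    infer_instance

instance (α : Type) : HasColimitsOfShape (Discrete α) (FormalCoproduct.{u} C) :=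
  hasColimitsOfShape_of_equivalence (Discrete.equivalence Equiv.ulift.{u})

/-- The presheaf `U ↦ liftings`: every boundary can be filled locally. -/
def Fills (K : SimplicialObject (FormalCoproduct.{u} C)) (n : ℕ) : Prop :=
  ∀ (U : C) (y : Fin (n + 2) → ((incl C).obj U ⟶ K _⦋n⦌)), IsBdry K n _ y →
    ∃ S : Sieve U, S ∈ J U ∧ ∀ ⦃V : C⦄ (g : V ⟶ U), S g →
      ∃ x : (incl C).obj V ⟶ K _⦋n + 1⦌, ∀ i, x ≫ K.δ i = (incl C).map g ≫ y i

lemma IsBdry.comp {D : Type*} [Category D] {K : SimplicialObject D} {n : ℕ} {P Q : D}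
    {y : Fin (n + 2) → (P ⟶ K _⦋n⦌)} (hy : IsBdry K n P y) (g : Q ⟶ P) :
    IsBdry K n Q fun i => g ≫ y i := by
  intro Δ hΔ φ ψ a b e
  simp only [Category.assoc]
  rw [hy hΔ φ ψ a b e]

theorem unit_covering_iff (K : SimplicialObject (FormalCoproduct.{u} C)) (n : ℕ)
    [∀ F : (SimplexCategory.Truncated n)ᵒᵖ ⥤ FormalCoproduct.{u} C,
      (SimplexCategory.Truncated.inclusion n).op.HasRightKanExtension F] :
    Hyper.IsSRCovering J (((SimplicialObject.coskAdj n).unit.app K).app (op ⦋n + 1⦌)) ↔
      Fills J K n := by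
  rw [isSRCovering_iff]
  constructor
  · intro h U y hy
    obtain ⟨z, hz⟩ := exists_bd K y hy
    refine ⟨_, h U z, ?_⟩
    rintro V g ⟨x, hx⟩
    refine ⟨x, fun i => ?_⟩
    exact (bd_unit K x i).symm.trans
      ((congrArg (fun w => bd K w i) hx).trans ((bd_comp K _ z i).trans (by rw [hz])))
  · intro h U z
    obtain ⟨S, hS, hS'⟩ := h U (bd K z) (isBdry_bd K z)
    refine J.superset_covering ?_ hS
    intro V g hg
    obtain ⟨x, hx⟩ := hS' g hg
    refine ⟨x, bd_injective K fun i => ?_⟩
    exact (bd_unit K x i).trans ((hx i).trans (bd_comp K _ z i).symm)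

/-- The sieve of arrows from objects having a point of `X`. -/
def ptSieve (X : FormalCoproduct.{u} C) (U : C) : Sieve U where
  arrows V _ := Nonempty ((incl C).obj V ⟶ X)
  downward_closed := by
    rintro V W g ⟨x⟩ k
    exact ⟨(incl C).map k ≫ x⟩

/-- A hypercovering of the final object, elementwise. -/
def IsLocTrivial (K : SimplicialObject (FormalCoproduct.{u} C)) : Prop :=
  (∀ U : C, ptSieve (K _⦋0⦌) U ∈ J U) ∧ ∀ n, Fills J K n

end Groth.Agent.HyperLib
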