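import Groth.Agent.HyperLib.Cochain
import Groth.Agent.SpObjSS.ExactCx
import Mathlib.Algebra.Homology.ConcreteCategory

/-!
# The Cech complex functor of a simplicial semi-representable object; degree zero
-/

universe u

open CategoryTheory CategoryTheory.Limits Opposite Simplicial

namespace Groth.Agent.HyperLib

open FormalCoproduct

variable {C : Type u} [SmallCategory C]

/-- The Cech complex functor. -/
noncomputable abbrev cech (K : SimplicialObject (FormalCoproduct.{u} C)) :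
    (Cᵒᵖ ⥤ AddCommGrpCat.{u}) ⥤ CochainComplex AddCommGrpCat.{u} ℕ :=
  FormalCoproduct.cochainComplexFunctor K

variable (K : SimplicialObject (FormalCoproduct.{u} C))

lemma cpr_cech_map {P Q : Cᵒᵖ ⥤ AddCommGrpCat.{u}} (φ : P ⟶ Q) (n : ℕ)
    (x : (cochT P).obj (op (K _⦋n⦌))) (i : (K _⦋n⦌).I) :
    cpr (P := Q) i (((cech K).map φ).f n x) = φ.app (op ((K _⦋n⦌).obj i)) (cpr i x) :=
  ConcreteCategory.congr_hom (Pi.map_π (fun i => φ.app (op ((K _⦋n⦌).obj i))) i) x

instance : (cech K).Additive where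
  map_add {P Q f g} := by
    ext n x
    refine cochT_ext (P := Q) (A := K _⦋n⦌) fun i => ?_
    refine (cpr_cech_map K (f + g) n x i).trans ?_
    refine Eq.trans ?_ ((cpr (P := Q) (A := K _⦋n⦌) i).hom.map_add _ _).symm
    exact congrArg₂ (· + ·) (cpr_cech_map K f n x i).symm (cpr_cech_map K g n x i).symm

lemma cech_shortExact (S : ShortComplex (Cᵒᵖ ⥤ AddCommGrpCat.{u})) (hS : S.ShortExact) :
    (S.map (cech K)).ShortExact := by
  have hev := fun W : C => hS.map_of_exact ((evaluation Cᵒᵖ AddCommGrpCat.{u}).obj (op W))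
  refine HomologicalComplex.shortExact_of_degreewise_shortExact _ fun n => ?_
  have hm : Mono (((cech K).map S.f).f n) :=
    (AddCommGrpCat.mono_iff_injective _).2 fun a b hab => cochT_ext fun i => by
      refine (AddCommGrpCat.mono_iff_injective _).1 (hev ((K _⦋n⦌).obj i)).mono_f ?_
      exact (cpr_cech_map K S.f n a i).symm.trans
        ((congrArg (cpr (P := S.X₂) i) hab).trans (cpr_cech_map K S.f n b i))
  have he : Epi (((cech K).map S.g).f n) :=
    (AddCommGrpCat.epi_iff_surjective _).2 fun z => by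
      choose t ht using fun i => (AddCommGrpCat.epi_iff_surjective _).1
        (hev ((K _⦋n⦌).obj i)).epi_g (cpr (P := S.X₃) i z)
      obtain ⟨x, hx⟩ := cochT_exists (P := S.X₂) t
      exact ⟨x, cochT_ext fun i => (cpr_cech_map K S.g n x i).trans
        ((congrArg _ (hx i)).trans (ht i))⟩
  refine ShortComplex.ShortExact.mk' ?_ hm he
  rw [ShortComplex.ab_exact_iff]
  intro x hx
  have key : ∀ i, ∃ t, S.f.app (op ((K _⦋n⦌).obj i)) t = cpr (P := S.X₂) i x := fun i => by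
    refine (ShortComplex.ab_exact_iff _).1 (hev ((K _⦋n⦌).obj i)).exact _ ?_
    exact (cpr_cech_map K S.g n x i).symm.trans
      ((congrArg (cpr (P := S.X₃) i) hx).trans (map_zero _))
  choose t ht using key
  obtain ⟨y, hy⟩ := cochT_exists (P := S.X₁) t
  exact ⟨y, cochT_ext fun i => (cpr_cech_map K S.f n y i).trans ((congrArg _ (hy i)).trans (ht i))⟩

variable {K}

lemma cpr_d_zero {P : Cᵒᵖ ⥤ AddCommGrpCat.{u}} (x : (cochT P).obj (op (K _⦋0⦌)))
    (j : (K _⦋1⦌).I) :
    cpr (P := P) j (((cech K).obj P).d 0 1 x) =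
      P.map ((K.δ (0 : Fin 2)).φ j).op (cpr ((K.δ (0 : Fin 2)).f j) x) -
        P.map ((K.δ (1 : Fin 2)).φ j).op (cpr ((K.δ (1 : Fin 2)).f j) x) := by
  rw [show ((cech K).obj P).d 0 1 =
      ∑ i : Fin 2, (-1 : ℤ) ^ (i : ℕ) • (cochT P).map (K.δ i).op from cechCxSite_d K P 0]
  erw [sum_zsmul_apply, map_sum, Fin.sum_univ_two, map_zsmul, map_zsmul, cpr_map, cpr_map]
  simp [sub_eq_add_neg]

/-- The value of a cochain of degree zero at a point. -/
noncomputable def pval {P : Cᵒᵖ ⥤ AddCommGrpCat.{u}} (x : (cochT P).obj (op (K _⦋0⦌))) {V : C}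
    (a : (incl C).obj V ⟶ K _⦋0⦌) : P.obj (op V) :=
  P.map (a.φ PUnit.unit).op (cpr (a.f PUnit.unit) x)

lemma pval_comp {P : Cᵒᵖ ⥤ AddCommGrpCat.{u}} (x : (cochT P).obj (op (K _⦋0⦌))) {V W : C}
    (g : W ⟶ V) (a : (incl C).obj V ⟶ K _⦋0⦌) :
    pval x ((incl C).map g ≫ a) = P.map g.op (pval x a) := by
  exact ConcreteCategory.congr_hom (P.map_comp (Hom.φ a PUnit.unit).op g.op) (cpr (Hom.f a PUnit.unit) x)

lemma pval_face {P : Cᵒᵖ ⥤ AddCommGrpCat.{u}} {x : (cochT P).obj (op (K _⦋0⦌))}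
    (hx : ((cech K).obj P).d 0 1 x = 0) {W : C} (z : (incl C).obj W ⟶ K _⦋1⦌) :
    pval x (z ≫ K.δ (0 : Fin 2)) = pval x (z ≫ K.δ (1 : Fin 2)) := by
  have h := (cpr_d_zero x (z.f PUnit.unit)).symm.trans
    ((congrArg (cpr (P := P) (z.f PUnit.unit)) hx).trans (map_zero _))
  rw [sub_eq_zero] at h
  show P.map (z.φ PUnit.unit ≫ (K.δ (0 : Fin 2)).φ _).op (cpr _ x) =
    P.map (z.φ PUnit.unit ≫ (K.δ (1 : Fin 2)).φ _).op (cpr _ x)
  rw [op_comp, op_comp, Functor.map_comp, Functor.map_comp, ConcreteCategory.comp_apply,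
    ConcreteCategory.comp_apply]
  exact congrArg _ h

variable {J : GrothendieckTopology C}

/-- Degree-zero cocycles of a sheaf are global sections. -/
theorem exists_glue_cocycle (hK : IsLocTrivial J K) (F : Sheaf J AddCommGrpCat.{u})
    (x : (cochT F.obj).obj (op (K _⦋0⦌))) (hx : ((cech K).obj F.obj).d 0 1 x = 0) :
    ∃ s : ∀ U : C, F.obj.obj (op U), (∀ (U V : C) (g : V ⟶ U), F.obj.map g.op (s U) = s V) ∧
      ∀ i, cpr i x = s ((K _⦋0⦌).obj i) := by
  have hF : Presieve.IsSheaf J (F.obj ⋙ CategoryTheory.forget AddCommGrpCat.{u}) :=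
    (isSheaf_iff_isSheaf_of_type J _).1
      ((Presheaf.isSheaf_iff_isSheaf_comp J F.obj (CategoryTheory.forget AddCommGrpCat.{u})).1 F.2)
  have hsep : ∀ {U : C} (s t : F.obj.obj (op U)) (S : Sieve U), S ∈ J U →
      (∀ ⦃V : C⦄ (g : V ⟶ U), S g → F.obj.map g.op s = F.obj.map g.op t) → s = t :=
    fun {U} s t S hS h => ((hF S hS).isSeparatedFor).ext fun V g hg => h g hg
  have key : ∀ (V : C) (a b : (incl C).obj V ⟶ K _⦋0⦌), pval x a = pval x b := by
    intro V a b
    obtain ⟨S, hS, hS'⟩ := hK.2 0 V ![a, b] (isBdry_zero _)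
    refine hsep _ _ S hS fun W g hg => ?_
    obtain ⟨z, hz⟩ := hS' g hg
    rw [← pval_comp, ← pval_comp,
      ← show z ≫ K.δ (0 : Fin 2) = (incl C).map g ≫ a from hz 0,
      ← show z ≫ K.δ (1 : Fin 2) = (incl C).map g ≫ b from hz 1]
    exact pval_face hx z
  have hex : ∀ U : C, ∃ s : F.obj.obj (op U), ∀ (V : C) (g : V ⟶ U)
      (a : (incl C).obj V ⟶ K _⦋0⦌), F.obj.map g.op s = pval x a := by
    intro U
    let fam : Presieve.FamilyOfElements (F.obj ⋙ CategoryTheory.forget AddCommGrpCat.{u})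
        (ptSieve (K _⦋0⦌) U).arrows := fun V g hg => pval x hg.some
    have hfam : fam.Compatible := fun Y₁ Y₂ Z g₁ g₂ f₁ f₂ h₁ h₂ _ => by
      show F.obj.map g₁.op (pval x h₁.some) = F.obj.map g₂.op (pval x h₂.some)
      rw [← pval_comp, ← pval_comp]
      exact key _ _ _
    refine ⟨(hF _ (hK.1 U)).amalgamate fam hfam, fun V g a => ?_⟩
    exact ((hF _ (hK.1 U)).valid_glue hfam g ⟨a⟩).trans (key _ _ _)
  choose s hs using hex
  refine ⟨s, fun U V g => hsep _ _ _ (hK.1 V) fun W k hk => ?_, fun i => ?_⟩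
  · obtain ⟨a⟩ := hk
    rw [hs V W k a, ← ConcreteCategory.comp_apply, ← Functor.map_comp, ← op_comp]
    exact hs U W (k ≫ g) a
  · have := hs _ _ (𝟙 ((K _⦋0⦌).obj i)) (pt (K _⦋0⦌) i)
    have e : pval x (pt (K _⦋0⦌) i) = cpr i x := by
      show F.obj.map (𝟙 _).op (cpr i x) = cpr i x
      simp
    rw [e] at this
    simpa using this.symm

lemma sections_ext (hK : IsLocTrivial J K) (F : Sheaf J AddCommGrpCat.{u}) {U : C}
    {s t : F.obj.obj (op U)}
    (h : ∀ (V : C) (g : V ⟶ U) (_ : (incl C).obj V ⟶ K _⦋0⦌), F.obj.map g.op s = F.obj.map g.op t) :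
    s = t := by
  have hF : Presieve.IsSheaf J (F.obj ⋙ CategoryTheory.forget AddCommGrpCat.{u}) :=
    (isSheaf_iff_isSheaf_of_type J _).1
      ((Presheaf.isSheaf_iff_isSheaf_comp J F.obj (CategoryTheory.forget AddCommGrpCat.{u})).1 F.2)
  exact (hF _ (hK.1 U)).isSeparatedFor.ext fun V g ⟨a⟩ => h V g a

/-- An element of degree-zero cohomology is a cocycle. -/
lemma exists_cocycle_zero {P : Cᵒᵖ ⥤ AddCommGrpCat.{u}} (ξ : ((cech K).obj P).homology 0) :
    ∃ z : ((cech K).obj P).cycles 0, ((cech K).obj P).homologyπ 0 z = ξ :=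
  (AddCommGrpCat.epi_iff_surjective _).1 inferInstance ξ

/-- Cocycles of degree zero inject in cohomology. -/
lemma homologyπ_zero_injective (P : Cᵒᵖ ⥤ AddCommGrpCat.{u}) :
    Function.Injective (((cech K).obj P).homologyπ 0) := by
  have := ((cech K).obj P).isIso_homologyπ 0 0 (by simp) (by simp)
  exact ((ConcreteCategory.isIso_iff_bijective _).1 this).1

/-- The cocycle of degree zero of an element killed by the differential. -/
lemma exists_cycle_of_d_zero {P : Cᵒᵖ ⥤ AddCommGrpCat.{u}} (x : (cochT P).obj (op (K _⦋0⦌)))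
    (hx : ((cech K).obj P).d 0 1 x = 0) :
    ∃ z : ((cech K).obj P).cycles 0, ((cech K).obj P).iCycles 0 z = x :=
  by
  let g : AddCommGrpCat.of (ULift.{u} ℤ) ⟶ ((cech K).obj P).X 0 :=
    AddCommGrpCat.ofHom ((zmultiplesHom _ x).comp AddEquiv.ulift.toAddMonoidHom)
  have hg : g ≫ ((cech K).obj P).d 0 1 = 0 := by
    ext z
    show ((cech K).obj P).d 0 1 (z.down • x) = 0
    exact (map_zsmul (((cech K).obj P).d 0 1).hom z.down x).trans
      ((congrArg (z.down • ·) hx).trans (zsmul_zero _))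
  refine ⟨((cech K).obj P).liftCycles g 1 (by simp) hg (ULift.up 1), ?_⟩
  rw [← ConcreteCategory.comp_apply, HomologicalComplex.liftCycles_i]
  exact one_zsmul x

section terminal

variable {T : C} (hT : IsTerminal T)

/-- Restriction of global sections. -/
noncomputable def aug (P : Cᵒᵖ ⥤ AddCommGrpCat.{u}) (K : SimplicialObject (FormalCoproduct.{u} C))
    (s : P.obj (op T)) : (cochT P).obj (op (K _⦋0⦌)) :=
  (cochT_exists (P := P) (A := K _⦋0⦌) fun i => P.map (hT.from _).op s).choose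

lemma cpr_aug {P : Cᵒᵖ ⥤ AddCommGrpCat.{u}} (s : P.obj (op T)) (i : (K _⦋0⦌).I) :
    cpr i (aug hT P K s) = P.map (hT.from ((K _⦋0⦌).obj i)).op s :=
  (cochT_exists (P := P) (A := K _⦋0⦌) fun i => P.map (hT.from _).op s).choose_spec i

lemma d_aug {P : Cᵒᵖ ⥤ AddCommGrpCat.{u}} (s : P.obj (op T)) :
    ((cech K).obj P).d 0 1 (aug hT P K s) = 0 := by
  refine cochT_ext (P := P) (A := K _⦋1⦌) fun j => ?_
  rw [cpr_d_zero]
  refine Eq.trans ?_ ((cpr (P := P) (A := K _⦋1⦌) j).hom.map_zero).symm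
  rw [cpr_aug, cpr_aug, ← ConcreteCategory.comp_apply, ← ConcreteCategory.comp_apply,
    ← Functor.map_comp, ← Functor.map_comp, ← op_comp, ← op_comp, hT.comp_from, hT.comp_from,
    sub_self]

lemma aug_map {P Q : Cᵒᵖ ⥤ AddCommGrpCat.{u}} (φ : P ⟶ Q) (s : P.obj (op T)) :
    ((cech K).map φ).f 0 (aug hT P K s) = aug hT Q K (φ.app _ s) :=
  cochT_ext fun i => by
    refine (cpr_cech_map K φ 0 _ i).trans ?_
    rw [cpr_aug, cpr_aug]
    exact φ.naturality_apply _ _

lemma exists_aug_eq (hK : IsLocTrivial J K) (F : Sheaf J AddCommGrpCat.{u})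
    (x : (cochT F.obj).obj (op (K _⦋0⦌))) (hx : ((cech K).obj F.obj).d 0 1 x = 0) :
    ∃ s, aug hT F.obj K s = x := by
  obtain ⟨s, hs, hs'⟩ := exists_glue_cocycle hK F x hx
  exact ⟨s T, cochT_ext fun i => by rw [cpr_aug, hs, hs']⟩

lemma aug_injective (hK : IsLocTrivial J K) (F : Sheaf J AddCommGrpCat.{u}) :
    Function.Injective (aug hT F.obj K) := by
  intro s t h
  refine sections_ext hK F fun V g a => ?_
  have e := congrArg (fun x => F.obj.map (a.φ PUnit.unit).op (cpr (a.f PUnit.unit) x)) h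
  simp only [cpr_aug, ← ConcreteCategory.comp_apply, ← Functor.map_comp, ← op_comp] at e
  rwa [hT.hom_ext g _]

end terminal

end Groth.Agent.HyperLib
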