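import Groth.Agent.HyperLib.Pullback

/-!
# Refining a hypercovering through a covering of one of its terms
-/

universe u

open CategoryTheory CategoryTheory.Limits Opposite Simplicial

namespace Groth.Agent.HyperLib

open FormalCoproduct

variable {C : Type u} [SmallCategory C] (J : GrothendieckTopology C)

section

variable [HasPullbacks C] [HasTerminal C]

instance : HasFiniteLimits (FormalCoproduct.{u} C) :=
  hasFiniteLimits_of_hasTerminal_and_pullbacks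

/-- The right adjoint of evaluation in degree `n`. -/
noncomputable def powObj (n : ℕ) (Z : FormalCoproduct.{u} C) :
    SimplicialObject (FormalCoproduct.{u} C) where
  obj Δ := ∏ᶜ fun _ : (⦋n⦌ ⟶ unop Δ) => Z
  map θ := Pi.lift fun φ => Pi.π (fun _ => Z) (φ ≫ θ.unop)
  map_id Δ := Pi.hom_ext _ _ fun φ => by simp
  map_comp θ θ' := Pi.hom_ext _ _ fun φ => by simp

/-- The projections. -/
noncomputable def pπ {n : ℕ} {Z : FormalCoproduct.{u} C} {Δ : SimplexCategoryᵒᵖ}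
    (φ : ⦋n⦌ ⟶ unop Δ) : (powObj n Z).obj Δ ⟶ Z :=
  Pi.π (fun _ : (⦋n⦌ ⟶ unop Δ) => Z) φ

@[reassoc (attr := simp)]
lemma map_pπ {n : ℕ} {Z : FormalCoproduct.{u} C} {Δ Δ' : SimplexCategoryᵒᵖ} (θ : Δ ⟶ Δ')
    (φ : ⦋n⦌ ⟶ unop Δ') :
    (powObj n Z).map θ ≫ pπ φ = pπ (φ ≫ θ.unop) :=
  Pi.lift_π _ _

lemma pow_hom_ext {n : ℕ} {Z : FormalCoproduct.{u} C} {Δ : SimplexCategoryᵒᵖ}
    {T : FormalCoproduct.{u} C} {f g : T ⟶ (powObj n Z).obj Δ}
    (h : ∀ φ, f ≫ pπ φ = g ≫ pπ φ) : f = g :=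
  Pi.hom_ext _ _ h

/-- Maps into the power. -/
noncomputable def plift {n : ℕ} {Z : FormalCoproduct.{u} C} {Δ : SimplexCategoryᵒᵖ}
    {T : FormalCoproduct.{u} C} (f : (⦋n⦌ ⟶ unop Δ) → (T ⟶ Z)) : T ⟶ (powObj n Z).obj Δ :=
  Pi.lift f

@[reassoc (attr := simp)]
lemma plift_pπ {n : ℕ} {Z : FormalCoproduct.{u} C} {Δ : SimplexCategoryᵒᵖ}
    {T : FormalCoproduct.{u} C} (f : (⦋n⦌ ⟶ unop Δ) → (T ⟶ Z)) (φ : ⦋n⦌ ⟶ unop Δ) :
    plift f ≫ pπ φ = f φ :=
  Pi.lift_π _ _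

/-- Functoriality of the power. -/
noncomputable def powMap (n : ℕ) {Z Z' : FormalCoproduct.{u} C} (u : Z ⟶ Z') :
    powObj n Z ⟶ powObj n Z' where
  app Δ := plift fun φ => pπ φ ≫ u
  naturality Δ Δ' θ := pow_hom_ext fun φ => by simp

/-- The classifying map. -/
noncomputable def toPow (n : ℕ) (K : SimplicialObject (FormalCoproduct.{u} C)) :
    K ⟶ powObj n (K _⦋n⦌) where
  app Δ := plift fun φ => K.map φ.op
  naturality Δ Δ' θ := pow_hom_ext fun φ => by simp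

@[reassoc (attr := simp)]
lemma powMap_pπ (n : ℕ) {Z Z' : FormalCoproduct.{u} C} (u : Z ⟶ Z') {Δ : SimplexCategoryᵒᵖ}
    (φ : ⦋n⦌ ⟶ unop Δ) : (powMap n u).app Δ ≫ pπ φ = pπ φ ≫ u :=
  plift_pπ _ _

@[reassoc (attr := simp)]
lemma toPow_pπ (n : ℕ) (K : SimplicialObject (FormalCoproduct.{u} C)) {Δ : SimplexCategoryᵒᵖ}
    (φ : ⦋n⦌ ⟶ unop Δ) : (toPow n K).app Δ ≫ pπ φ = K.map φ.op :=
  plift_pπ _ _

lemma isSRCovering_powMap_zero (n : ℕ) {Z Z' : FormalCoproduct.{u} C} (u : Z ⟶ Z')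
    (hu : Hyper.IsSRCovering J u) : Hyper.IsSRCovering J ((powMap n u).app (op ⦋0⦌)) := by
  rw [isSRCovering_iff] at *
  intro U y
  refine J.superset_covering ?_
    (finite_intersection_mem J _ fun φ : (⦋n⦌ ⟶ ⦋0⦌) => hu U (y ≫ pπ φ))
  intro V g hg
  choose z hz using fun φ => iInf_arrows_apply _ hg φ
  exact ⟨plift z, pow_hom_ext fun φ => by simpa [powMap] using hz φ⟩

lemma fillsRel_powMap (n : ℕ) {Z Z' : FormalCoproduct.{u} C} (u : Z ⟶ Z')
    (hu : Hyper.IsSRCovering J u) (q : ℕ) : FillsRel J (powMap n u) q := by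
  classical
  rw [isSRCovering_iff] at hu
  intro U y hy l hl
  refine ⟨_, finite_intersection_mem J _ fun φ : (⦋n⦌ ⟶ ⦋q + 1⦌) => hu U (l ≫ pπ φ), fun V g hg => ?_⟩
  have key : ∀ φ : (⦋n⦌ ⟶ ⦋q + 1⦌), ∃ z : (incl C).obj V ⟶ Z,
      z ≫ u = (incl C).map g ≫ l ≫ pπ φ ∧
      ∀ a (φ' : ⦋n⦌ ⟶ ⦋q⦌), φ = φ' ≫ SimplexCategory.δ a →
        z = (incl C).map g ≫ y a ≫ pπ φ' := by
    intro φ
    by_cases h : ∃ a, ∃ φ' : ⦋n⦌ ⟶ ⦋q⦌, φ = φ' ≫ SimplexCategory.δ a
    · obtain ⟨a, φ', rfl⟩ := h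
      refine ⟨(incl C).map g ≫ y a ≫ pπ φ', ?_, fun b ψ e => ?_⟩
      · have := congrArg (fun z => z ≫ pπ φ') (hl a)
        simp only [SimplicialObject.δ, powMap, Category.assoc, map_pπ, plift_pπ] at this
        simp only [Category.assoc]
        rw [← this]
        rfl
      · have e' : φ' ≫ SimplexCategory.δ a = ψ ≫ SimplexCategory.δ b := e
        have := congrArg (fun z => z ≫ pπ (Z := Z) (Δ := op ⦋n⦌) (𝟙 _))
          (hy.eq_of_comp_eq φ' ψ a b e')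
        simp only [Category.assoc, map_pπ] at this
        simp only [Quiver.Hom.unop_op, Category.id_comp] at this
        exact congrArg (fun w => (incl C).map g ≫ w) this
    · obtain ⟨z, hz⟩ := iInf_arrows_apply _ hg φ
      exact ⟨z, hz, fun a φ' e => (h ⟨a, φ', e⟩).elim⟩
  choose z hz hz' using key
  refine ⟨plift z, fun a => pow_hom_ext fun φ' => ?_, pow_hom_ext fun φ => ?_⟩
  · simp only [SimplicialObject.δ, Category.assoc, map_pπ, plift_pπ]
    exact hz' _ a φ' rfl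
  · simp [powMap, hz φ]

theorem exists_refinement (K : SimplicialObject (FormalCoproduct.{u} C)) (hK : IsLocTrivial J K)
    (n : ℕ) {Z : FormalCoproduct.{u} C} (u : Z ⟶ K _⦋n⦌) (hu : Hyper.IsSRCovering J u) :
    ∃ (L : SimplicialObject (FormalCoproduct.{u} C)) (f : L ⟶ K) (g : L _⦋n⦌ ⟶ Z),
      IsLocTrivial J L ∧ g ≫ u = f.app (op ⦋n⦌) := by
  refine ⟨pullback (toPow n K) (powMap n u), pullback.fst _ _,
    (pullback.snd (toPow n K) (powMap n u)).app (op ⦋n⦌) ≫ pπ (Δ := op ⦋n⦌) (𝟙 _),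
    isLocTrivial_pullback J (IsPullback.of_hasPullback _ _) hK
      (isSRCovering_powMap_zero J n u hu) (fillsRel_powMap J n u hu), ?_⟩
  have := congrArg (fun z => z.app (op ⦋n⦌) ≫ pπ (Δ := op ⦋n⦌) (𝟙 _))
    (pullback.condition (f := toPow n K) (g := powMap n u))
  simp only [NatTrans.comp_app, Category.assoc, toPow_pπ, powMap_pπ] at this
  simp only [Category.assoc]
  rw [← this]
  simp

theorem exists_product (K L : SimplicialObject (FormalCoproduct.{u} C)) (hK : IsLocTrivial J K)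
    (hL : IsLocTrivial J L) :
    ∃ (M : SimplicialObject (FormalCoproduct.{u} C)) (_ : M ⟶ K) (_ : M ⟶ L),
      IsLocTrivial J M := by
  let T : SimplicialObject (FormalCoproduct.{u} C) :=
    (Functor.const _).obj (⊤_ (FormalCoproduct.{u} C))
  let a : K ⟶ T := { app := fun _ => terminal.from _, naturality := fun _ _ _ => terminal.hom_ext _ _ }
  let b : L ⟶ T := { app := fun _ => terminal.from _, naturality := fun _ _ _ => terminal.hom_ext _ _ }
  refine ⟨pullback a b, pullback.fst a b, pullback.snd a b,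
    isLocTrivial_pullback J (IsPullback.of_hasPullback a b) hK ?_ fun n => ?_⟩
  · rw [isSRCovering_iff]
    intro U y
    refine J.superset_covering ?_ (hL.1 U)
    rintro V g ⟨x⟩
    exact ⟨x, terminal.hom_ext _ _⟩
  · intro U y hy l _
    obtain ⟨S, hS, hS'⟩ := hL.2 n U y hy
    refine ⟨S, hS, fun V g hg => ?_⟩
    obtain ⟨x, hx⟩ := hS' g hg
    exact ⟨x, hx, terminal.hom_ext _ _⟩

end

end Groth.Agent.HyperLib
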