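import Groth.Prelude.Def_Hyper2
import Groth.Agent.HyperLib.Refine

/-!
# Elements of the Cech complexes of hypercoverings
-/

universe u

open CategoryTheory CategoryTheory.Limits Opposite Simplicial

namespace Groth.Agent.HyperLib

variable {C : Type u} [SmallCategory C] {X : C}

lemma cechMap_f_eq {K L : SimplicialObject (FormalCoproduct.{u} (Over X))} (f : L ⟶ K)
    (P : Cᵒᵖ ⥤ AddCommGrpCat.{u}) (p : ℕ) :
    (Hyper.cechMap X f P).f p = ((FormalCoproduct.evalOp.{u} (Over X) AddCommGrpCat.{u}).obj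
      ((Over.forget X).op ⋙ P)).map (f.app (op ⦋p⦌)).op :=
  rfl

lemma cechHMap_π {K L : SimplicialObject (FormalCoproduct.{u} (Over X))} (f : L ⟶ K)
    (P : Cᵒᵖ ⥤ AddCommGrpCat.{u}) (p : ℕ) (z : (Hyper.cechCx X K P).cycles p) :
    Hyper.cechHMap X f P p ((Hyper.cechCx X K P).homologyπ p z) =
      (Hyper.cechCx X L P).homologyπ p (HomologicalComplex.cyclesMap (Hyper.cechMap X f P) p z) :=
  ConcreteCategory.congr_hom (HomologicalComplex.homologyπ_naturality _ p) z

lemma exists_cycle (K : SimplicialObject (FormalCoproduct.{u} (Over X)))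
    (P : Cᵒᵖ ⥤ AddCommGrpCat.{u}) (p : ℕ) (ξ : Hyper.cechH X K P p) :
    ∃ z, (Hyper.cechCx X K P).homologyπ p z = ξ :=
  (AddCommGrpCat.epi_iff_surjective _).1 inferInstance ξ

lemma cechHMap_eq_zero_of_cycle {K L : SimplicialObject (FormalCoproduct.{u} (Over X))} (f : L ⟶ K)
    (P : Cᵒᵖ ⥤ AddCommGrpCat.{u}) (p : ℕ) (z : (Hyper.cechCx X K P).cycles p)
    (h : (Hyper.cechMap X f P).f p ((Hyper.cechCx X K P).iCycles p z) = 0) :
    Hyper.cechHMap X f P p ((Hyper.cechCx X K P).homologyπ p z) = 0 := by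
  rw [cechHMap_π]
  have h0 : HomologicalComplex.cyclesMap (Hyper.cechMap X f P) p z = 0 := by
    refine (AddCommGrpCat.mono_iff_injective ((Hyper.cechCx X L P).iCycles p)).1 inferInstance ?_
    rw [map_zero, ← ConcreteCategory.comp_apply, HomologicalComplex.cyclesMap_i,
      ConcreteCategory.comp_apply]
    exact h
  rw [h0, map_zero]

lemma exists_covering_killing (J : GrothendieckTopology C) (P : Cᵒᵖ ⥤ AddCommGrpCat.{u})
    (hP : IsZero ((presheafToSheaf J AddCommGrpCat.{u}).obj P))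
    (A : FormalCoproduct.{u} (Over X))
    (c : ((FormalCoproduct.evalOp.{u} (Over X) AddCommGrpCat.{u}).obj
      ((Over.forget X).op ⋙ P)).obj (op A)) :
    ∃ (Z : FormalCoproduct.{u} (Over X)) (v : Z ⟶ A), Hyper.IsSRCovering (J.over X) v ∧
      ((FormalCoproduct.evalOp.{u} (Over X) AddCommGrpCat.{u}).obj
        ((Over.forget X).op ⋙ P)).map v.op c = 0 := by
  let ci : ∀ i : A.I, P.obj (op (A.obj i).left) := fun i =>
    Pi.π (fun i : A.I => P.obj (op (A.obj i).left)) i c
  let Z : FormalCoproduct.{u} (Over X) :=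
    ⟨Σ i : A.I, Σ W : Over X, {g : W ⟶ A.obj i // P.map g.left.op (ci i) = 0}, fun z => z.2.1⟩
  let v : Z ⟶ A := ⟨fun z => z.1, fun z => z.2.2.1⟩
  refine ⟨Z, v, fun j => ?_, ?_⟩
  · have hj : Presheaf.equalizerSieve (ci j) 0 ∈ J (A.obj j).left := by
      refine Presheaf.equalizerSieve_mem J (CategoryTheory.toSheafify J P) (ci j) 0 ?_
      have hz : IsZero ((CategoryTheory.sheafify J P)) :=
        (sheafToPresheaf J AddCommGrpCat.{u}).map_isZero hP
      rw [hz.eq_of_tgt (CategoryTheory.toSheafify J P) 0]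
      simp
    rw [GrothendieckTopology.mem_over_iff]
    refine J.superset_covering ?_ hj
    intro V g hg
    rw [Sieve.overEquiv_iff]
    have hg' : P.map g.op (ci j) = 0 := by
      simpa [Presheaf.equalizerSieve] using hg
    refine ⟨_, 𝟙 _, _, Presieve.ofArrows.mk
      (⟨⟨j, Over.mk (g ≫ (A.obj j).hom), Over.homMk g, hg'⟩, rfl⟩ : {i : Z.I // v.f i = j}), ?_⟩
    simp [v]
  · refine Concrete.limit_ext _ _ _ fun ⟨z⟩ => ?_
    refine Eq.trans ?_ (map_zero _).symm
    refine (ConcreteCategory.congr_hom (Pi.lift_π (fun z : Z.I =>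
      Pi.π (fun i : A.I => P.obj (op (A.obj i).left)) (v.f z) ≫
        P.map (v.φ z).left.op) z) c).trans ?_
    exact z.2.2.2

end Groth.Agent.HyperLib
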