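import Mathlib.AlgebraicTopology.CechNerve
import Mathlib.AlgebraicTopology.SimplicialObject.Coskeletal

/-!
# The Cech nerve of a morphism to the terminal object is coskeletal
-/

universe v w

open CategoryTheory CategoryTheory.Limits Opposite Simplicial

namespace Groth.Agent.HyperLib

/-- The vertices of a simplex as objects of the comma category of truncated simplices. -/
def vert {n : ℕ} (Δ : SimplexCategoryᵒᵖ) (i : Fin (Δ.unop.len + 1)) :
    StructuredArrow Δ (SimplexCategory.Truncated.inclusion n).op :=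
  StructuredArrow.mk (Y := op (⟨⦋0⦌, Nat.zero_le n⟩ : SimplexCategory.Truncated n))
    ((SimplexCategory.const ⦋0⦌ Δ.unop i).op :)

theorem isCoskeletal_cechNerveTerminalFrom {D : Type*} [Category D] [HasFiniteProducts D] (A : D)
    (n : ℕ) : SimplicialObject.IsCoskeletal (cechNerveTerminalFrom A) n := by
  let X := cechNerveTerminalFrom A
  refine ⟨Functor.RightExtension.IsPointwiseRightKanExtension.isRightKanExtension
    (E := SimplicialObject.Truncated.rightExtensionInclusion X n) fun Δ => ?_⟩
  let p : ∀ {Δ' : SimplexCategoryᵒᵖ} (k : Fin (Δ'.unop.len + 1)), X.obj Δ' ⟶ A :=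
    fun {Δ'} k => Pi.π (fun _ : Fin (Δ'.unop.len + 1) => A) k
  have hp : ∀ {Δ₁ Δ₂ : SimplexCategoryᵒᵖ} (f : Δ₁ ⟶ Δ₂) (k : Fin (Δ₂.unop.len + 1)),
      X.map f ≫ p k = p (f.unop.toOrderHom k) := fun f k => Pi.lift_π _ _
  have hπ : ∀ j, ((SimplicialObject.Truncated.rightExtensionInclusion X n).coneAt Δ).π.app j =
      X.map j.hom := fun j => Category.comp_id _
  exact
    { lift := fun s => Pi.lift fun i : Fin (Δ.unop.len + 1) => s.π.app (vert Δ i) ≫ p (0 : Fin 1)
      fac := fun s j => by
        refine Pi.hom_ext _ _ fun k => ?_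
        rw [hπ]
        refine (Category.assoc _ _ _).trans ?_
        have e : Pi.lift (fun i : Fin (Δ.unop.len + 1) => s.π.app (vert (n := n) Δ i) ≫ p (0 : Fin 1)) ≫
            p (j.hom.unop.toOrderHom k) = s.π.app (vert Δ (j.hom.unop.toOrderHom k)) ≫ p (0 : Fin 1) :=
          Pi.lift_π _ _
        let t : j ⟶ vert Δ (j.hom.unop.toOrderHom k) :=
          StructuredArrow.homMk
            (SimplexCategory.Truncated.Hom.tr (SimplexCategory.const ⦋0⦌ j.right.unop.obj k)
              (Nat.zero_le n) j.right.unop.property).op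
            (Quiver.Hom.unop_inj (by ext x; rfl))
        have w := congrArg (fun z => z ≫ p (0 : Fin 1)) (s.w t)
        refine Eq.trans ?_ (Eq.trans w.symm ?_)
        · exact (congrArg (fun z => Pi.lift (fun i : Fin (Δ.unop.len + 1) =>
            s.π.app (vert (n := n) Δ i) ≫ p (0 : Fin 1)) ≫ z) (hp j.hom k)).trans e
        · exact (Category.assoc _ _ _).trans (congrArg (fun z => s.π.app j ≫ z) (hp (SimplexCategory.const ⦋0⦌ j.right.unop.obj k).op (0 : Fin 1)))
      uniq := fun s m hm => Pi.hom_ext _ _ fun i => by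
        refine Eq.trans ?_ (Pi.lift_π (f := fun _ : Fin (Δ.unop.len + 1) => A)
          (fun i : Fin (Δ.unop.len + 1) => s.π.app (vert (n := n) Δ i) ≫ p (0 : Fin 1)) i).symm
        rw [← hm (vert Δ i), hπ]
        refine Eq.trans ?_ (Category.assoc _ _ _).symm
        exact congrArg (fun z => m ≫ z)
          (hp (SimplexCategory.const ⦋0⦌ Δ.unop i).op (0 : Fin 1)).symm }

end Groth.Agent.HyperLib
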