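import Groth.Agent.HyperLib.Lift
import Mathlib.AlgebraicTopology.SimplicialObject.ChainHomotopy
import Mathlib.AlgebraicTopology.SimplicialSet.Homotopy
import Mathlib.AlgebraicTopology.SimplicialSet.StdSimplexOne
import Mathlib.Algebra.Category.Grp.Adjunctions

/-!
# Free chains of a locally trivial fibration: local surjectivity and injectivity on cycles
-/

universe u

open CategoryTheory CategoryTheory.Limits Opposite Simplicial MonoidalCategory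

namespace Groth.Agent.HyperLib

variable {C : Type u} [SmallCategory C] (J : GrothendieckTopology C)

/-- The free simplicial abelian group. -/
abbrev ZS (Y : SSet.{u}) : SimplicialObject AddCommGrpCat.{u} :=
  ((SimplicialObject.whiskering (Type u) AddCommGrpCat.{u}).obj AddCommGrpCat.free.{u}).obj Y

/-- Free chains. -/
abbrev ZC (Y : SSet.{u}) : ChainComplex AddCommGrpCat.{u} ℕ :=
  (AlgebraicTopology.alternatingFaceMapComplex _).obj (ZS Y)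

/-- Functoriality of free chains. -/
abbrev zcMap {Y Y' : SSet.{u}} (f : Y ⟶ Y') : ZC Y ⟶ ZC Y' :=
  (AlgebraicTopology.alternatingFaceMapComplex _).map
    (((SimplicialObject.whiskering (Type u) AddCommGrpCat.{u}).obj AddCommGrpCat.free.{u}).map f)

/-- A generator. -/
def gn (Y : SSet.{u}) (p : ℕ) (a : Y _⦋p⦌) : (ZC Y).X p := FreeAbelianGroup.of a

lemma zcMap_gn {Y Y' : SSet.{u}} (f : Y ⟶ Y') (p : ℕ) (a : Y _⦋p⦌) :
    (zcMap f).f p (gn Y p a) = gn Y' p (f.app _ a) :=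
  FreeAbelianGroup.map_of_apply _

lemma sum_zsmul_apply {A B : AddCommGrpCat.{u}} {ι : Type} [Fintype ι] (c : ι → ℤ) (f : ι → (A ⟶ B))
    (x : A) : (∑ i, c i • f i) x = ∑ i, c i • f i x := by
  let E : (A ⟶ B) →+ B := AddMonoidHom.mk' (fun F => F x) fun _ _ => rfl
  exact (map_sum E _ _).trans (Finset.sum_congr rfl fun i _ => map_zsmul E _ _)

lemma neg_hom_apply {A B : AddCommGrpCat.{u}} (f : A ⟶ B) (x : A) : (-f) x = -(f x) := rfl

lemma d_gn (Y : SSet.{u}) (p : ℕ) (a : Y _⦋p + 1⦌) :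
    (ZC Y).d (p + 1) p (gn Y (p + 1) a) =
      ∑ i : Fin (p + 2), (-1 : ℤ) ^ (i : ℕ) • gn Y p (Y.δ i a) := by
  simp only [AlgebraicTopology.alternatingFaceMapComplex_obj_d,
    AlgebraicTopology.AlternatingFaceMapComplex.objD]
  refine (sum_zsmul_apply _ _ _).trans (Finset.sum_congr rfl fun i _ => ?_)
  exact congrArg (fun z => (-1 : ℤ) ^ (i : ℕ) • z) (FreeAbelianGroup.map_of_apply _)

/-- The group of chains supported on a set of simplices. -/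
def span (Y : SSet.{u}) (p : ℕ) (A : Set (Y _⦋p⦌)) : AddSubgroup ((ZC Y).X p) :=
  AddSubgroup.closure (gn Y p '' A)

lemma gn_mem_span {Y : SSet.{u}} {p : ℕ} {A : Set (Y _⦋p⦌)} {a : Y _⦋p⦌} (ha : a ∈ A) :
    gn Y p a ∈ span Y p A :=
  AddSubgroup.subset_closure ⟨a, ha, rfl⟩

lemma span_mono {Y : SSet.{u}} {p : ℕ} {A B : Set (Y _⦋p⦌)} (h : A ⊆ B) :
    span Y p A ≤ span Y p B :=
  AddSubgroup.closure_mono (Set.image_mono h)

lemma exists_finite_span {Y : SSet.{u}} {p : ℕ} (z : (ZC Y).X p) :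
    ∃ X : Set (Y _⦋p⦌), X.Finite ∧ z ∈ span Y p X := by
  induction z using FreeAbelianGroup.induction_on with
  | zero => exact ⟨∅, Set.finite_empty, AddSubgroup.zero_mem _⟩
  | of x => exact ⟨{x}, Set.finite_singleton x, gn_mem_span rfl⟩
  | neg x _ => exact ⟨{x}, Set.finite_singleton x, AddSubgroup.neg_mem _ (gn_mem_span rfl)⟩
  | add x y hx hy =>
    obtain ⟨X, hX, hx⟩ := hx
    obtain ⟨X', hX', hy⟩ := hy
    exact ⟨X ∪ X', hX.union hX', AddSubgroup.add_mem _ (span_mono Set.subset_union_left hx)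
      (span_mono Set.subset_union_right hy)⟩

lemma eq_on_span {Y : SSet.{u}} {p : ℕ} {A : Set (Y _⦋p⦌)} {G : Type u} [AddCommGroup G]
    (f g : (ZC Y).X p →+ G) (h : ∀ a ∈ A, f (gn Y p a) = g (gn Y p a)) {z : (ZC Y).X p}
    (hz : z ∈ span Y p A) : f z = g z := by
  refine AddMonoidHom.eqOn_closure ?_ hz
  rintro _ ⟨a, ha, rfl⟩
  exact h a ha

/-- The simplices generated by a set of simplices. -/
def gen (Y : SSet.{u}) {p : ℕ} (X : Set (Y _⦋p⦌)) (k : ℕ) : Set (Y _⦋k⦌) :=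
  Set.image2 (fun (φ : ⦋k⦌ ⟶ ⦋p⦌) x => Y.map φ.op x) Set.univ X

lemma gen_finite {Y : SSet.{u}} {p : ℕ} {X : Set (Y _⦋p⦌)} (hX : X.Finite) (k : ℕ) :
    (gen Y X k).Finite :=
  Set.Finite.image2 _ Set.finite_univ hX

lemma mem_gen {Y : SSet.{u}} {p : ℕ} {X : Set (Y _⦋p⦌)} {x : Y _⦋p⦌} (hx : x ∈ X) :
    x ∈ gen Y X p :=
  ⟨𝟙 _, trivial, x, hx, by simp⟩

lemma map_mem_gen {Y : SSet.{u}} {p : ℕ} {X : Set (Y _⦋p⦌)} {k l : ℕ} (θ : ⦋l⦌ ⟶ ⦋k⦌)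
    {a : Y _⦋k⦌} (ha : a ∈ gen Y X k) : Y.map θ.op a ∈ gen Y X l := by
  obtain ⟨φ, -, x, hx, rfl⟩ := ha
  exact ⟨θ ≫ φ, trivial, x, hx, (ConcreteCategory.congr_hom (Y.map_comp φ.op θ.op) x)⟩

variable {S T : SimplicialObject (Cᵒᵖ ⥤ Type u)}

/-- The chain map of a section defined on a set of simplices. -/
noncomputable def secLin {Y Y' : SSet.{u}} (k : ℕ) {A : Set (Y _⦋k⦌)} (s : A → Y' _⦋k⦌) :
    (ZC Y).X k →+ (ZC Y').X k :=
  FreeAbelianGroup.lift fun a =>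
    by classical exact if h : a ∈ A then gn Y' k (s ⟨a, h⟩) else 0

lemma secLin_gn {Y Y' : SSet.{u}} {k : ℕ} {A : Set (Y _⦋k⦌)} (s : A → Y' _⦋k⦌) {a : Y _⦋k⦌}
    (ha : a ∈ A) : secLin k s (gn Y k a) = gn Y' k (s ⟨a, ha⟩) :=
  (FreeAbelianGroup.lift_apply_of _ _).trans (dif_pos ha)

lemma secLin_d {Y Y' : SSet.{u}} {k : ℕ} {A : Set (Y _⦋k + 1⦌)} {B : Set (Y _⦋k⦌)}
    (s : A → Y' _⦋k + 1⦌) (t : B → Y' _⦋k⦌) (hAB : ∀ a ∈ A, ∀ i, Y.δ i a ∈ B)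
    (h : ∀ a i, Y'.δ i (s a) = t ⟨Y.δ i a.1, hAB a.1 a.2 i⟩) {z : (ZC Y).X (k + 1)}
    (hz : z ∈ span Y (k + 1) A) :
    (ZC Y').d (k + 1) k (secLin (k + 1) s z) = secLin k t ((ZC Y).d (k + 1) k z) := by
  refine eq_on_span (((ZC Y').d (k + 1) k).hom.comp (secLin (k + 1) s))
    ((secLin k t).comp ((ZC Y).d (k + 1) k).hom) (fun a ha => ?_) hz
  simp only [AddMonoidHom.comp_apply]
  rw [secLin_gn s ha]
  refine (d_gn Y' k _).trans ?_
  refine Eq.trans ?_ (congrArg (secLin k t) (d_gn Y k a)).symm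
  rw [map_sum]
  refine Finset.sum_congr rfl fun i _ => ?_
  rw [map_zsmul, secLin_gn t (hAB a ha i), h ⟨a, ha⟩ i]

/-- A local section of `v` on generated families of simplices. -/
theorem exists_section (v : S ⟶ T) (hv : LocFib J v) {U : C} {p : ℕ}
    (X : Set ((sec T U) _⦋p⦌)) (hX : X.Finite) (m : ℕ) :
    ∃ R : Sieve U, R ∈ J U ∧ ∀ ⦃V : C⦄ (g : V ⟶ U), R g →
      ∃ s : ∀ k, k ≤ m → gen (sec T U) X k → (sec S V) _⦋k⦌,
        (∀ k hk a, (secMap v V).app _ (s k hk a) = (secRes T g).app _ a.1) ∧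
        ∀ k (hk : k + 1 ≤ m) (a : gen (sec T U) X (k + 1)) (i : Fin (k + 2)),
          (sec S V).δ i (s (k + 1) hk a) =
            s k ((Nat.le_succ k).trans hk) ⟨(sec T U).δ i a.1, map_mem_gen _ a.2⟩ := by
  have := fun k => (gen_finite hX k).to_subtype
  obtain ⟨R, hR, h⟩ := exists_lift J v hv U (fun k => gen (sec T U) X k)
    (fun k i a => ⟨(sec T U).δ i a.1, map_mem_gen _ a.2⟩)
    (fun k i j hij a => Subtype.ext
      (ConcreteCategory.congr_hom (SimplicialObject.δ_comp_δ (sec T U) hij) a.1))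
    (fun k a => a.1) (fun k i a => rfl) (fun _ _ => none) (fun _ _ _ h => by cases h)
    (fun _ _ _ _ h => by cases h) m
  refine ⟨R, hR, fun V g hg => ?_⟩
  obtain ⟨L, h₁, h₂, -⟩ := h g hg
  exact ⟨L, h₁, h₂⟩

/-- Cycles lift locally. -/
theorem exists_cycle_lift (v : S ⟶ T) (hv : LocFib J v) {U : C} (p : ℕ) (z : (ZC (sec T U)).X p)
    (hz : ∀ j, (ZC (sec T U)).d p j z = 0) :
    ∃ R : Sieve U, R ∈ J U ∧ ∀ ⦃V : C⦄ (g : V ⟶ U), R g →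
      ∃ w : (ZC (sec S V)).X p, (∀ j, (ZC (sec S V)).d p j w = 0) ∧
        (zcMap (secMap v V)).f p w = (zcMap (secRes T g)).f p z := by
  obtain ⟨X, hX, hzX⟩ := exists_finite_span z
  obtain ⟨R, hR, h⟩ := exists_section J v hv X hX p
  refine ⟨R, hR, fun V g hg => ?_⟩
  obtain ⟨s, hs, hsd⟩ := h g hg
  have hz' := span_mono (fun x hx => mem_gen hx) hzX
  refine ⟨secLin p (s p le_rfl) z, fun j => ?_, ?_⟩
  · by_cases hj : j + 1 = p
    · subst hj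
      rw [secLin_d (s (j + 1) le_rfl) (s j (Nat.le_succ j)) (fun a ha i => map_mem_gen _ ha)
        (fun a i => hsd j le_rfl a i) hz', hz, map_zero]
    · rw [(ZC (sec S V)).shape p j hj]
      rfl
  · refine eq_on_span (((zcMap (secMap v V)).f p).hom.comp (secLin p (s p le_rfl)))
      ((zcMap (secRes T g)).f p).hom (fun a ha => ?_) hz'
    simp only [AddMonoidHom.comp_apply]
    rw [secLin_gn _ ha]
    exact (zcMap_gn _ _ _).trans ((congrArg _ (hs p le_rfl ⟨a, ha⟩)).trans (zcMap_gn _ _ _).symm)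

/-- The simplicial homotopy between the two ends of a cylinder. -/
noncomputable def cylHomotopy (Y : SSet.{u}) :
    SimplicialObject.Homotopy (SSet.ι₀ (X := Y)) SSet.ι₁ :=
  SSet.Homotopy.toSimplicialObjectHomotopy
    ({ h := 𝟙 _, h₀ := Category.comp_id _, h₁ := Category.comp_id _
       rel := by ext _ ⟨⟨_, h⟩, _⟩ <;> exact h.elim } :
      SSet.RelativeMorphism.Homotopy
        (SSet.RelativeMorphism.botEquiv.symm (SSet.ι₀ (X := Y)))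
        (SSet.RelativeMorphism.botEquiv.symm SSet.ι₁))

lemma cylHomotopy_fst (Y : SSet.{u}) {n : ℕ} (i : Fin (n + 1)) (x : Y _⦋n⦌) :
    ∃ θ : ⦋n + 1⦌ ⟶ ⦋n⦌, ((cylHomotopy Y).h i x).1 = Y.map θ.op x :=
  ⟨_, SSet.yonedaEquiv_symm_app_objEquiv_symm _ _⟩

/-- The chain homotopy of the cylinder. -/
noncomputable def cylChain (Y : SSet.{u}) :
    _root_.Homotopy (zcMap (SSet.ι₀ (X := Y))) (zcMap SSet.ι₁) :=
  ((cylHomotopy Y).whiskerRight AddCommGrpCat.free.{u}).toChainHomotopy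

lemma cylChain_mem_span (Y : SSet.{u}) {p : ℕ} {A : Set (Y _⦋p⦌)} {A' : Set (Y _⦋p + 1⦌)}
    (hA : ∀ θ : ⦋p + 1⦌ ⟶ ⦋p⦌, ∀ a ∈ A, Y.map θ.op a ∈ A') {z : (ZC Y).X p}
    (hz : z ∈ span Y p A) :
    (cylChain Y).hom p (p + 1) z ∈
      span (Y ⊗ Δ[1]) (p + 1) {y : (Y ⊗ Δ[1] : SSet.{u}) _⦋p + 1⦌ | y.1 ∈ A'} := by
  refine (AddSubgroup.closure_le ((span (Y ⊗ Δ[1]) (p + 1)
    {y : (Y ⊗ Δ[1] : SSet.{u}) _⦋p + 1⦌ | y.1 ∈ A'}).comap
    (AddCommGrpCat.Hom.hom ((cylChain Y).hom p (p + 1))))).2 ?_ hz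
  rintro _ ⟨x, hx, rfl⟩
  show (cylChain Y).hom p (p + 1) (gn Y p x) ∈
    span (Y ⊗ Δ[1]) (p + 1) {y : (Y ⊗ Δ[1] : SSet.{u}) _⦋p + 1⦌ | y.1 ∈ A'}
  simp only [cylChain, SimplicialObject.Homotopy.toChainHomotopy,
    SimplicialObject.Homotopy.ToChainHomotopy.hom_eq]
  rw [neg_hom_apply]
  refine AddSubgroup.neg_mem _ ?_
  rw [sum_zsmul_apply]
  refine AddSubgroup.sum_mem _ fun i _ => ?_
  refine AddSubgroup.zsmul_mem _ ?_ _
  have e : ((cylHomotopy Y).whiskerRight AddCommGrpCat.free.{u}).h i (gn Y p x) =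
      gn (Y ⊗ Δ[1]) (p + 1) ((cylHomotopy Y).h i x) := FreeAbelianGroup.map_of_apply _
  erw [e]
  refine gn_mem_span ?_
  obtain ⟨θ, hθ⟩ := cylHomotopy_fst Y i x
  show ((cylHomotopy Y).h i x).1 ∈ A'
  rw [hθ]
  exact hA θ x hx

lemma cylChain_cycle (Y : SSet.{u}) (p : ℕ) (z : (ZC Y).X p) (hz : ∀ j, (ZC Y).d p j z = 0) :
    (zcMap (SSet.ι₀ (X := Y))).f p z =
      (ZC (Y ⊗ Δ[1])).d (p + 1) p ((cylChain Y).hom p (p + 1) z) +
        (zcMap (SSet.ι₁ (X := Y))).f p z := by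
  refine (ConcreteCategory.congr_hom ((cylChain Y).comm p) z).trans ?_
  have h0 : (dNext p) (cylChain Y).hom z = 0 := by
    cases p with
    | zero => rw [dNext_eq_zero _ _ (by simp)]; rfl
    | succ q =>
      rw [dNext_eq (i' := q) (w := by simp)]
      exact (congrArg _ (hz q)).trans (map_zero ((cylChain Y).hom q (q + 1)).hom)
  show ((dNext p) (cylChain Y).hom z + (prevD p) (cylChain Y).hom z) + _ = _
  rw [h0, zero_add, prevD_eq (j' := p + 1) (w := by simp)]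
  rfl

lemma ι₀_ne_ι₁ {Y : SSet.{u}} {k : ℕ} (a b : Y _⦋k⦌) :
    (SSet.ι₀ (X := Y)).app _ a ≠ (SSet.ι₁ (X := Y)).app _ b := by
  intro e
  have := congrArg (fun y : (Y ⊗ Δ[1]) _⦋k⦌ => y.2 0) e
  simp at this

/-- The values of the cylinder lifting at the two ends. -/
noncomputable def endVal (Y : SSet.{u}) {Y' : SSet.{u}} {k : ℕ} (e₀ e₁ : Y _⦋k⦌ → Option (Y' _⦋k⦌))
    (y : (Y ⊗ Δ[1]) _⦋k⦌) : Option (Y' _⦋k⦌) :=
  by classical exact
    if y = (SSet.ι₀ (X := Y)).app _ y.1 then e₀ y.1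
    else if y = (SSet.ι₁ (X := Y)).app _ y.1 then e₁ y.1 else none

lemma endVal_ι₀ (Y : SSet.{u}) {Y' : SSet.{u}} {k : ℕ} (e₀ e₁ : Y _⦋k⦌ → Option (Y' _⦋k⦌))
    (b : Y _⦋k⦌) : endVal Y e₀ e₁ ((SSet.ι₀ (X := Y)).app _ b) = e₀ b :=
  if_pos rfl

lemma endVal_ι₁ (Y : SSet.{u}) {Y' : SSet.{u}} {k : ℕ} (e₀ e₁ : Y _⦋k⦌ → Option (Y' _⦋k⦌))
    (b : Y _⦋k⦌) : endVal Y e₀ e₁ ((SSet.ι₁ (X := Y)).app _ b) = e₁ b :=
  (if_neg fun e => ι₀_ne_ι₁ _ _ e.symm).trans (if_pos rfl)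

lemma endVal_some {Y : SSet.{u}} {Y' : SSet.{u}} {k : ℕ} {e₀ e₁ : Y _⦋k⦌ → Option (Y' _⦋k⦌)}
    {y : (Y ⊗ Δ[1]) _⦋k⦌} {w : Y' _⦋k⦌} (h : endVal Y e₀ e₁ y = some w) :
    (y = (SSet.ι₀ (X := Y)).app _ y.1 ∧ e₀ y.1 = some w) ∨
      (y = (SSet.ι₁ (X := Y)).app _ y.1 ∧ e₁ y.1 = some w) := by
  unfold endVal at h
  split_ifs at h with h₀ h₁
  · exact Or.inl ⟨h₀, h⟩
  · exact Or.inr ⟨h₁, h⟩

/-- Local lifting of a cylinder with prescribed ends. -/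
theorem exists_cylinder (v : S ⟶ T) (hv : LocFib J v) {U V : C} (g : V ⟶ U) (m : ℕ)
    (A : ∀ k, Set ((sec T U) _⦋k⦌)) (B : ∀ k, Set ((sec S U) _⦋k⦌)) [∀ k, Finite (B k)]
    (hA : ∀ k, ∀ a ∈ A (k + 1), ∀ i, (sec T U).δ i a ∈ A k)
    (hB : ∀ k, ∀ b ∈ B (k + 1), ∀ i, (sec S U).δ i b ∈ B k)
    (hBA : ∀ k, ∀ b ∈ B k, (secMap v U).app _ b ∈ A k)
    (s : ∀ k, k ≤ m → A k → (sec S V) _⦋k⦌)
    (hs₁ : ∀ k hk a, (secMap v V).app _ (s k hk a) = (secRes T g).app _ a.1)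
    (hs₂ : ∀ k (hk : k + 1 ≤ m) (a : A (k + 1)) (i : Fin (k + 2)),
      (sec S V).δ i (s (k + 1) hk a) =
        s k ((Nat.le_succ k).trans hk) ⟨(sec T U).δ i a.1, hA k a.1 a.2 i⟩) :
    ∃ R : Sieve V, R ∈ J V ∧ ∀ ⦃W : C⦄ (r : W ⟶ V), R r →
      ∃ L : ∀ k, k ≤ m → {y : (sec S U ⊗ Δ[1] : SSet.{u}) _⦋k⦌ // y.1 ∈ B k} → (sec S W) _⦋k⦌,
        (∀ k (hk : k + 1 ≤ m) a i, (sec S W).δ i (L (k + 1) hk a) =
          L k ((Nat.le_succ k).trans hk) ⟨(sec S U ⊗ Δ[1]).δ i a.1, hB k a.1.1 a.2 i⟩) ∧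
        (∀ k hk b (hb : b ∈ B k), L k hk ⟨SSet.ι₀.app _ b, hb⟩ =
          (secRes S r).app _ ((secRes S g).app _ b)) ∧
        ∀ k hk b (hb : b ∈ B k), L k hk ⟨SSet.ι₁.app _ b, hb⟩ =
          (secRes S r).app _ (s k hk ⟨_, hBA k b hb⟩) := by
  classical
  let Y : SSet.{u} := sec S U
  let f₀ : ∀ k, Y _⦋k⦌ → Option ((sec S V) _⦋k⦌) := fun k b => some ((secRes S g).app _ b)
  let f₁ : ∀ k, Y _⦋k⦌ → Option ((sec S V) _⦋k⦌) := fun k b =>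
    if h : k ≤ m ∧ b ∈ B k then some (s k h.1 ⟨_, hBA k b h.2⟩) else none
  have : ∀ k, Finite {y : (Y ⊗ Δ[1]) _⦋k⦌ // y.1 ∈ B k} := fun k =>
    Finite.of_injective (fun y => ((⟨y.1.1, y.2⟩, y.1.2) : B k × ((Δ[1] : SSet.{u}) _⦋k⦌)))
      fun y y' e => Subtype.ext (Prod.ext
        (congrArg (fun z : B k × ((Δ[1] : SSet.{u}) _⦋k⦌) => z.1.1) e :)
        (congrArg (fun z : B k × ((Δ[1] : SSet.{u}) _⦋k⦌) => z.2) e :))
  obtain ⟨R, hR, hL⟩ := exists_lift J v hv V (fun k => {y : (Y ⊗ Δ[1]) _⦋k⦌ // y.1 ∈ B k})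
    (fun k i a => ⟨(Y ⊗ Δ[1]).δ i a.1, hB k a.1.1 a.2 i⟩)
    (fun k i j hij a => Subtype.ext
      (ConcreteCategory.congr_hom (SimplicialObject.δ_comp_δ (Y ⊗ Δ[1]) hij) a.1))
    (fun k a => (secRes T g).app _ ((secMap v U).app _ a.1.1))
    (fun k i a => by
      rw [← SSet.δ_naturality_apply, ← SSet.δ_naturality_apply]
      rfl)
    (fun k a => endVal Y (f₀ k) (f₁ k) a.1)
    (fun k a w hw => by
      rcases endVal_some hw with ⟨-, h⟩ | ⟨-, h⟩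
      · cases h
        exact secMap_res v g _
      · simp only [f₁] at h
        split_ifs at h
        cases h
        exact hs₁ _ _ _)
    (fun k a w i hw => by
      rcases endVal_some hw with ⟨h₀, h⟩ | ⟨h₀, h⟩
      · cases h
        have e := (congrArg (fun y => (Y ⊗ Δ[1]).δ i y) h₀).trans
          (SSet.δ_naturality_apply (SSet.ι₀ (X := Y)) i a.1.1).symm
        show endVal Y _ _ ((Y ⊗ Δ[1]).δ i a.1) = _
        rw [e, endVal_ι₀]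
        exact congrArg some (SSet.δ_naturality_apply (secRes S g) i a.1.1)
      · simp only [f₁] at h
        split_ifs at h with h'
        cases h
        have e := (congrArg (fun y => (Y ⊗ Δ[1]).δ i y) h₀).trans
          (SSet.δ_naturality_apply (SSet.ι₁ (X := Y)) i a.1.1).symm
        show endVal Y _ _ ((Y ⊗ Δ[1]).δ i a.1) = _
        rw [e, endVal_ι₁]
        simp only [f₁]
        rw [dif_pos ⟨(Nat.le_succ k).trans h'.1, hB k a.1.1 a.2 i⟩, hs₂ k h'.1]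
        congr 2
        exact Subtype.ext (SSet.δ_naturality_apply (secMap v U) i a.1.1))
    m
  refine ⟨R, hR, fun W r hr => ?_⟩
  obtain ⟨L, -, h₂, h₃⟩ := hL r hr
  refine ⟨L, h₂, fun k hk b hb => h₃ k hk _ _ (endVal_ι₀ Y _ _ b), fun k hk b hb => h₃ k hk _ _ ?_⟩
  exact (endVal_ι₁ Y _ _ b).trans (dif_pos ⟨hk, hb⟩)

/-- The boundary obtained from a cylinder lifting. -/
theorem boundary_of_cylinder {Y Y' T' : SSet.{u}} (v : Y ⟶ T') (ρ : Y ⟶ Y') {p : ℕ}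
    (A₀ : Set (T' _⦋p⦌)) (A₁ : Set (T' _⦋p + 1⦌)) (B₀ : Set (Y _⦋p⦌)) (B₁ : Set (Y _⦋p + 1⦌))
    (hA : ∀ a ∈ A₁, ∀ i, T'.δ i a ∈ A₀) (hB : ∀ b ∈ B₁, ∀ i, Y.δ i b ∈ B₀)
    (hB' : ∀ θ : ⦋p + 1⦌ ⟶ ⦋p⦌, ∀ b ∈ B₀, Y.map θ.op b ∈ B₁)
    (hBA : ∀ b ∈ B₀, v.app _ b ∈ A₀)
    (σ₀ : A₀ → Y' _⦋p⦌) (σ₁ : A₁ → Y' _⦋p + 1⦌)
    (hσ : ∀ a i, Y'.δ i (σ₁ a) = σ₀ ⟨T'.δ i a.1, hA a.1 a.2 i⟩)
    (L₀ : {y : (Y ⊗ Δ[1] : SSet.{u}) _⦋p⦌ | y.1 ∈ B₀} → Y' _⦋p⦌)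
    (L₁ : {y : (Y ⊗ Δ[1] : SSet.{u}) _⦋p + 1⦌ | y.1 ∈ B₁} → Y' _⦋p + 1⦌)
    (hL : ∀ a i, Y'.δ i (L₁ a) = L₀ ⟨(Y ⊗ Δ[1]).δ i a.1, hB a.1.1 a.2 i⟩)
    (hL₀ : ∀ b (hb : b ∈ B₀), L₀ ⟨SSet.ι₀.app _ b, hb⟩ = ρ.app _ b)
    (hL₁ : ∀ b (hb : b ∈ B₀), L₀ ⟨SSet.ι₁.app _ b, hb⟩ = σ₀ ⟨v.app _ b, hBA b hb⟩)
    (z : (ZC Y).X p) (hz : ∀ j, (ZC Y).d p j z = 0) (hzB : z ∈ span Y p B₀)
    (w : (ZC T').X (p + 1)) (hwA : w ∈ span T' (p + 1) A₁)
    (hw : (zcMap v).f p z = (ZC T').d (p + 1) p w) :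
    ∃ w' : (ZC Y').X (p + 1), (ZC Y').d (p + 1) p w' = (zcMap ρ).f p z := by
  refine ⟨secLin (p + 1) L₁ ((cylChain Y).hom p (p + 1) z) + secLin (p + 1) σ₁ w, ?_⟩
  have hH : (cylChain Y).hom p (p + 1) z ∈ span (Y ⊗ Δ[1]) (p + 1)
      {y : (Y ⊗ Δ[1] : SSet.{u}) _⦋p + 1⦌ | y.1 ∈ B₁} :=
    cylChain_mem_span Y (A := B₀) (A' := B₁) hB' hzB
  rw [map_add, secLin_d L₁ L₀ (fun a ha i => hB a.1 ha i) hL hH]
  have e₀ : secLin p L₀ ((zcMap (SSet.ι₀ (X := Y))).f p z) = (zcMap ρ).f p z := by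
    refine eq_on_span ((secLin p L₀).comp ((zcMap (SSet.ι₀ (X := Y))).f p).hom)
      ((zcMap ρ).f p).hom (fun a ha => ?_) hzB
    simp only [AddMonoidHom.comp_apply]
    refine (congrArg (secLin p L₀) (zcMap_gn _ _ _)).trans ?_
    refine (secLin_gn L₀ ha).trans (Eq.trans ?_ (zcMap_gn _ _ _).symm)
    exact congrArg (gn Y' p) (hL₀ a ha)
  have e₁ : secLin p L₀ ((zcMap (SSet.ι₁ (X := Y))).f p z) =
      (ZC Y').d (p + 1) p (secLin (p + 1) σ₁ w) := by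
    rw [secLin_d σ₁ σ₀ hA hσ hwA, ← hw]
    refine eq_on_span ((secLin p L₀).comp ((zcMap (SSet.ι₁ (X := Y))).f p).hom)
      ((secLin p σ₀).comp ((zcMap v).f p).hom) (fun a ha => ?_) hzB
    simp only [AddMonoidHom.comp_apply]
    refine (congrArg (secLin p L₀) (zcMap_gn _ _ _)).trans ?_
    refine (secLin_gn L₀ ha).trans ?_
    refine Eq.trans ?_ (congrArg (secLin p σ₀) (zcMap_gn _ _ _)).symm
    exact (congrArg (gn Y' p) (hL₁ a ha)).trans (secLin_gn σ₀ (hBA a ha)).symm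
  rw [← e₀, ← e₁, ← map_add]
  exact congrArg (secLin p L₀) (cylChain_cycle Y p z hz).symm

set_option maxHeartbeats 400000 in
/-- Cycles which become boundaries are locally boundaries. -/
theorem exists_boundary_lift (v : S ⟶ T) (hv : LocFib J v) {U : C} (p : ℕ)
    (z : (ZC (sec S U)).X p) (hz : ∀ j, (ZC (sec S U)).d p j z = 0)
    (w : (ZC (sec T U)).X (p + 1)) (hw : (zcMap (secMap v U)).f p z = (ZC (sec T U)).d (p + 1) p w) :
    ∃ R : Sieve U, R ∈ J U ∧ ∀ ⦃V : C⦄ (g : V ⟶ U), R g →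
      ∃ w' : (ZC (sec S V)).X (p + 1),
        (ZC (sec S V)).d (p + 1) p w' = (zcMap (secRes S g)).f p z := by
  classical
  obtain ⟨Xz, hXz, hzX⟩ := exists_finite_span z
  obtain ⟨Xw, hXw, hwX⟩ := exists_finite_span w
  let XT : Set ((sec T U) _⦋p + 1⦌) :=
    Xw ∪ (fun x => (sec T U).map (SimplexCategory.σ (0 : Fin (p + 1))).op
      ((secMap v U).app _ x)) '' Xz
  have hXT : XT.Finite := hXw.union (hXz.image _)
  let B : ∀ k, Set ((sec S U) _⦋k⦌) := gen (sec S U) Xz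
  let A : ∀ k, Set ((sec T U) _⦋k⦌) := gen (sec T U) XT
  have hBA : ∀ k, ∀ b ∈ B k, (secMap v U).app _ b ∈ A k := by
    rintro k _ ⟨φ, -, x, hx, rfl⟩
    refine ⟨φ ≫ SimplexCategory.δ 0, trivial, _, Or.inr ⟨x, hx, rfl⟩, ?_⟩
    refine Eq.trans ?_ ((secMap v U).naturality_apply φ.op x).symm
    refine ((ConcreteCategory.congr_hom ((sec T U).map_comp _ _) _).symm.trans ?_)
    congr 1
    congr 2
    rw [← op_comp]
    refine congrArg Quiver.Hom.op ?_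
    rw [Category.assoc]
    refine (congrArg (fun z => φ ≫ z) ?_).trans (Category.comp_id φ)
    exact SimplexCategory.δ_comp_σ_self (i := (0 : Fin (p + 1)))
  obtain ⟨R, hR, hs⟩ := exists_section J v hv XT hXT (p + 1)
  let R' : Sieve U :=
    { arrows := fun V g => ∃ w' : (ZC (sec S V)).X (p + 1),
        (ZC (sec S V)).d (p + 1) p w' = (zcMap (secRes S g)).f p z
      downward_closed := by
        rintro V W g ⟨w', hw'⟩ r
        refine ⟨(zcMap (secRes S r)).f _ w', ?_⟩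
        refine (ConcreteCategory.congr_hom ((zcMap (secRes S r)).comm (p + 1) p) w').trans ?_
        rw [ConcreteCategory.comp_apply, hw']
        refine eq_on_span (((zcMap (secRes S r)).f p).hom.comp ((zcMap (secRes S g)).f p).hom)
          ((zcMap (secRes S (r ≫ g))).f p).hom (fun a _ => ?_) hzX
        simp only [AddMonoidHom.comp_apply]
        refine (congrArg _ (zcMap_gn _ _ _)).trans ((zcMap_gn _ _ _).trans ?_)
        rw [← secRes_comp_apply]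
        exact (zcMap_gn _ _ _).symm }
  refine ⟨R', J.transitive hR R' fun V g hg => ?_, fun V g hg => hg⟩
  obtain ⟨s, hs₁, hs₂⟩ := hs g hg
  have := fun k => (gen_finite hXz k).to_subtype
  obtain ⟨R₁, hR₁, hL⟩ := exists_cylinder J v hv g (p + 1) A B
    (fun k a ha i => map_mem_gen _ ha) (fun k b hb i => map_mem_gen _ hb) hBA s hs₁ hs₂
  refine J.superset_covering ?_ hR₁
  intro W r hr
  obtain ⟨L, hL₂, hL₀, hL₁⟩ := hL r hr
  obtain ⟨w', hw'⟩ := boundary_of_cylinder (secMap v U) (secRes S (r ≫ g))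
    (A p) (A (p + 1)) (B p) (B (p + 1))
    (fun a ha i => map_mem_gen _ ha) (fun b hb i => map_mem_gen _ hb)
    (fun θ b hb => map_mem_gen θ hb) (hBA p)
    (fun a => (secRes S r).app _ (s p (Nat.le_succ p) a))
    (fun a => (secRes S r).app _ (s (p + 1) le_rfl a))
    (fun a i => (SSet.δ_naturality_apply (secRes S r) i _).symm.trans
      (congrArg _ (hs₂ p le_rfl a i)))
    (fun y => L p (Nat.le_succ p) ⟨y.1, y.2⟩) (fun y => L (p + 1) le_rfl ⟨y.1, y.2⟩)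
    (fun a i => hL₂ p le_rfl ⟨a.1, a.2⟩ i)
    (fun b hb => (hL₀ p _ b hb).trans (secRes_comp_apply _ _ _).symm)
    (fun b hb => hL₁ p _ b hb)
    z hz (span_mono (fun x hx => mem_gen hx) hzX) w
    (span_mono (fun x hx => mem_gen (Or.inl hx)) hwX) hw
  exact ⟨w', hw'⟩

end Groth.Agent.HyperLib
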