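import Groth.Agent.HyperLib.Chain
import Mathlib.CategoryTheory.Sites.LocallyBijective
import Mathlib.CategoryTheory.Sites.Abelian
import Mathlib.Algebra.Homology.ShortComplex.Ab

/-!
# A locally trivial fibration induces isomorphisms on the homology sheaves of free chains
-/

universe u

open CategoryTheory CategoryTheory.Limits Opposite Simplicial

namespace Groth.Agent.HyperLib

variable {C : Type u} [SmallCategory C] (J : GrothendieckTopology C)

/-- Free abelian presheaves. -/
abbrev freeP : (Cᵒᵖ ⥤ Type u) ⥤ (Cᵒᵖ ⥤ AddCommGrpCat.{u}) :=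
  (Functor.whiskeringRight Cᵒᵖ (Type u) AddCommGrpCat.{u}).obj AddCommGrpCat.free.{u}

/-- The complex of free abelian presheaves. -/
abbrev PC (S : SimplicialObject (Cᵒᵖ ⥤ Type u)) : ChainComplex (Cᵒᵖ ⥤ AddCommGrpCat.{u}) ℕ :=
  (AlgebraicTopology.alternatingFaceMapComplex _).obj
    (((SimplicialObject.whiskering _ _).obj freeP).obj S)

/-- Functoriality. -/
abbrev pcMap {S T : SimplicialObject (Cᵒᵖ ⥤ Type u)} (v : S ⟶ T) : PC S ⟶ PC T :=
  (AlgebraicTopology.alternatingFaceMapComplex _).map
    (((SimplicialObject.whiskering _ _).obj freeP).map v)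

variable {S T : SimplicialObject (Cᵒᵖ ⥤ Type u)}

/-- Sections of the terms are chains of the simplicial set of sections. -/
lemma pc_d_app (S : SimplicialObject (Cᵒᵖ ⥤ Type u)) (U : C) (i j : ℕ)
    (z : (ZC (sec S U)).X i) : ((PC S).d i j).app (op U) z = (ZC (sec S U)).d i j z := by
  by_cases h : j + 1 = i
  · subst h
    simp only [AlgebraicTopology.alternatingFaceMapComplex_obj_d,
      AlgebraicTopology.AlternatingFaceMapComplex.objD]
    let E : (((SimplicialObject.whiskering _ _).obj freeP).obj S _⦋j + 1⦌ ⟶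
        ((SimplicialObject.whiskering _ _).obj freeP).obj S _⦋j⦌) →+
        ((((SimplicialObject.whiskering _ _).obj freeP).obj S _⦋j + 1⦌).obj (op U) ⟶
          (((SimplicialObject.whiskering _ _).obj freeP).obj S _⦋j⦌).obj (op U)) :=
      AddMonoidHom.mk' (fun F => F.app (op U)) fun _ _ => rfl
    refine ConcreteCategory.congr_hom ((map_sum E _ _).trans (Finset.sum_congr rfl fun i _ => ?_)) z
    exact map_zsmul E _ _
  · rw [(PC S).shape i j h, (ZC (sec S U)).shape i j h]
    rfl

lemma pc_map_app (v : S ⟶ T) (U : C) (p : ℕ) (z : (ZC (sec S U)).X p) :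
    ((pcMap v).f p).app (op U) z = (zcMap (secMap v U)).f p z :=
  rfl

lemma pc_res (S : SimplicialObject (Cᵒᵖ ⥤ Type u)) {U V : C} (g : V ⟶ U) (p : ℕ)
    (z : (ZC (sec S U)).X p) : ((PC S).X p).map g.op z = (zcMap (secRes S g)).f p z :=
  rfl

lemma free_hom_ext {α : Type u} {A : AddCommGrpCat.{u}} {f g : AddCommGrpCat.free.obj α ⟶ A}
    (h : ∀ a : α, f (FreeAbelianGroup.of a) = g (FreeAbelianGroup.of a)) : f = g :=
  AddCommGrpCat.hom_ext (FreeAbelianGroup.lift_ext _ _ h)

lemma freeP_hom_ext {P : Cᵒᵖ ⥤ Type u} {A : Cᵒᵖ ⥤ AddCommGrpCat.{u}} {f g : freeP.obj P ⟶ A}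
    (h : ∀ V (a : P.obj V), f.app V (FreeAbelianGroup.of a) = g.app V (FreeAbelianGroup.of a)) :
    f = g :=
  NatTrans.ext (funext fun V => free_hom_ext (h V))

/-- An element as a morphism from the free presheaf on a representable. -/
def ofElem {A : Cᵒᵖ ⥤ AddCommGrpCat.{u}} {U : C} (w : A.obj (op U)) :
    freeP.obj (CategoryTheory.yoneda.obj U) ⟶ A where
  app V := AddCommGrpCat.ofHom (FreeAbelianGroup.lift fun g : unop V ⟶ U => A.map g.op w)
  naturality V W k := by
    refine free_hom_ext (α := (CategoryTheory.yoneda.obj U).obj V) fun g => ?_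
    refine (FreeAbelianGroup.lift_apply_of _ _).trans ?_
    refine Eq.trans ?_ (congrArg (A.map k) (FreeAbelianGroup.lift_apply_of _ _)).symm
    exact ConcreteCategory.congr_hom (A.map_comp g.op k) w

lemma ofElem_of {A : Cᵒᵖ ⥤ AddCommGrpCat.{u}} {U : C} (w : A.obj (op U)) {V : Cᵒᵖ}
    (g : unop V ⟶ U) : (ofElem w).app V (FreeAbelianGroup.of g) = A.map g.op w :=
  FreeAbelianGroup.lift_apply_of _ _

lemma ofElem_id {A : Cᵒᵖ ⥤ AddCommGrpCat.{u}} {U : C} (w : A.obj (op U)) :
    (ofElem w).app (op U) (FreeAbelianGroup.of (𝟙 U)) = w :=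
  (ofElem_of w _).trans (by simp)

lemma ofElem_comp {A B : Cᵒᵖ ⥤ AddCommGrpCat.{u}} {U : C} (w : A.obj (op U)) (f : A ⟶ B) :
    ofElem w ≫ f = ofElem (f.app (op U) w) :=
  freeP_hom_ext fun V g => ((congrArg (f.app V) (ofElem_of w g)).trans
    (f.naturality_apply g.op w)).trans (ofElem_of _ g).symm

lemma ofElem_zero {A : Cᵒᵖ ⥤ AddCommGrpCat.{u}} {U : C} : ofElem (0 : A.obj (op U)) = 0 :=
  freeP_hom_ext fun V g => ((ofElem_of _ g).trans (map_zero _)).trans rfl

variable (K : ChainComplex (Cᵒᵖ ⥤ AddCommGrpCat.{u}) ℕ)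

lemma exists_cycles_elem (p : ℕ) {U : C} (w : (K.X p).obj (op U))
    (hw : ∀ j, (K.d p j).app (op U) w = 0) :
    ∃ w' : (K.cycles p).obj (op U), (K.iCycles p).app (op U) w' = w := by
  have h : ofElem w ≫ K.d p ((ComplexShape.down ℕ).next p) = 0 := by
    rw [ofElem_comp, hw, ofElem_zero]
  refine ⟨(K.liftCycles (ofElem w) _ rfl h).app (op U) (FreeAbelianGroup.of (𝟙 U)), ?_⟩
  exact (ConcreteCategory.congr_hom (congr_app (K.liftCycles_i _ _ rfl h) (op U)) _).trans
    (ofElem_id w)

lemma homologyπ_app_surjective (p : ℕ) (U : C) :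
    Function.Surjective ((K.homologyπ p).app (op U)) :=
  (AddCommGrpCat.epi_iff_surjective _).1 ((NatTrans.epi_iff_epi_app _).1 inferInstance _)

lemma iCycles_app_injective (p : ℕ) (U : C) :
    Function.Injective ((K.iCycles p).app (op U)) :=
  (AddCommGrpCat.mono_iff_injective _).1 ((NatTrans.mono_iff_mono_app _).1 inferInstance _)

lemma homologyπ_app_eq_zero_iff (p : ℕ) {U : C} (z : (K.cycles p).obj (op U)) :
    (K.homologyπ p).app (op U) z = 0 ↔
      ∃ w : (K.X (p + 1)).obj (op U), (K.iCycles p).app (op U) z = (K.d (p + 1) p).app (op U) w := by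
  constructor
  · intro h
    let Sc := ShortComplex.mk _ _ (K.toCycles_comp_homologyπ (p + 1) p)
    have hex : Sc.Exact := ShortComplex.exact_of_g_is_cokernel _
      (K.homologyIsCokernel (p + 1) p (by simp))
    obtain ⟨w, hw⟩ := (ShortComplex.ab_exact_iff _).1
      (hex.map ((CategoryTheory.evaluation Cᵒᵖ AddCommGrpCat.{u}).obj (op U))) z h
    refine ⟨w, ?_⟩
    rw [← hw]
    exact ConcreteCategory.congr_hom (congr_app (K.toCycles_i (p + 1) p) (op U)) w
  · rintro ⟨w, hw⟩
    have : z = (K.toCycles (p + 1) p).app (op U) w :=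
      iCycles_app_injective K p U
        (hw.trans (ConcreteCategory.congr_hom (congr_app (K.toCycles_i (p + 1) p) (op U)) w).symm)
    rw [this]
    exact ConcreteCategory.congr_hom (congr_app (K.toCycles_comp_homologyπ (p + 1) p) (op U)) w

variable {K}

lemma isLocallyInjective_homologyMap (v : S ⟶ T) (hv : LocFib J v) (p : ℕ) :
    Presheaf.IsLocallyInjective J (HomologicalComplex.homologyMap (pcMap v) p) := by
  refine ⟨fun {X} x y hxy => ?_⟩
  obtain ⟨U⟩ := X
  obtain ⟨a, ha⟩ := homologyπ_app_surjective (PC S) p U (x - y)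
  have h0 : ((PC T).homologyπ p).app (op U)
      ((HomologicalComplex.cyclesMap (pcMap v) p).app (op U) a) = 0 := by
    refine (ConcreteCategory.congr_hom
      (congr_app (HomologicalComplex.homologyπ_naturality (pcMap v) p) (op U)) a).symm.trans ?_
    refine (congrArg _ ha).trans ?_
    refine (map_sub ((HomologicalComplex.homologyMap (pcMap v) p).app (op U)).hom x y).trans ?_
    exact sub_eq_zero.2 hxy
  obtain ⟨w, hw⟩ := (homologyπ_app_eq_zero_iff (PC T) p _).1 h0
  let z : (ZC (sec S U)).X p := ((PC S).iCycles p).app (op U) a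
  have hz : ∀ j, (ZC (sec S U)).d p j z = 0 := fun j => by
    rw [← pc_d_app]
    exact ConcreteCategory.congr_hom (congr_app ((PC S).iCycles_d p j) (op U)) a
  have hzw : (zcMap (secMap v U)).f p z = (ZC (sec T U)).d (p + 1) p w := by
    refine Eq.trans ?_ (pc_d_app T U (p + 1) p w)
    refine Eq.trans ?_ hw
    exact (ConcreteCategory.congr_hom
      (congr_app (HomologicalComplex.cyclesMap_i (pcMap v) p) (op U)) a).symm
  obtain ⟨R, hR, hR'⟩ := exists_boundary_lift J v hv p z hz w hzw
  refine J.superset_covering ?_ hR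
  intro V g hg
  obtain ⟨w', hw'⟩ := hR' g hg
  have h1 : ((PC S).homology p).map g.op (x - y) = 0 := by
    rw [← ha, ← NatTrans.naturality_apply, homologyπ_app_eq_zero_iff]
    refine ⟨w', ?_⟩
    rw [NatTrans.naturality_apply, pc_d_app, hw']
    rfl
  rw [map_sub, sub_eq_zero] at h1
  exact h1

lemma isLocallySurjective_homologyMap (v : S ⟶ T) (hv : LocFib J v) (p : ℕ) :
    Presheaf.IsLocallySurjective J (HomologicalComplex.homologyMap (pcMap v) p) := by
  refine ⟨fun {U} x => ?_⟩
  obtain ⟨a, ha⟩ := homologyπ_app_surjective (PC T) p U x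
  let z : (ZC (sec T U)).X p := ((PC T).iCycles p).app (op U) a
  have hz : ∀ j, (ZC (sec T U)).d p j z = 0 := fun j => by
    rw [← pc_d_app]
    exact ConcreteCategory.congr_hom (congr_app ((PC T).iCycles_d p j) (op U)) a
  obtain ⟨R, hR, hR'⟩ := exists_cycle_lift J v hv p z hz
  refine J.superset_covering ?_ hR
  intro V g hg
  obtain ⟨w, hw, hw'⟩ := hR' g hg
  obtain ⟨b, hb⟩ := exists_cycles_elem (PC S) p (U := V) w
    (fun j => (pc_d_app S V p j w).trans (hw j))
  refine ⟨((PC S).homologyπ p).app (op V) b, ?_⟩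
  refine (ConcreteCategory.congr_hom
    (congr_app (HomologicalComplex.homologyπ_naturality (pcMap v) p) (op V)) b).trans ?_
  rw [← ha]
  refine Eq.trans ?_ (NatTrans.naturality_apply ((PC T).homologyπ p) g.op a)
  refine congrArg ((PC T).homologyπ p |>.app (op V)) (iCycles_app_injective (PC T) p V ?_)
  refine (ConcreteCategory.congr_hom
    (congr_app (HomologicalComplex.cyclesMap_i (pcMap v) p) (op V)) b).trans ?_
  refine (congrArg _ hb).trans ?_
  exact hw'.trans (NatTrans.naturality_apply ((PC T).iCycles p) g.op a).symm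

theorem isIso_homologyMap_sheafify (v : S ⟶ T) (hv : LocFib J v) (p : ℕ) :
    IsIso (HomologicalComplex.homologyMap
      (((presheafToSheaf J AddCommGrpCat.{u}).mapHomologicalComplex _).map (pcMap v)) p) := by
  have := isLocallyInjective_homologyMap J v hv p
  have := isLocallySurjective_homologyMap J v hv p
  have hW : IsIso ((presheafToSheaf J AddCommGrpCat.{u}).map
      (HomologicalComplex.homologyMap (pcMap v) p)) :=
    (GrothendieckTopology.W_iff J _).1
      ((J.W_iff_isLocallyBijective _).2 ⟨inferInstance, inferInstance⟩)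
  have e := ShortComplex.mapHomologyIso_hom_naturality
    ((HomologicalComplex.shortComplexFunctor _ _ p).map (pcMap v))
    (presheafToSheaf J AddCommGrpCat.{u})
  rw [show HomologicalComplex.homologyMap
      (((presheafToSheaf J AddCommGrpCat.{u}).mapHomologicalComplex _).map (pcMap v)) p =
      (((PC S).sc p).mapHomologyIso (presheafToSheaf J AddCommGrpCat.{u})).hom ≫
        (presheafToSheaf J AddCommGrpCat.{u}).map (HomologicalComplex.homologyMap (pcMap v) p) ≫
        (((PC T).sc p).mapHomologyIso (presheafToSheaf J AddCommGrpCat.{u})).inv from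
      ((Iso.eq_comp_inv _).2 e).trans (Category.assoc _ _ _)]
  exact IsIso.comp_isIso' (Iso.isIso_hom _) (IsIso.comp_isIso' hW (Iso.isIso_inv _))

/-- The sheafified complex of free chains. -/
noncomputable abbrev SC (S : SimplicialObject (Cᵒᵖ ⥤ Type u)) :
    ChainComplex (Sheaf J AddCommGrpCat.{u}) ℕ :=
  (AlgebraicTopology.alternatingFaceMapComplex _).obj
    (((SimplicialObject.whiskering _ _).obj (freeP ⋙ presheafToSheaf J AddCommGrpCat.{u})).obj S)

/-- The map of sheafified complexes. -/
noncomputable abbrev scMap (v : S ⟶ T) : SC J S ⟶ SC J T :=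
  (AlgebraicTopology.alternatingFaceMapComplex _).map
    (((SimplicialObject.whiskering _ _).obj (freeP ⋙ presheafToSheaf J AddCommGrpCat.{u})).map v)

theorem isIso_homologyMap_scMap (v : S ⟶ T) (hv : LocFib J v) (p : ℕ) :
    IsIso (HomologicalComplex.homologyMap (scMap J v) p) := by
  let e := eqToIso (AlgebraicTopology.map_alternatingFaceMapComplex
    (presheafToSheaf J AddCommGrpCat.{u}) (C := Cᵒᵖ ⥤ AddCommGrpCat.{u}))
  have h := e.hom.naturality (((SimplicialObject.whiskering _ _).obj freeP).map v)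
  have := isIso_homologyMap_sheafify J v hv p
  have he : ∀ Y, IsIso (HomologicalComplex.homologyMap (e.hom.app Y) p) := fun Y =>
    inferInstanceAs (IsIso ((HomologicalComplex.homologyFunctor _ _ p).map (e.hom.app Y)))
  have h' := congrArg (fun φ => HomologicalComplex.homologyMap φ p) h
  simp only [HomologicalComplex.homologyMap_comp] at h'
  have hS := he (((SimplicialObject.whiskering _ _).obj freeP).obj S)
  have hT := he (((SimplicialObject.whiskering _ _).obj freeP).obj T)
  exact @IsIso.of_isIso_fac_left _ _ _ _ _ _ _ _ hS (IsIso.comp_isIso' ‹_› hT) h'.symm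

end Groth.Agent.HyperLib
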