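import Groth.Agent.HyperLib.Acyclic
import Groth.Agent.HyperLib.CechEl
import Groth.Agent.SiteBase.CofreeFam
import Mathlib.CategoryTheory.Limits.Shapes.IsTerminal

/-!
# Cech cochains of a sheaf as morphisms out of the free simplicial sheaf
-/

universe u

open CategoryTheory CategoryTheory.Limits Opposite Simplicial

namespace Groth.Agent.HyperLib

open FormalCoproduct

variable {C : Type u} [SmallCategory C] (J : GrothendieckTopology C)

/-- Cochains of one term. -/
noncomputable abbrev cochT (P : Cᵒᵖ ⥤ AddCommGrpCat.{u}) :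
    (FormalCoproduct.{u} C)ᵒᵖ ⥤ AddCommGrpCat.{u} :=
  (FormalCoproduct.evalOp.{u} C AddCommGrpCat.{u}).obj P

/-- A component of a cochain. -/
noncomputable def cpr {P : Cᵒᵖ ⥤ AddCommGrpCat.{u}} {A : FormalCoproduct.{u} C} (i : A.I) :
    (cochT P).obj (op A) ⟶ P.obj (op (A.obj i)) :=
  Pi.π (fun i => P.obj (op (A.obj i))) i

lemma cochT_ext {P : Cᵒᵖ ⥤ AddCommGrpCat.{u}} {A : FormalCoproduct.{u} C}
    {x y : (cochT P).obj (op A)} (h : ∀ i, cpr i x = cpr i y) : x = y :=
  Concrete.limit_ext _ x y fun ⟨i⟩ => h i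

lemma cochT_exists {P : Cᵒᵖ ⥤ AddCommGrpCat.{u}} {A : FormalCoproduct.{u} C}
    (f : ∀ i, P.obj (op (A.obj i))) : ∃ x : (cochT P).obj (op A), ∀ i, cpr i x = f i := by
  let g : ∀ i, AddCommGrpCat.of (ULift.{u} ℤ) ⟶ P.obj (op (A.obj i)) := fun i =>
    AddCommGrpCat.ofHom ((zmultiplesHom _ (f i)).comp AddEquiv.ulift.toAddMonoidHom)
  refine ⟨Pi.lift g (ULift.up (1 : ℤ)), fun i => ?_⟩
  exact (ConcreteCategory.congr_hom (Pi.lift_π g i) (ULift.up (1 : ℤ))).trans (one_zsmul _)

lemma cpr_map {P : Cᵒᵖ ⥤ AddCommGrpCat.{u}} {A B : FormalCoproduct.{u} C} (f : A ⟶ B)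
    (x : (cochT P).obj (op B)) (i : A.I) :
    cpr i ((cochT P).map f.op x) = P.map (f.φ i).op (cpr (f.f i) x) :=
  ConcreteCategory.congr_hom
    (Pi.lift_π (fun i : A.I => Pi.π (fun j => P.obj (op (B.obj j))) (f.f i) ≫ P.map (f.φ i).op) i) x

/-- A cochain as a morphism from the free presheaf. -/
noncomputable def ofCochain {P : Cᵒᵖ ⥤ AddCommGrpCat.{u}} {A : FormalCoproduct.{u} C}
    (x : (cochT P).obj (op A)) : freeP.obj (el.obj A) ⟶ P where
  app V := AddCommGrpCat.ofHom (FreeAbelianGroup.lift fun a : (incl C).obj V.unop ⟶ A =>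
    P.map (a.φ PUnit.unit).op (cpr (a.f PUnit.unit) x))
  naturality V W k := by
    refine free_hom_ext (α := (el.obj A).obj V) fun a => ?_
    refine (FreeAbelianGroup.lift_apply_of _ _).trans ?_
    refine Eq.trans ?_ (congrArg (P.map k) (FreeAbelianGroup.lift_apply_of _ _)).symm
    exact ConcreteCategory.congr_hom (P.map_comp (Hom.φ a PUnit.unit).op k) (cpr (Hom.f a PUnit.unit) x)

lemma ofCochain_of {P : Cᵒᵖ ⥤ AddCommGrpCat.{u}} {A : FormalCoproduct.{u} C}
    (x : (cochT P).obj (op A)) {V : Cᵒᵖ} (a : (incl C).obj V.unop ⟶ A) :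
    (ofCochain x).app V (FreeAbelianGroup.of a) =
      P.map (a.φ PUnit.unit).op (cpr (a.f PUnit.unit) x) :=
  FreeAbelianGroup.lift_apply_of _ _

lemma freeP_map_of {X Y : Cᵒᵖ ⥤ Type u} (f : X ⟶ Y) (V : Cᵒᵖ) (a : X.obj V) :
    (freeP.map f).app V (FreeAbelianGroup.of a) = FreeAbelianGroup.of (f.app V a) :=
  FreeAbelianGroup.map_of_apply _

lemma freeP_ext_pt {P : Cᵒᵖ ⥤ AddCommGrpCat.{u}} {A : FormalCoproduct.{u} C}
    {φ ψ : freeP.obj (el.obj A) ⟶ P}
    (h : ∀ i, φ.app (op (A.obj i)) (FreeAbelianGroup.of (pt A i)) =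
      ψ.app (op (A.obj i)) (FreeAbelianGroup.of (pt A i))) : φ = ψ := by
  refine freeP_hom_ext fun V a => ?_
  obtain ⟨V⟩ := V
  obtain ⟨i, g, rfl⟩ : ∃ (i : A.I) (g : V ⟶ A.obj i), a = (incl C).map g ≫ pt A i :=
    ⟨_, _, fromIncl_eq a⟩
  have e : ∀ χ : freeP.obj (el.obj A) ⟶ P,
      χ.app (op V) (FreeAbelianGroup.of ((incl C).map g ≫ pt A i)) =
        P.map g.op (χ.app (op (A.obj i)) (FreeAbelianGroup.of (pt A i))) := fun χ =>
    (congrArg (χ.app (op V)) (FreeAbelianGroup.map_of_apply _).symm).trans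
      (χ.naturality_apply g.op _)
  rw [e, e, h]

lemma ofCochain_comp {P : Cᵒᵖ ⥤ AddCommGrpCat.{u}} {A B : FormalCoproduct.{u} C} (f : A ⟶ B)
    (x : (cochT P).obj (op B)) :
    ofCochain ((cochT P).map f.op x) = freeP.map (el.map f) ≫ ofCochain x := by
  refine freeP_ext_pt fun i => ?_
  rw [ofCochain_of]
  refine Eq.trans ?_ ((congrArg ((ofCochain x).app _) (freeP_map_of _ _ _)).trans
    (ofCochain_of x _)).symm
  change P.map (𝟙 (A.obj i)).op (cpr i ((cochT P).map f.op x)) =
    P.map (𝟙 _ ≫ f.φ i).op (cpr (f.f i) x)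
  rw [cpr_map, Category.id_comp]
  simp

variable {J}

/-- Cochains of a sheaf are morphisms from the free sheaf. -/
noncomputable def cochainEquiv (F : Sheaf J AddCommGrpCat.{u}) (A : FormalCoproduct.{u} C) :
    (cochT F.obj).obj (op A) ≃+
      ((presheafToSheaf J AddCommGrpCat.{u}).obj (freeP.obj (el.obj A)) ⟶ F) :=
  AddEquiv.ofBijective
    (AddMonoidHom.mk' (fun x => ((sheafificationAdjunction J AddCommGrpCat.{u}).homEquiv _ _).symm
      (ofCochain x)) fun x y => by
        rw [← Adjunction.homAddEquiv_symm_apply, ← Adjunction.homAddEquiv_symm_apply,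
          ← Adjunction.homAddEquiv_symm_apply, ← map_add]
        congr 1
        refine freeP_ext_pt fun i => ?_
        show _ = (ofCochain x).app _ _ + (ofCochain y).app _ _
        rw [ofCochain_of, ofCochain_of, ofCochain_of, map_add, map_add]
        rfl)
    ⟨fun x y h => by
      refine cochT_ext fun i => ?_
      have := congrArg (fun φ => φ.app (op (A.obj i)) (FreeAbelianGroup.of (pt A i)))
        (Equiv.injective _ h)
      simp only [ofCochain_of] at this
      change F.obj.map (𝟙 (A.obj i)).op (cpr i x) = F.obj.map (𝟙 (A.obj i)).op (cpr i y) at this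
      simpa using this,
    fun φ => by
      let ψ := (sheafificationAdjunction J AddCommGrpCat.{u}).homEquiv _ _ φ
      obtain ⟨x, hx⟩ := cochT_exists (P := F.obj) (A := A)
        fun i => ψ.app (op (A.obj i)) (FreeAbelianGroup.of (pt A i))
      refine ⟨x, ?_⟩
      refine ((sheafificationAdjunction J AddCommGrpCat.{u}).homEquiv _ _).symm_apply_eq.2 ?_
      refine freeP_ext_pt fun i => ?_
      rw [ofCochain_of]
      change F.obj.map (𝟙 (A.obj i)).op (cpr i x) = _
      simp [hx, ψ]⟩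

lemma cochainEquiv_map (F : Sheaf J AddCommGrpCat.{u}) {A B : FormalCoproduct.{u} C} (f : A ⟶ B)
    (x : (cochT F.obj).obj (op B)) :
    cochainEquiv F A ((cochT F.obj).map f.op x) =
      (presheafToSheaf J AddCommGrpCat.{u}).map (freeP.map (el.map f)) ≫ cochainEquiv F B x := by
  show ((sheafificationAdjunction J AddCommGrpCat.{u}).homEquiv _ _).symm _ = _
  refine (congrArg _ (ofCochain_comp (P := F.obj) f x)).trans ?_
  exact Adjunction.homEquiv_naturality_left_symm _ _ _

variable (K : SimplicialObject (FormalCoproduct.{u} C))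

lemma cechCxSite_d (P : Cᵒᵖ ⥤ AddCommGrpCat.{u}) (n : ℕ) :
    (Hyper.cechCxSite K P).d n (n + 1) =
      ∑ i : Fin (n + 2), (-1 : ℤ) ^ (i : ℕ) • (cochT P).map (K.δ i).op := by
  simp only [Hyper.cechCxSite, FormalCoproduct.cochainComplexFunctor, Functor.comp_obj,
    AlgebraicTopology.alternatingCofaceMapComplex, AlgebraicTopology.AlternatingCofaceMapComplex.obj,
    CochainComplex.of_d, AlgebraicTopology.AlternatingCofaceMapComplex.objD]
  rfl

lemma cochainEquiv_d (F : Sheaf J AddCommGrpCat.{u}) (n : ℕ) (x : (cochT F.obj).obj (op (K _⦋n⦌))) :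
    cochainEquiv F (K _⦋n + 1⦌) ((Hyper.cechCxSite K F.obj).d n (n + 1) x) =
      (SC J (K ⋙ el)).d (n + 1) n ≫ cochainEquiv F (K _⦋n⦌) x := by
  rw [cechCxSite_d]
  erw [sum_zsmul_apply, map_sum]
  simp only [AlgebraicTopology.alternatingFaceMapComplex_obj_d,
    AlgebraicTopology.AlternatingFaceMapComplex.objD]
  refine Eq.trans ?_ (Preadditive.sum_comp _ _ _).symm
  refine Finset.sum_congr rfl fun i _ => ?_
  refine (map_zsmul (cochainEquiv F (K _⦋n + 1⦌)) _ _).trans ?_
  refine Eq.trans ?_ (Preadditive.zsmul_comp _ _ _).symm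
  exact congrArg (fun z => ((-1 : ℤ) ^ (i : ℕ)) • z) (cochainEquiv_map F (K.δ i) x)

/-- Cech cocycles of an injective sheaf are coboundaries. -/
theorem isZero_homology_cechCxSite (hK : IsLocTrivial J K) (I : Sheaf J AddCommGrpCat.{u})
    [Injective I] (p : ℕ) : IsZero ((Hyper.cechCxSite K I.obj).homology (p + 1)) := by
  rw [← HomologicalComplex.exactAt_iff_isZero_homology,
    HomologicalComplex.exactAt_iff' _ p (p + 1) (p + 1 + 1) (by simp) (by simp),
    ShortComplex.ab_exact_iff]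
  intro c hc
  let Sc := (SC J (K ⋙ el)).sc' (p + 1 + 1) (p + 1) p
  have hex : Sc.Exact := by
    refine ((HomologicalComplex.exactAt_iff' (SC J (K ⋙ el)) (p + 1 + 1) (p + 1) p
      (by simp) (by simp)).1 ?_)
    rw [HomologicalComplex.exactAt_iff_isZero_homology]
    exact (isZero_homology_freeChainCx J hK p).of_iso
      ((HomologicalComplex.homologyFunctor _ _ (p + 1)).mapIso (freeChainCxIso J K)).symm
  have hψ : Sc.f ≫ cochainEquiv I (K _⦋p + 1⦌) c = 0 :=
    (cochainEquiv_d K I (p + 1) c).symm.trans ((congrArg _ hc).trans (map_zero _))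
  obtain ⟨b, hb⟩ := (cochainEquiv I (K _⦋p⦌)).surjective (hex.descToInjective _ hψ)
  refine ⟨b, (cochainEquiv I (K _⦋p + 1⦌)).injective ?_⟩
  refine (cochainEquiv_d K I p b).trans ?_
  rw [hb]
  exact hex.comp_descToInjective _ hψ

/-- The zeroth Cech cohomology is the group of morphisms from the constant sheaf. -/
theorem exists_homology_zero_iso (hK : IsLocTrivial J K) (F : Sheaf J AddCommGrpCat.{u}) :
    Nonempty ((Hyper.cechCxSite K F.obj).homology 0 ≅ AddCommGrpCat.of (ZSh J ⟶ F)) := by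
  obtain ⟨e⟩ := exists_homologyIso_zero J hK
  let S := SC J (K ⋙ el)
  let e' : S.homology 0 ≅ ZSh J :=
    (HomologicalComplex.homologyFunctor _ _ 0).mapIso (freeChainCxIso J K).symm ≪≫ e
  have := S.isIso_iCycles 0 0 (by simp) (by simp)
  let π : S.X 0 ⟶ ZSh J := inv (S.iCycles 0) ≫ S.homologyπ 0 ≫ e'.hom
  have hπ : S.d 1 0 ≫ π = 0 := by
    rw [← S.toCycles_i 1 0]
    refine (Category.assoc _ _ _).trans ?_
    simp only [π, IsIso.hom_inv_id_assoc]
    exact (Category.assoc _ _ _).symm.trans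
      ((congrArg (fun z => z ≫ e'.hom) (S.toCycles_comp_homologyπ 1 0)).trans zero_comp)
  let χ : AddCommGrpCat.of (ZSh J ⟶ F) ⟶ (Hyper.cechCxSite K F.obj).X 0 :=
    AddCommGrpCat.ofHom (AddMonoidHom.mk' (fun φ => (cochainEquiv F (K _⦋0⦌)).symm (π ≫ φ))
      fun φ φ' => (congrArg _ (Preadditive.comp_add _ _ _ π φ φ')).trans
        (map_add (cochainEquiv F (K _⦋0⦌)).symm _ _))
  have hχ : χ ≫ (Hyper.cechCxSite K F.obj).d 0 1 = 0 := by
    ext φ
    refine (cochainEquiv F (K _⦋1⦌)).injective ?_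
    refine (cochainEquiv_d K F 0 _).trans ?_
    refine Eq.trans ?_ (map_zero (cochainEquiv F (K _⦋1⦌))).symm
    show S.d 1 0 ≫ cochainEquiv F (K _⦋0⦌) ((cochainEquiv F (K _⦋0⦌)).symm (π ≫ φ)) = 0
    refine (congrArg (fun z => S.d 1 0 ≫ z) (AddEquiv.apply_symm_apply _ _)).trans ?_
    exact (Category.assoc _ _ _).symm.trans ((congrArg (fun z => z ≫ φ) hπ).trans zero_comp)
  let Z := Hyper.cechCxSite K F.obj
  let ζ : AddCommGrpCat.of (ZSh J ⟶ F) ⟶ Z.cycles 0 := Z.liftCycles χ 1 (by simp) hχ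
  have := Z.isIso_homologyπ 0 0 (by simp) (by simp)
  have hζi : Function.Injective ζ := by
    intro φ φ' h
    have h' := congrArg (Z.iCycles 0) h
    rw [← ConcreteCategory.comp_apply, ← ConcreteCategory.comp_apply, Z.liftCycles_i] at h'
    have h'' := (cochainEquiv F (K _⦋0⦌)).symm.injective h'
    have : Epi π := by
      have : Epi (S.homologyπ 0 ≫ e'.hom) := inferInstance
      exact epi_comp _ _
    exact (cancel_epi π).1 h''
  have hζs : Function.Surjective ζ := by
    intro z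
    have hd : (S.d 1 0) ≫ cochainEquiv F (K _⦋0⦌) (Z.iCycles 0 z) = 0 := by
      refine (cochainEquiv_d K F 0 _).symm.trans ?_
      exact (congrArg _ (ConcreteCategory.congr_hom (Z.iCycles_d 0 1) z)).trans
        (map_zero (cochainEquiv F (K _⦋1⦌)))
    let g : S.X 0 ⟶ F := cochainEquiv F (K _⦋0⦌) (Z.iCycles 0 z)
    let ψ : S.cycles 0 ⟶ F := S.iCycles 0 ≫ g
    have hψ : S.toCycles 1 0 ≫ ψ = 0 :=
      ((Category.assoc _ _ _).symm.trans (congrArg (fun w => w ≫ g) (S.toCycles_i 1 0))).trans hd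
    obtain ⟨θ, hθ⟩ := CokernelCofork.IsColimit.desc' (S.homologyIsCokernel 1 0 (by simp)) ψ hψ
    have hθ' : S.homologyπ 0 ≫ θ = ψ := hθ
    refine ⟨e'.inv ≫ θ, (AddCommGrpCat.mono_iff_injective (Z.iCycles 0)).1 inferInstance ?_⟩
    rw [← ConcreteCategory.comp_apply, Z.liftCycles_i]
    refine ((cochainEquiv F (K _⦋0⦌)).symm_apply_eq).2 ?_
    show (inv (S.iCycles 0) ≫ S.homologyπ 0 ≫ e'.hom) ≫ e'.inv ≫ θ = g
    simp only [Category.assoc, Iso.hom_inv_id_assoc]
    exact (congrArg (fun w => inv (S.iCycles 0) ≫ w) hθ').trans (IsIso.inv_hom_id_assoc _ _)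
  have : IsIso ζ := (ConcreteCategory.isIso_iff_bijective ζ).2 ⟨hζi, hζs⟩
  exact ⟨(asIso (Z.homologyπ 0)).symm ≪≫ (asIso ζ).symm⟩

variable (J)

/-- Morphisms from the constant sheaf are global sections. -/
theorem exists_hom_zsh_iso_limit (F : Sheaf J AddCommGrpCat.{u}) :
    Nonempty (AddCommGrpCat.of (ZSh J ⟶ F) ≅ limit F.obj) := by
  let adj := sheafificationAdjunction J AddCommGrpCat.{u}
  let one : AddCommGrpCat.free.{u}.obj PUnit.{u + 1} := FreeAbelianGroup.of PUnit.unit
  let π : ∀ j, AddCommGrpCat.of (ZSh J ⟶ F) ⟶ F.obj.obj j := fun j =>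
    AddCommGrpCat.ofHom (AddMonoidHom.mk' (fun φ => (adj.homEquiv _ _ φ).app j one) fun φ φ' => by
      rw [← Adjunction.homAddEquiv_apply, ← Adjunction.homAddEquiv_apply,
        ← Adjunction.homAddEquiv_apply, map_add]
      rfl)
  let c : Cone F.obj :=
    { pt := AddCommGrpCat.of (ZSh J ⟶ F)
      π :=
        { app := π
          naturality := fun j j' f => by
            ext φ
            exact (adj.homEquiv _ _ φ).naturality_apply f one } }
  have hc : ∀ (φ : ZSh J ⟶ F) j, limit.π F.obj j (limit.lift F.obj c φ) =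
      (adj.homEquiv _ _ φ).app j one := fun φ j =>
    ConcreteCategory.congr_hom (limit.lift_π c j) φ
  have hi : Function.Injective (limit.lift F.obj c) := by
    intro φ φ' h
    refine (adj.homEquiv _ _).injective (NatTrans.ext (funext fun j => free_hom_ext fun a => ?_))
    have := congrArg (limit.π F.obj j) h
    rw [hc, hc] at this
    exact this
  have hs : Function.Surjective (limit.lift F.obj c) := by
    intro x
    refine ⟨(adj.homEquiv _ _).symm
      { app := fun j => AddCommGrpCat.ofHom (FreeAbelianGroup.lift fun _ : PUnit.{u + 1} =>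
          limit.π F.obj j x)
        naturality := fun j j' f => free_hom_ext (α := PUnit.{u + 1}) fun a => by
          refine (FreeAbelianGroup.lift_apply_of _ _).trans ?_
          refine Eq.trans ?_ (congrArg (F.obj.map f) (FreeAbelianGroup.lift_apply_of _ _)).symm
          exact (ConcreteCategory.congr_hom (limit.w F.obj f) x).symm },
      Concrete.limit_ext _ _ _ fun j => ?_⟩
    rw [hc, Equiv.apply_symm_apply]
    exact FreeAbelianGroup.lift_apply_of _ _
  have : IsIso (limit.lift F.obj c) := (ConcreteCategory.isIso_iff_bijective _).2 ⟨hi, hs⟩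
  exact ⟨asIso (limit.lift F.obj c)⟩

end Groth.Agent.HyperLib
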