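import Groth.Agent.HyperLib.Coskel
import Mathlib.AlgebraicTopology.SimplicialObject.Homotopy
import Mathlib.CategoryTheory.Limits.Shapes.FiniteLimits
import Mathlib.CategoryTheory.Functor.KanExtension.Pointwise
import Mathlib.Data.Finite.Sigma

/-!
# Homotopies between maps of coskeleta
-/

universe v u

open CategoryTheory CategoryTheory.Limits Opposite Simplicial

set_option linter.unusedSectionVars false

namespace Groth.Agent.HyperLib

instance finite_truncated (n : ℕ) : Finite (SimplexCategory.Truncated n) :=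
  Finite.of_surjective
    (fun m : Fin (n + 1) =>
      (⟨SimplexCategory.mk m.1, Nat.le_of_lt_succ m.2⟩ : SimplexCategory.Truncated n))
    fun Δ => ⟨⟨Δ.obj.len, Nat.lt_succ_of_le Δ.property⟩, rfl⟩

noncomputable instance finCategory_structuredArrow (n : ℕ) (Δ : SimplexCategoryᵒᵖ) :
    FinCategory (StructuredArrow Δ (SimplexCategory.Truncated.inclusion n).op) := by
  haveI : ∀ a b : SimplexCategory, Finite (a ⟶ b) := fun a b =>
    Finite.of_injective (fun f => f.toOrderHom.toFun) fun f g h =>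
      SimplexCategory.Hom.ext _ _ (OrderHom.ext _ _ h)
  have hobj : Finite (StructuredArrow Δ (SimplexCategory.Truncated.inclusion n).op) := by
    refine Finite.of_surjective
      (α := Σ Δ' : SimplexCategory.Truncated n, (Δ'.obj ⟶ Δ.unop))
      (fun p => StructuredArrow.mk (Y := op p.1) (p.2.op : Δ ⟶ op p.1.obj)) fun j => ?_
    exact ⟨⟨j.right.unop, j.hom.unop⟩, (StructuredArrow.eq_mk j).symm⟩
  have hhom : ∀ a b : StructuredArrow Δ (SimplexCategory.Truncated.inclusion n).op,
      Finite (a ⟶ b) := fun a b =>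
    Finite.of_injective (fun f => f.right.unop.hom) fun f g e =>
      StructuredArrow.hom_ext _ _ (Quiver.Hom.unop_inj (ObjectProperty.hom_ext _ e))
  exact { fintypeObj := Fintype.ofFinite _, fintypeHom := fun a b => Fintype.ofFinite _ }

variable {E : Type u} [Category.{v} E] [HasFiniteLimits E] (n : ℕ)
  [∀ (F : (SimplexCategory.Truncated n)ᵒᵖ ⥤ E),
    (SimplexCategory.Truncated.inclusion n).op.HasRightKanExtension F]

/-- The projections of a coskeleton. -/
noncomputable def pr (X : SimplicialObject E) {Δ Δ' : SimplexCategory} (h : Δ'.len ≤ n)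
    (φ : Δ' ⟶ Δ) : ((SimplicialObject.cosk n).obj X).obj (op Δ) ⟶ X.obj (op Δ') :=
  ((SimplicialObject.cosk n).obj X).map φ.op ≫ ε X Δ' h

variable {n}

lemma pr_map (X : SimplicialObject E) {Δ Δ' Δ'' : SimplexCategory} (h : Δ''.len ≤ n)
    (φ : Δ'' ⟶ Δ') (θ : Δ' ⟶ Δ) :
    ((SimplicialObject.cosk n).obj X).map θ.op ≫ pr n X h φ = pr n X h (φ ≫ θ) := by
  rw [pr, pr, op_comp, Functor.map_comp, Category.assoc]

lemma counit_naturality (X : SimplicialObject E) {Δ Δ' : SimplexCategory} (h : Δ.len ≤ n)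
    (h' : Δ'.len ≤ n) (φ : Δ ⟶ Δ') :
    ((SimplicialObject.cosk n).obj X).map φ.op ≫ ε X Δ h = ε X Δ' h' ≫ X.map φ.op :=
  ((SimplicialObject.coskAdj n).counit.app ((SimplicialObject.truncation n).obj X)).naturality
    (SimplexCategory.Truncated.Hom.tr φ h h').op

lemma pr_naturality (X : SimplicialObject E) {Δ Δ' Δ'' : SimplexCategory} (h : Δ'.len ≤ n)
    (h' : Δ''.len ≤ n) (θ : Δ'' ⟶ Δ') (φ : Δ' ⟶ Δ) :
    pr n X h φ ≫ X.map θ.op = pr n X h' (θ ≫ φ) := by
  rw [pr, pr, Category.assoc, ← counit_naturality X h' h θ, op_comp, Functor.map_comp, Category.assoc]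

lemma cosk_map_pr {X X' : SimplicialObject E} (f : X ⟶ X') {Δ Δ' : SimplexCategory}
    (h : Δ'.len ≤ n) (φ : Δ' ⟶ Δ) :
    ((SimplicialObject.cosk n).map f).app (op Δ) ≫ pr n X' h φ =
      pr n X h φ ≫ f.app (op Δ') := by
  simp only [pr, Category.assoc]
  rw [← NatTrans.naturality_assoc]
  congr 1
  exact congr_app ((SimplicialObject.coskAdj n).counit.naturality
    ((SimplicialObject.truncation n).map f)) (op ⟨Δ', h⟩)

/-- The coskeleton is computed pointwise. -/
noncomputable def prIsLimit (X : SimplicialObject E) (Δ : SimplexCategory) :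
    IsLimit ((Functor.RightExtension.mk ((SimplicialObject.cosk n).obj X)
      ((SimplicialObject.coskAdj n).counit.app
        ((SimplicialObject.truncation n).obj X))).coneAt (op Δ)) :=
  haveI : (SimplexCategory.Truncated.inclusion n).op.HasPointwiseRightKanExtension
      ((SimplicialObject.truncation n).obj X) := fun _ => inferInstance
  Functor.isPointwiseRightKanExtensionOfIsRightKanExtension
    ((SimplicialObject.cosk n).obj X)
    ((SimplicialObject.coskAdj n).counit.app ((SimplicialObject.truncation n).obj X)) (op Δ)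

lemma pr_hom_ext {X : SimplicialObject E} {Δ : SimplexCategory} {P : E}
    {a b : P ⟶ ((SimplicialObject.cosk n).obj X).obj (op Δ)}
    (h : ∀ (Δ' : SimplexCategory) (hΔ : Δ'.len ≤ n) (φ : Δ' ⟶ Δ),
      a ≫ pr n X hΔ φ = b ≫ pr n X hΔ φ) : a = b :=
  (prIsLimit X Δ).hom_ext fun j => h j.right.unop.obj j.right.unop.property j.hom.unop

lemma pr_exists {X : SimplicialObject E} {Δ : SimplexCategory} {P : E}
    (F : ∀ (Δ' : SimplexCategory) (_ : Δ'.len ≤ n), (Δ' ⟶ Δ) → (P ⟶ X.obj (op Δ')))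
    (hF : ∀ (Δ' Δ'' : SimplexCategory) (h : Δ'.len ≤ n) (h' : Δ''.len ≤ n) (θ : Δ'' ⟶ Δ')
      (φ : Δ' ⟶ Δ), F Δ' h φ ≫ X.map θ.op = F Δ'' h' (θ ≫ φ)) :
    ∃ a : P ⟶ ((SimplicialObject.cosk n).obj X).obj (op Δ),
      ∀ (Δ' : SimplexCategory) (h : Δ'.len ≤ n) (φ : Δ' ⟶ Δ), a ≫ pr n X h φ = F Δ' h φ := by
  let c : Cone (StructuredArrow.proj (op Δ) (SimplexCategory.Truncated.inclusion n).op ⋙
      (SimplicialObject.truncation n).obj X) :=
    { pt := P
      π :=
        { app := fun j => F j.right.unop.obj j.right.unop.property j.hom.unop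
          naturality := fun j j' f => by
            refine (Category.id_comp _).trans ?_
            refine Eq.trans ?_ (hF j.right.unop.obj j'.right.unop.obj j.right.unop.property
              j'.right.unop.property f.right.unop.hom j.hom.unop).symm
            exact congrArg (F j'.right.unop.obj j'.right.unop.property)
              (congrArg Quiver.Hom.unop (StructuredArrow.w f)).symm } }
  refine ⟨(prIsLimit X Δ).lift c, fun Δ' h φ => ?_⟩
  exact (prIsLimit X Δ).fac c (StructuredArrow.mk (Y := op (⟨Δ', h⟩ : SimplexCategory.Truncated n))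
    (φ.op : op Δ ⟶ op Δ'))

section

variable {X X' : SimplicialObject E} (f g : X ⟶ X')

/-- All vertices are at most `i`. -/
def AllLe (i : ℕ) {Δ' : SimplexCategory} {m : ℕ} (φ : Δ' ⟶ ⦋m⦌) : Prop :=
  ∀ x, (φ.toOrderHom x).val ≤ i

/-- The chosen component. -/
noncomputable def choice (i : ℕ) {Δ' : SimplexCategory} {m : ℕ} (φ : Δ' ⟶ ⦋m⦌) :
    X.obj (op Δ') ⟶ X'.obj (op Δ') :=
  by classical exact if AllLe i φ then f.app (op Δ') else g.app (op Δ')

lemma choice_congr {i i' : ℕ} {Δ' : SimplexCategory} {m m' : ℕ} {φ : Δ' ⟶ ⦋m⦌} {φ' : Δ' ⟶ ⦋m'⦌}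
    (h : AllLe i φ ↔ AllLe i' φ') : choice f g i φ = choice f g i' φ' := by
  unfold choice
  by_cases hc : AllLe i φ
  · rw [if_pos hc, if_pos (h.1 hc)]
  · rw [if_neg hc, if_neg fun h' => hc (h.2 h')]

variable (hfg : ∀ p : ℕ, p < n → f.app (op ⦋p⦌) = g.app (op ⦋p⦌))

include hfg in
lemma agree {Δ' Δ'' : SimplexCategory} (h : Δ'.len ≤ n) (θ : Δ'' ⟶ Δ')
    (hθ : ¬ Function.Surjective θ.toOrderHom) :
    g.app (op Δ') ≫ X'.map θ.op = f.app (op Δ') ≫ X'.map θ.op := by
  obtain ⟨m⟩ := Δ'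
  cases m with
  | zero =>
    exact absurd (fun b => ⟨0, Subsingleton.elim (α := Fin 1) _ _⟩) hθ
  | succ k =>
    obtain ⟨i, θ', rfl⟩ := SimplexCategory.eq_comp_δ_of_not_surjective θ hθ
    rw [op_comp, Functor.map_comp]
    refine (g.naturality_assoc (SimplexCategory.δ i).op _).symm.trans ?_
    refine Eq.trans ?_ (f.naturality_assoc (SimplexCategory.δ i).op _)
    have hk : f.app (op ⦋k⦌) = g.app (op ⦋k⦌) := hfg k h
    rw [hk]

include hfg in
lemma choice_naturality (i : ℕ) {Δ' Δ'' : SimplexCategory} (h : Δ'.len ≤ n) {m : ℕ}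
    (θ : Δ'' ⟶ Δ') (φ : Δ' ⟶ ⦋m⦌) :
    choice f g i φ ≫ X'.map θ.op = X.map θ.op ≫ choice f g i (θ ≫ φ) := by
  unfold choice
  by_cases hφ : AllLe i φ
  · have hθφ : AllLe i (θ ≫ φ) := fun x => hφ (θ.toOrderHom x)
    rw [if_pos hφ, if_pos hθφ, f.naturality]
  · rw [if_neg hφ]
    split_ifs with hθφ
    · rw [agree f g hfg h θ fun hs => hφ fun y => by
        obtain ⟨x, rfl⟩ := hs y
        exact hθφ x, f.naturality]
    · rw [g.naturality]

/-- The components of the homotopy. -/
noncomputable def homotopyComp {q : ℕ} (i : Fin (q + 1)) (Δ' : SimplexCategory) (h : Δ'.len ≤ n)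
    (φ : Δ' ⟶ ⦋q + 1⦌) :
    ((SimplicialObject.cosk n).obj X) _⦋q⦌ ⟶ X'.obj (op Δ') :=
  pr n X h (φ ≫ SimplexCategory.σ i) ≫ choice f g i.val φ

include hfg in
lemma exists_homotopy :
    ∀ (q : ℕ) (i : Fin (q + 1)), ∃ a : ((SimplicialObject.cosk n).obj X) _⦋q⦌ ⟶
        ((SimplicialObject.cosk n).obj X') _⦋q + 1⦌,
      ∀ (Δ' : SimplexCategory) (h : Δ'.len ≤ n) (φ : Δ' ⟶ ⦋q + 1⦌),
        a ≫ pr n X' h φ = homotopyComp f g i Δ' h φ := fun q i =>
  pr_exists _ fun Δ' Δ'' h h' θ φ => by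
    simp only [homotopyComp, Category.assoc]
    rw [choice_naturality f g hfg _ h θ φ, ← Category.assoc, pr_naturality X h h' θ]

end

theorem exists_coskHomotopy {X X' : SimplicialObject E} (f g : X ⟶ X')
    (hfg : ∀ p : ℕ, p < n → f.app (op ⦋p⦌) = g.app (op ⦋p⦌)) :
    Nonempty (SimplicialObject.Homotopy ((SimplicialObject.cosk n).map f)
      ((SimplicialObject.cosk n).map g)) := by
  choose a ha using exists_homotopy f g hfg
  have hleft : ∀ {q r : ℕ} (j : Fin (q + 1)) (θ : ⦋r⦌ ⟶ ⦋q + 1⦌) (Δ' : SimplexCategory)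
      (h : Δ'.len ≤ n) (φ : Δ' ⟶ ⦋r⦌),
      (a q j ≫ ((SimplicialObject.cosk n).obj X').map θ.op) ≫ pr n X' h φ =
        pr n X h ((φ ≫ θ) ≫ SimplexCategory.σ j) ≫ choice f g j.val (φ ≫ θ) := by
    intro q r j θ Δ' h φ
    rw [Category.assoc, pr_map]
    exact ha q j Δ' h (φ ≫ θ)
  have hright : ∀ {q r : ℕ} (θ : ⦋q⦌ ⟶ ⦋r⦌) (j : Fin (q + 1)) (Δ' : SimplexCategory)
      (h : Δ'.len ≤ n) (φ : Δ' ⟶ ⦋q + 1⦌),
      (((SimplicialObject.cosk n).obj X).map θ.op ≫ a q j) ≫ pr n X' h φ =
        pr n X h ((φ ≫ SimplexCategory.σ j) ≫ θ) ≫ choice f g j.val φ := by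
    intro q r θ j Δ' h φ
    rw [Category.assoc, ha, homotopyComp, ← Category.assoc, pr_map]
  refine ⟨{ h := fun {q} i => a q i, h_zero_comp_δ_zero := ?_, h_last_comp_δ_last := ?_,
            h_succ_comp_δ_castSucc_of_lt := ?_, h_succ_comp_δ_castSucc_succ := ?_,
            h_castSucc_comp_δ_succ_of_lt := ?_, h_comp_σ_castSucc_of_le := ?_,
            h_comp_σ_succ_of_lt := ?_ }⟩
  · intro q
    refine pr_hom_ext fun Δ' h φ => ?_
    refine (hleft 0 (SimplexCategory.δ 0) Δ' h φ).trans ?_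
    rw [cosk_map_pr, Category.assoc φ, SimplexCategory.δ_comp_σ_self' (by simp),
      Category.comp_id]
    congr 1
    refine if_neg fun hle => ?_
    have := hle 0
    simp [SimplexCategory.δ] at this
  · intro q
    refine pr_hom_ext fun Δ' h φ => ?_
    refine (hleft (Fin.last q) (SimplexCategory.δ (Fin.last (q + 1))) Δ' h φ).trans ?_
    rw [cosk_map_pr, Category.assoc φ, SimplexCategory.δ_comp_σ_succ' (by simp),
      Category.comp_id]
    congr 1
    refine if_pos fun x => ?_
    show ((Fin.last (q + 1)).succAbove (φ.toOrderHom x)).val ≤ (Fin.last q).val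
    rw [Fin.succAbove_last, Fin.val_castSucc, Fin.val_last]
    exact Nat.le_of_lt_succ (φ.toOrderHom x).isLt
  · intro q i j hij
    refine pr_hom_ext fun Δ' h φ => ?_
    refine (hleft j.succ (SimplexCategory.δ i.castSucc) Δ' h φ).trans
      (Eq.trans ?_ (hright (SimplexCategory.δ i) j Δ' h φ).symm)
    rw [Category.assoc φ, Category.assoc φ, SimplexCategory.δ_comp_σ_of_le hij]
    congr 1
    refine choice_congr f g (forall_congr' fun x => ?_)
    show ((i.castSucc : Fin (q + 3)).succAbove (φ.toOrderHom x)).val ≤ j.succ.val ↔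
      (φ.toOrderHom x).val ≤ j.val
    rcases lt_or_ge (φ.toOrderHom x).castSucc i.castSucc with hx | hx
    · rw [Fin.succAbove_of_castSucc_lt _ _ hx]
      simp only [Fin.le_def, Fin.lt_def, Fin.val_castSucc, Fin.val_succ, Fin.val_pred, Fin.coe_castPred] at hij hx ⊢
      omega
    · rw [Fin.succAbove_of_le_castSucc _ _ hx]
      simp
  · intro q j
    refine pr_hom_ext fun Δ' h φ => ?_
    refine (hleft j.succ (SimplexCategory.δ j.castSucc.succ) Δ' h φ).trans
      (Eq.trans ?_ (hleft j.castSucc (SimplexCategory.δ j.castSucc.succ) Δ' h φ).symm)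
    rw [Category.assoc φ, Category.assoc φ, SimplexCategory.δ_comp_σ_self' (by simp),
      SimplexCategory.δ_comp_σ_succ' (by simp)]
    congr 1
    refine choice_congr f g (forall_congr' fun x => ?_)
    have hne : ((φ ≫ SimplexCategory.δ j.castSucc.succ).toOrderHom x).val ≠ j.val + 1 := by
      intro e
      exact Fin.succAbove_ne j.castSucc.succ (φ.toOrderHom x) (Fin.ext e)
    simp only [Fin.val_succ, Fin.val_castSucc]
    omega
  · intro q i j hji
    refine pr_hom_ext fun Δ' h φ => ?_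
    refine (hleft j.castSucc (SimplexCategory.δ i.succ) Δ' h φ).trans
      (Eq.trans ?_ (hright (SimplexCategory.δ i) j Δ' h φ).symm)
    rw [Category.assoc φ, Category.assoc φ, SimplexCategory.δ_comp_σ_of_gt hji]
    congr 1
    refine choice_congr f g (forall_congr' fun x => ?_)
    show ((i.succ : Fin (q + 3)).succAbove (φ.toOrderHom x)).val ≤ j.castSucc.val ↔
      (φ.toOrderHom x).val ≤ j.val
    rcases lt_or_ge (φ.toOrderHom x).castSucc i.succ with hx | hx
    · rw [Fin.succAbove_of_castSucc_lt _ _ hx]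
      simp
    · rw [Fin.succAbove_of_le_castSucc _ _ hx]
      simp only [Fin.le_def, Fin.lt_def, Fin.val_castSucc, Fin.val_succ, Fin.val_pred, Fin.coe_castPred] at hji hx ⊢
      omega
  · intro q i j hij
    refine pr_hom_ext fun Δ' h φ => ?_
    refine (hleft j (SimplexCategory.σ i.castSucc) Δ' h φ).trans
      (Eq.trans ?_ (hright (SimplexCategory.σ i) j.succ Δ' h φ).symm)
    rw [Category.assoc φ, Category.assoc φ, ← SimplexCategory.σ_comp_σ hij]
    congr 1
    refine choice_congr f g (forall_congr' fun x => ?_)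
    show ((i.castSucc : Fin (q + 2)).predAbove (φ.toOrderHom x)).val ≤ j.val ↔
      (φ.toOrderHom x).val ≤ j.succ.val
    rcases lt_or_ge i.castSucc.castSucc (φ.toOrderHom x) with hx | hx
    · rw [Fin.predAbove_of_castSucc_lt _ _ hx]
      simp only [Fin.lt_def, Fin.val_castSucc, Fin.val_succ, Fin.val_pred] at hx ⊢
      omega
    · rw [Fin.predAbove_of_le_castSucc _ _ hx]
      simp only [Fin.le_def, Fin.val_castSucc, Fin.val_succ, Fin.val_pred, Fin.coe_castPred] at hij hx ⊢
      omega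
  · intro q i j hji
    refine pr_hom_ext fun Δ' h φ => ?_
    refine (hleft j (SimplexCategory.σ i.succ) Δ' h φ).trans
      (Eq.trans ?_ (hright (SimplexCategory.σ i) j.castSucc Δ' h φ).symm)
    rw [Category.assoc φ, Category.assoc φ, SimplexCategory.σ_comp_σ hji]
    congr 1
    refine choice_congr f g (forall_congr' fun x => ?_)
    show ((i.succ : Fin (q + 2)).predAbove (φ.toOrderHom x)).val ≤ j.val ↔
      (φ.toOrderHom x).val ≤ j.castSucc.val
    rcases lt_or_ge i.succ.castSucc (φ.toOrderHom x) with hx | hx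
    · rw [Fin.predAbove_of_castSucc_lt _ _ hx]
      simp only [Fin.le_def, Fin.lt_def, Fin.val_castSucc, Fin.val_succ, Fin.val_pred, Fin.coe_castPred] at hji hx ⊢
      omega
    · rw [Fin.predAbove_of_le_castSucc _ _ hx]
      simp

end Groth.Agent.HyperLib
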