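import Groth.Agent.HyperLib.CechDeg
import Groth.Agent.SiteBase.Cohom
import Mathlib.Algebra.Homology.HomologySequenceLemmas

/-!
# Cech classes dying on refinements of hypercoverings; comparison with sheaf cohomology
-/

universe u

open CategoryTheory CategoryTheory.Limits Opposite Simplicial

namespace Groth.Agent.HyperLib

open FormalCoproduct

variable {C : Type u} [SmallCategory C] {X : C}

/-- The Cech complex functor on presheaves on the base. -/
noncomputable abbrev cechX (K : SimplicialObject (FormalCoproduct.{u} (Over X))) :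
    (Cᵒᵖ ⥤ AddCommGrpCat.{u}) ⥤ CochainComplex AddCommGrpCat.{u} ℕ :=
  (Functor.whiskeringLeft _ _ AddCommGrpCat.{u}).obj (Over.forget X).op ⋙ cech K

/-- Refinement is natural in the presheaf. -/
noncomputable def cechNT {K L : SimplicialObject (FormalCoproduct.{u} (Over X))} (f : L ⟶ K) :
    cechX K ⟶ cechX L where
  app P := Hyper.cechMap X f P
  naturality P Q φ := by
    ext n x
    refine cochT_ext (P := (Over.forget X).op ⋙ Q) (A := L _⦋n⦌) fun i => ?_
    refine (cpr_map (P := (Over.forget X).op ⋙ Q) (f.app (op ⦋n⦌)) _ i).trans ?_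
    refine Eq.trans ?_ (cpr_cech_map L (Functor.whiskerLeft (Over.forget X).op φ) n _ i).symm
    refine Eq.trans ?_ (congrArg _ (cpr_map (P := (Over.forget X).op ⋙ P) (f.app (op ⦋n⦌)) x i).symm)
    refine (congrArg _ (cpr_cech_map K (Functor.whiskerLeft (Over.forget X).op φ) n x _)).trans ?_
    exact (φ.naturality_apply _ _).symm

lemma cechMap_comp {K L M : SimplicialObject (FormalCoproduct.{u} (Over X))} (g : M ⟶ L) (f : L ⟶ K)
    (P : Cᵒᵖ ⥤ AddCommGrpCat.{u}) :
    Hyper.cechMap X (g ≫ f) P = Hyper.cechMap X f P ≫ Hyper.cechMap X g P := by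
  ext n : 1
  rw [HomologicalComplex.comp_f, cechMap_f_eq, cechMap_f_eq, cechMap_f_eq, NatTrans.comp_app,
    op_comp, Functor.map_comp]
  rfl

lemma cechHMap_comp {K L M : SimplicialObject (FormalCoproduct.{u} (Over X))} (g : M ⟶ L) (f : L ⟶ K)
    (P : Cᵒᵖ ⥤ AddCommGrpCat.{u}) (q : ℕ) (ξ : Hyper.cechH X K P q) :
    Hyper.cechHMap X (g ≫ f) P q ξ = Hyper.cechHMap X g P q (Hyper.cechHMap X f P q ξ) := by
  show HomologicalComplex.homologyMap (Hyper.cechMap X (g ≫ f) P) q ξ = _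
  rw [cechMap_comp, HomologicalComplex.homologyMap_comp]
  rfl

/-- The map induced on Cech cohomology by a map of presheaves. -/
noncomputable abbrev hMap (K : SimplicialObject (FormalCoproduct.{u} (Over X)))
    {P Q : Cᵒᵖ ⥤ AddCommGrpCat.{u}} (φ : P ⟶ Q) (q : ℕ) :
    Hyper.cechH X K P q ⟶ Hyper.cechH X K Q q :=
  HomologicalComplex.homologyMap ((cechX K).map φ) q

lemma pull_hMap {K L : SimplicialObject (FormalCoproduct.{u} (Over X))} (f : L ⟶ K)
    {P Q : Cᵒᵖ ⥤ AddCommGrpCat.{u}} (φ : P ⟶ Q) (q : ℕ) (ξ : Hyper.cechH X K P q) :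
    Hyper.cechHMap X f Q q (hMap K φ q ξ) = hMap L φ q (Hyper.cechHMap X f P q ξ) := by
  have := congrArg (fun z => HomologicalComplex.homologyMap z q) ((cechNT f).naturality φ)
  simp only [HomologicalComplex.homologyMap_comp] at this
  exact ConcreteCategory.congr_hom this ξ

variable (J : GrothendieckTopology C) (X)

/-- Every class dies on some refinement. -/
def Dies (P : Cᵒᵖ ⥤ AddCommGrpCat.{u}) (q : ℕ) : Prop :=
  ∀ K : SimplicialObject (FormalCoproduct.{u} (Over X)), IsLocTrivial (J.over X) K →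
    ∀ ξ : Hyper.cechH X K P q, ∃ (L : SimplicialObject (FormalCoproduct.{u} (Over X))) (f : L ⟶ K),
      IsLocTrivial (J.over X) L ∧ Hyper.cechHMap X f P q ξ = 0

variable {J X}

section ses

variable {S : ShortComplex (Cᵒᵖ ⥤ AddCommGrpCat.{u})} (hS : S.ShortExact)

include hS in
lemma cechX_shortExact (K : SimplicialObject (FormalCoproduct.{u} (Over X))) :
    (S.map (cechX K)).ShortExact :=
  cech_shortExact K _
    (hS.map_of_exact ((Functor.whiskeringLeft _ _ AddCommGrpCat.{u}).obj (Over.forget X).op))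

/-- The connecting map. -/
noncomputable abbrev δH (K : SimplicialObject (FormalCoproduct.{u} (Over X))) (q : ℕ) :
    Hyper.cechH X K S.X₃ q ⟶ Hyper.cechH X K S.X₁ (q + 1) :=
  (cechX_shortExact hS K).δ q (q + 1) rfl

lemma pull_δH {K L : SimplicialObject (FormalCoproduct.{u} (Over X))} (f : L ⟶ K) (q : ℕ)
    (ξ : Hyper.cechH X K S.X₃ q) :
    Hyper.cechHMap X f S.X₁ (q + 1) (δH hS K q ξ) = δH hS L q (Hyper.cechHMap X f S.X₃ q ξ) :=
  ConcreteCategory.congr_hom (HomologicalComplex.HomologySequence.δ_naturality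
    (S.mapNatTrans (cechNT f)) (cechX_shortExact hS K) (cechX_shortExact hS L) q (q + 1) rfl) ξ

include hS in
lemma exists_of_hMap_g_eq_zero {K : SimplicialObject (FormalCoproduct.{u} (Over X))} {q : ℕ}
    (ξ : Hyper.cechH X K S.X₂ q) (h : hMap K S.g q ξ = 0) : ∃ η, hMap K S.f q η = ξ :=
  (ShortComplex.ab_exact_iff _).1 ((cechX_shortExact hS K).homology_exact₂ q) ξ h

lemma exists_of_δH_eq_zero {K : SimplicialObject (FormalCoproduct.{u} (Over X))} {q : ℕ}
    (ξ : Hyper.cechH X K S.X₃ q) (h : δH hS K q ξ = 0) : ∃ η, hMap K S.g q η = ξ :=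
  (ShortComplex.ab_exact_iff _).1 ((cechX_shortExact hS K).homology_exact₃ q (q + 1) rfl) ξ h

lemma exists_of_hMap_f_eq_zero {K : SimplicialObject (FormalCoproduct.{u} (Over X))} {q : ℕ}
    (ξ : Hyper.cechH X K S.X₁ (q + 1)) (h : hMap K S.f (q + 1) ξ = 0) : ∃ η, δH hS K q η = ξ :=
  (ShortComplex.ab_exact_iff _).1 ((cechX_shortExact hS K).homology_exact₁ q (q + 1) rfl) ξ h

include hS in
lemma hMap_f_zero_injective (K : SimplicialObject (FormalCoproduct.{u} (Over X))) :
    Function.Injective (hMap K S.f 0) := by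
  have := (cechX_shortExact hS K).mono_f
  exact (AddCommGrpCat.mono_iff_injective _).1
    (HomologicalComplex.mono_homologyMap_of_mono_of_not_rel (S.map (cechX K)).f 0 (by simp))

include hS in
lemma dies_mid {q : ℕ} (h₁ : Dies X J S.X₁ q) (h₃ : Dies X J S.X₃ q) : Dies X J S.X₂ q := by
  intro K hK ξ
  obtain ⟨L, f, hL, hf⟩ := h₃ K hK (hMap K S.g q ξ)
  rw [pull_hMap] at hf
  obtain ⟨η, hη⟩ := exists_of_hMap_g_eq_zero hS _ hf
  obtain ⟨M, g, hM, hg⟩ := h₁ L hL η
  exact ⟨M, g ≫ f, hM, by rw [cechHMap_comp, ← hη, pull_hMap, hg, map_zero]⟩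

include hS in
lemma dies_right {q : ℕ} (h₂ : Dies X J S.X₂ q) (h₁ : Dies X J S.X₁ (q + 1)) :
    Dies X J S.X₃ q := by
  intro K hK ξ
  obtain ⟨L, f, hL, hf⟩ := h₁ K hK (δH hS K q ξ)
  rw [pull_δH] at hf
  obtain ⟨η, hη⟩ := exists_of_δH_eq_zero hS _ hf
  obtain ⟨M, g, hM, hg⟩ := h₂ L hL η
  exact ⟨M, g ≫ f, hM, by rw [cechHMap_comp, ← hη, pull_hMap, hg, map_zero]⟩

include hS in
lemma dies_left {q : ℕ} (h₂ : Dies X J S.X₂ (q + 1)) (h₃ : Dies X J S.X₃ q) :
    Dies X J S.X₁ (q + 1) := by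
  intro K hK ξ
  obtain ⟨L, f, hL, hf⟩ := h₂ K hK (hMap K S.f (q + 1) ξ)
  rw [pull_hMap] at hf
  obtain ⟨η, hη⟩ := exists_of_hMap_f_eq_zero hS _ hf
  obtain ⟨M, g, hM, hg⟩ := h₃ L hL η
  exact ⟨M, g ≫ f, hM, by rw [cechHMap_comp, ← hη, pull_δH, hg, map_zero]⟩

include hS in
lemma dies_left_zero (h₂ : Dies X J S.X₂ 0) : Dies X J S.X₁ 0 := by
  intro K hK ξ
  obtain ⟨L, f, hL, hf⟩ := h₂ K hK (hMap K S.f 0 ξ)
  rw [pull_hMap] at hf
  exact ⟨L, f, hL, hMap_f_zero_injective hS L (hf.trans (map_zero _).symm)⟩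

end ses

variable [HasPullbacks C]

/-- Presheaves with zero associated sheaf die. -/
lemma dies_of_isZero (N : Cᵒᵖ ⥤ AddCommGrpCat.{u})
    (hN : IsZero ((presheafToSheaf J AddCommGrpCat.{u}).obj N)) (q : ℕ) : Dies X J N q := by
  intro K hK ξ
  obtain ⟨z, rfl⟩ := exists_cycle K N q ξ
  obtain ⟨Z, v, hv, hvc⟩ := exists_covering_killing J N hN _ ((Hyper.cechCx X K N).iCycles q z)
  obtain ⟨L, f, g, hL, hg⟩ := exists_refinement (J.over X) K hK q v hv
  refine ⟨L, f, hL, cechHMap_eq_zero_of_cycle f N q z ?_⟩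
  rw [cechMap_f_eq, ← hg, op_comp, CategoryTheory.Functor.map_comp]
  exact (congrArg (((cochT ((Over.forget X).op ⋙ N)).map g.op)) hvc).trans (map_zero _)

lemma dies_iff_of_isZero_right {S : ShortComplex (Cᵒᵖ ⥤ AddCommGrpCat.{u})} (hS : S.ShortExact)
    (h₃ : IsZero ((presheafToSheaf J AddCommGrpCat.{u}).obj S.X₃)) (q : ℕ) :
    Dies X J S.X₁ q ↔ Dies X J S.X₂ q :=
  ⟨fun h => dies_mid hS h (dies_of_isZero _ h₃ q), fun h => by
    cases q with
    | zero => exact dies_left_zero hS h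
    | succ q => exact dies_left hS h (dies_of_isZero _ h₃ q)⟩

lemma dies_iff_of_isZero_left {S : ShortComplex (Cᵒᵖ ⥤ AddCommGrpCat.{u})} (hS : S.ShortExact)
    (h₁ : IsZero ((presheafToSheaf J AddCommGrpCat.{u}).obj S.X₁)) (q : ℕ) :
    Dies X J S.X₂ q ↔ Dies X J S.X₃ q :=
  ⟨fun h => dies_right hS h (dies_of_isZero _ h₁ (q + 1)),
    fun h => dies_mid hS (dies_of_isZero _ h₁ q) h⟩

/-- Dying is invariant under local isomorphisms of presheaves. -/
theorem dies_iff_of_isIso {P Q : Cᵒᵖ ⥤ AddCommGrpCat.{u}} (φ : P ⟶ Q)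
    [hφ : IsIso ((presheafToSheaf J AddCommGrpCat.{u}).map φ)] (q : ℕ) :
    Dies X J P q ↔ Dies X J Q q := by
  let G := presheafToSheaf J AddCommGrpCat.{u}
  let ψ : cokernel (kernel.ι φ) ⟶ Q := cokernel.desc _ φ (kernel.condition φ)
  have : Mono ψ := (ShortComplex.exact_of_f_is_kernel
    (ShortComplex.mk (kernel.ι φ) φ (kernel.condition φ)) (kernelIsKernel φ)).mono_cokernelDesc
  have hπψ : cokernel.π (kernel.ι φ) ≫ ψ = φ := cokernel.π_desc _ _ _
  let Sa := ShortComplex.mk (kernel.ι φ) (cokernel.π (kernel.ι φ)) (cokernel.condition _)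
  have hSa : Sa.ShortExact :=
    { exact := ShortComplex.exact_of_g_is_cokernel _ (cokernelIsCokernel _)
      mono_f := inferInstanceAs (Mono (kernel.ι φ))
      epi_g := inferInstanceAs (Epi (cokernel.π _)) }
  let Sb := ShortComplex.mk ψ (cokernel.π ψ) (cokernel.condition _)
  have hSb : Sb.ShortExact :=
    { exact := ShortComplex.exact_of_g_is_cokernel _ (cokernelIsCokernel _)
      mono_f := ‹Mono ψ›
      epi_g := inferInstanceAs (Epi (cokernel.π _)) }
  have h₁ : IsZero (G.obj Sa.X₁) := by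
    have : Mono (G.map φ) := inferInstance
    exact (isZero_kernel_of_mono (G.map φ)).of_iso (PreservesKernel.iso G φ)
  have h₃ : IsZero (G.obj Sb.X₃) := by
    have : Epi (G.map ψ) := by
      have e : G.map (cokernel.π (kernel.ι φ)) ≫ G.map ψ = G.map φ := by
        rw [← G.map_comp, hπψ]
      exact epi_of_epi_fac e
    exact (isZero_cokernel_of_epi (G.map ψ)).of_iso (PreservesCokernel.iso G ψ)
  exact (dies_iff_of_isZero_left hSa h₁ q).trans (dies_iff_of_isZero_right hSb h₃ q)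

end Groth.Agent.HyperLib
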