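import Groth.Agent.HyperLib.Dies
import Mathlib.CategoryTheory.Limits.Shapes.IsTerminal

/-!
# Cech cohomology of sheaves over all hypercoverings and sheaf cohomology
-/

universe u

open CategoryTheory CategoryTheory.Limits Opposite Simplicial

namespace Groth.Agent.HyperLib

open FormalCoproduct

variable {C : Type u} [SmallCategory C] {X : C}

/-- The terminal object of the slice. -/
noncomputable abbrev topX (X : C) : IsTerminal (Over.mk (𝟙 X)) := Over.mkIdTerminal

/-- The class of a global section. -/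
noncomputable def augH (P : Cᵒᵖ ⥤ AddCommGrpCat.{u})
    (K : SimplicialObject (FormalCoproduct.{u} (Over X))) (s : P.obj (op X)) :
    Hyper.cechH X K P 0 :=
  (Hyper.cechCx X K P).homologyπ 0
    (exists_cycle_of_d_zero (P := (Over.forget X).op ⋙ P) _ (d_aug (topX X) (K := K) s)).choose

lemma iCycles_augH (P : Cᵒᵖ ⥤ AddCommGrpCat.{u})
    (K : SimplicialObject (FormalCoproduct.{u} (Over X))) (s : P.obj (op X)) :
    ∃ z, augH P K s = (Hyper.cechCx X K P).homologyπ 0 z ∧
      (Hyper.cechCx X K P).iCycles 0 z = aug (topX X) ((Over.forget X).op ⋙ P) K s :=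
  ⟨_, rfl,
    (exists_cycle_of_d_zero (P := (Over.forget X).op ⋙ P) _ (d_aug (topX X) (K := K) s)).choose_spec⟩

lemma h0_ext {P : Cᵒᵖ ⥤ AddCommGrpCat.{u}} {K : SimplicialObject (FormalCoproduct.{u} (Over X))}
    {z z' : (Hyper.cechCx X K P).cycles 0}
    (h : (Hyper.cechCx X K P).iCycles 0 z = (Hyper.cechCx X K P).iCycles 0 z') :
    (Hyper.cechCx X K P).homologyπ 0 z = (Hyper.cechCx X K P).homologyπ 0 z' :=
  congrArg _ ((AddCommGrpCat.mono_iff_injective _).1 inferInstance h)

lemma hMap_augH {P Q : Cᵒᵖ ⥤ AddCommGrpCat.{u}} (φ : P ⟶ Q)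
    (K : SimplicialObject (FormalCoproduct.{u} (Over X))) (s : P.obj (op X)) :
    hMap K φ 0 (augH P K s) = augH Q K (φ.app _ s) := by
  obtain ⟨z, hz, hz'⟩ := iCycles_augH P K s
  obtain ⟨w, hw, hw'⟩ := iCycles_augH Q K (φ.app _ s)
  rw [hz, hw]
  refine (ConcreteCategory.congr_hom
    (HomologicalComplex.homologyπ_naturality ((cechX K).map φ) 0) z).trans (h0_ext ?_)
  refine (ConcreteCategory.congr_hom
    (HomologicalComplex.cyclesMap_i ((cechX K).map φ) 0) z).trans ?_
  rw [hw']
  refine (congrArg (((cechX K).map φ).f 0) hz').trans ?_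
  exact aug_map (K := K) (topX X) (Functor.whiskerLeft (Over.forget X).op φ) s

lemma pull_augH {K L : SimplicialObject (FormalCoproduct.{u} (Over X))} (f : L ⟶ K)
    (P : Cᵒᵖ ⥤ AddCommGrpCat.{u}) (s : P.obj (op X)) :
    Hyper.cechHMap X f P 0 (augH P K s) = augH P L s := by
  obtain ⟨z, hz, hz'⟩ := iCycles_augH P K s
  obtain ⟨w, hw, hw'⟩ := iCycles_augH P L s
  rw [hz, hw]
  refine (ConcreteCategory.congr_hom
    (HomologicalComplex.homologyπ_naturality (Hyper.cechMap X f P) 0) z).trans (h0_ext ?_)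
  refine (ConcreteCategory.congr_hom
    (HomologicalComplex.cyclesMap_i (Hyper.cechMap X f P) 0) z).trans ?_
  rw [hw']
  refine (congrArg ((Hyper.cechMap X f P).f 0) hz').trans ?_
  refine cochT_ext (P := (Over.forget X).op ⋙ P) (A := L _⦋0⦌) fun i => ?_
  refine (cpr_map (P := (Over.forget X).op ⋙ P) (f.app (op ⦋0⦌)) _ i).trans ?_
  refine (congrArg _ (cpr_aug (topX X) (P := (Over.forget X).op ⋙ P) _ _)).trans ?_
  refine Eq.trans ?_ (cpr_aug (topX X) (P := (Over.forget X).op ⋙ P) s i).symm
  exact ConcreteCategory.congr_hom ((((Over.forget X).op ⋙ P).map_comp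
      ((topX X).from _).op ((f.app (op ⦋0⦌)).φ i).op).symm.trans
    (congrArg (fun k => ((Over.forget X).op ⋙ P).map (Quiver.Hom.op k)) ((topX X).comp_from _))) s

lemma augH_zero (P : Cᵒᵖ ⥤ AddCommGrpCat.{u}) (K : SimplicialObject (FormalCoproduct.{u} (Over X))) :
    augH P K (0 : P.obj (op X)) = 0 := by
  obtain ⟨z, hz, hz'⟩ := iCycles_augH P K (0 : P.obj (op X))
  rw [hz, ← map_zero ((Hyper.cechCx X K P).homologyπ 0).hom]
  refine h0_ext ?_
  rw [hz']
  refine Eq.trans ?_ (map_zero ((Hyper.cechCx X K P).iCycles 0).hom).symm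
  refine cochT_ext (P := (Over.forget X).op ⋙ P) (A := K _⦋0⦌) fun i => ?_
  refine (cpr_aug (topX X) (P := (Over.forget X).op ⋙ P) (0 : P.obj (op X)) i).trans ?_
  exact (map_zero _).trans ((cpr (P := (Over.forget X).op ⋙ P) (A := K _⦋0⦌) i).hom.map_zero).symm

variable {J : GrothendieckTopology C}

/-- A sheaf on the slice. -/
noncomputable abbrev overSheaf (F : Sheaf J AddCommGrpCat.{u}) (X : C) :
    Sheaf (J.over X) AddCommGrpCat.{u} :=
  ((Over.forget X).sheafPushforwardContinuous AddCommGrpCat.{u} (J.over X) J).obj F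

lemma augH_surjective {K : SimplicialObject (FormalCoproduct.{u} (Over X))}
    (hK : IsLocTrivial (J.over X) K) (F : Sheaf J AddCommGrpCat.{u}) :
    Function.Surjective (augH F.obj K) := by
  intro ξ
  obtain ⟨z, rfl⟩ := exists_cycle K F.obj 0 ξ
  obtain ⟨s, hs⟩ := exists_aug_eq (topX X) hK (overSheaf F X) ((Hyper.cechCx X K F.obj).iCycles 0 z)
    (ConcreteCategory.congr_hom ((Hyper.cechCx X K F.obj).iCycles_d 0 1) z)
  obtain ⟨w, hw, hw'⟩ := iCycles_augH F.obj K s
  exact ⟨s, hw.trans (h0_ext (hw'.trans hs))⟩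

lemma augH_injective {K : SimplicialObject (FormalCoproduct.{u} (Over X))}
    (hK : IsLocTrivial (J.over X) K) (F : Sheaf J AddCommGrpCat.{u}) :
    Function.Injective (augH F.obj K) := by
  intro s t h
  obtain ⟨z, hz, hz'⟩ := iCycles_augH F.obj K s
  obtain ⟨w, hw, hw'⟩ := iCycles_augH F.obj K t
  have e : z = w := homologyπ_zero_injective (K := K) ((Over.forget X).op ⋙ F.obj)
    (hz.symm.trans (h.trans hw))
  exact aug_injective (topX X) hK (overSheaf F X) (hz'.symm.trans ((congrArg _ e).trans hw'))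

/-- The trivial hypercovering. -/
noncomputable def trivK (X : C) : SimplicialObject (FormalCoproduct.{u} (Over X)) :=
  (Functor.const _).obj ((incl _).obj (Over.mk (𝟙 X)))

lemma toTrivK_ext {U : FormalCoproduct.{u} (Over X)}
    (a b : U ⟶ (incl _).obj (Over.mk (𝟙 X))) : a = b :=
  hom_ext (funext fun _ => Subsingleton.elim (α := PUnit.{u + 1}) _ _) fun _ =>
    (topX X).hom_ext _ _

lemma isLocTrivial_trivK : IsLocTrivial (J.over X) (trivK X) := by
  refine ⟨fun U => (J.over X).superset_covering ?_ ((J.over X).top_mem U), fun n U y _ =>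
    ⟨⊤, (J.over X).top_mem U, fun V g _ => ⟨(incl _).map ((topX X).from V), fun i => toTrivK_ext _ _⟩⟩⟩
  exact fun V g _ => ⟨(incl _).map ((topX X).from V)⟩

theorem dies_zero_iff (F : Sheaf J AddCommGrpCat.{u}) :
    Dies X J F.obj 0 ↔ Subsingleton (F.obj.obj (op X)) := by
  constructor
  · intro h
    refine subsingleton_of_forall_eq 0 fun s => ?_
    obtain ⟨L, f, hL, hf⟩ := h (trivK X) isLocTrivial_trivK (augH F.obj (trivK X) s)
    rw [pull_augH] at hf
    exact augH_injective hL F (hf.trans (augH_zero _ _).symm)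
  · intro h K hK ξ
    obtain ⟨s, rfl⟩ := augH_surjective hK F ξ
    refine ⟨K, 𝟙 K, hK, ?_⟩
    rw [pull_augH, Subsingleton.elim s 0, augH_zero]

variable [HasPullbacks C]

lemma isZero_cechH_injective {K : SimplicialObject (FormalCoproduct.{u} (Over X))}
    (hK : IsLocTrivial (J.over X) K) (I : Sheaf J AddCommGrpCat.{u}) [Injective I] (q : ℕ) :
    IsZero (Hyper.cechH X K I.obj (q + 1)) := by
  have : Injective (overSheaf I X) := Groth.Agent.SiteBase.injective_over X I
  exact isZero_homology_cechCxSite K hK (overSheaf I X) q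

lemma dies_injective (I : Sheaf J AddCommGrpCat.{u}) [Injective I] (q : ℕ) :
    Dies X J I.obj (q + 1) := fun K hK ξ =>
  ⟨K, 𝟙 K, hK, by
    have := AddCommGrpCat.subsingleton_of_isZero (isZero_cechH_injective hK I q)
    rw [Subsingleton.elim ξ 0, map_zero]⟩

section ses

variable {E : ShortComplex (Sheaf J AddCommGrpCat.{u})}

/-- The presheaf image of the second map of a short exact sequence of sheaves. -/
noncomputable abbrev imSES (E : ShortComplex (Sheaf J AddCommGrpCat.{u})) :
    ShortComplex (Cᵒᵖ ⥤ AddCommGrpCat.{u}) :=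
  ShortComplex.mk E.f.hom (cokernel.π E.f.hom) (cokernel.condition _)

/-- The inclusion of the presheaf image. -/
noncomputable abbrev imι (E : ShortComplex (Sheaf J AddCommGrpCat.{u})) :
    (imSES E).X₃ ⟶ E.X₃.obj :=
  cokernel.desc _ E.g.hom (congrArg (fun z => z.hom) E.zero)

variable (hE : E.ShortExact)

include hE in
lemma imSES_shortExact : (imSES E).ShortExact :=
  have := hE.mono_f
  { exact := ShortComplex.exact_of_g_is_cokernel _ (cokernelIsCokernel _)
    mono_f := (sheafToPresheaf J AddCommGrpCat.{u}).map_mono E.f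
    epi_g := inferInstanceAs (Epi (cokernel.π _)) }

include hE in
lemma isIso_sheafify_imι :
    IsIso ((presheafToSheaf J AddCommGrpCat.{u}).map (imι E)) := by
  have := hE.mono_f
  have hm : Mono (imι E) :=
    (hE.exact.map_of_mono_of_preservesKernel (sheafToPresheaf J AddCommGrpCat.{u}) ‹_›
      inferInstance).mono_cokernelDesc
  have hg : Epi ((presheafToSheaf J AddCommGrpCat.{u}).map E.g.hom) := by
    have := hE.epi_g
    have e := (sheafificationAdjunction J AddCommGrpCat.{u}).counit.naturality E.g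
    have : Epi ((presheafToSheaf J AddCommGrpCat.{u}).map E.g.hom ≫
        (sheafificationAdjunction J AddCommGrpCat.{u}).counit.app E.X₃) := by
      refine e ▸ ?_
      exact inferInstanceAs (Epi ((sheafificationAdjunction J AddCommGrpCat.{u}).counit.app E.X₂ ≫ E.g))
    let ε := (sheafificationAdjunction J AddCommGrpCat.{u}).counit.app E.X₃
    have e' : ((presheafToSheaf J AddCommGrpCat.{u}).map E.g.hom ≫ ε) ≫ inv ε =
        (presheafToSheaf J AddCommGrpCat.{u}).map E.g.hom :=
      (Category.assoc _ _ _).trans ((congrArg (_ ≫ ·) (IsIso.hom_inv_id ε)).trans (Category.comp_id _))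
    exact e' ▸ epi_comp _ _
  have : Epi ((presheafToSheaf J AddCommGrpCat.{u}).map (imι E)) :=
    epi_of_epi_fac (show (presheafToSheaf J AddCommGrpCat.{u}).map (cokernel.π E.f.hom) ≫
      (presheafToSheaf J AddCommGrpCat.{u}).map (imι E) =
        (presheafToSheaf J AddCommGrpCat.{u}).map E.g.hom by rw [← Functor.map_comp, cokernel.π_desc])
  exact isIso_of_mono_of_epi _

include hE in
lemma dies_im_iff (q : ℕ) : Dies X J (imSES E).X₃ q ↔ Dies X J E.X₃.obj q :=
  have := isIso_sheafify_imι hE
  dies_iff_of_isIso (imι E) q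

include hE in
lemma dies_one_iff [Injective E.X₂] :
    Dies X J E.X₁.obj 1 ↔ Function.Surjective (E.g.hom.app (op X)) := by
  have hS := imSES_shortExact hE
  have := isIso_sheafify_imι hE
  have hmono : Mono (imι E) :=
    (hE.exact.map_of_mono_of_preservesKernel (sheafToPresheaf J AddCommGrpCat.{u}) hE.mono_f
      inferInstance).mono_cokernelDesc
  have hg : ∀ t, E.g.hom.app (op X) t = (imι E).app _ ((imSES E).g.app _ t) := fun t =>
    (ConcreteCategory.congr_hom (congr_app (cokernel.π_desc E.f.hom E.g.hom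
      (congrArg (fun z => z.hom) E.zero)) (op X)) t).symm
  constructor
  · intro h s
    let Q := ShortComplex.mk (imι E) (cokernel.π (imι E)) (cokernel.condition _)
    have hQ : Q.ShortExact :=
      { exact := ShortComplex.exact_of_g_is_cokernel _ (cokernelIsCokernel _)
        mono_f := hmono
        epi_g := inferInstanceAs (Epi (cokernel.π _)) }
    have h₃ : IsZero ((presheafToSheaf J AddCommGrpCat.{u}).obj Q.X₃) :=
      (isZero_cokernel_of_epi ((presheafToSheaf J AddCommGrpCat.{u}).map (imι E))).of_iso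
        (PreservesCokernel.iso _ _)
    obtain ⟨L, f, hL, hf⟩ := dies_of_isZero Q.X₃ h₃ 0 (trivK X) isLocTrivial_trivK
      (hMap (trivK X) Q.g 0 (augH E.X₃.obj (trivK X) s))
    rw [pull_hMap, pull_augH] at hf
    obtain ⟨η, hη⟩ := exists_of_hMap_g_eq_zero hQ _ hf
    obtain ⟨M, k, hM, hk⟩ := h L hL (δH hS L 0 η)
    obtain ⟨ζ, hζ⟩ := exists_of_δH_eq_zero hS _ ((pull_δH hS k 0 η).symm.trans hk)
    obtain ⟨t, rfl⟩ := augH_surjective hM E.X₂ ζ
    refine ⟨t, augH_injective hM E.X₃ ?_⟩
    rw [hg, ← hMap_augH (imι E) M, ← hMap_augH (imSES E).g M t, hζ, ← pull_hMap]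
    exact (congrArg _ hη).trans (pull_augH k E.X₃.obj s)
  · intro h K hK ξ
    have := AddCommGrpCat.subsingleton_of_isZero (isZero_cechH_injective hK E.X₂ 0)
    obtain ⟨η, hη⟩ := exists_of_hMap_f_eq_zero hS ξ (Subsingleton.elim _ _)
    obtain ⟨s, hs⟩ := augH_surjective hK E.X₃ (hMap K (imι E) 0 η)
    obtain ⟨t, rfl⟩ := h s
    have hinj : Function.Injective (hMap K (imι E) 0) :=
      hMap_f_zero_injective (S := ShortComplex.mk (imι E) (cokernel.π (imι E)) (cokernel.condition _))
        { exact := ShortComplex.exact_of_g_is_cokernel _ (cokernelIsCokernel _)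
          mono_f := hmono
          epi_g := inferInstanceAs (Epi (cokernel.π _)) } K
    have hηt : η = hMap K (imSES E).g 0 (augH E.X₂.obj K t) := hinj (by
      rw [hMap_augH, hMap_augH, ← hg]
      exact hs.symm)
    have hξ : ξ = 0 := by
      rw [← hη, hηt]
      exact ConcreteCategory.congr_hom ((cechX_shortExact hS K).comp_δ 0 1 rfl) _
    exact ⟨K, 𝟙 K, hK, by rw [hξ, map_zero]⟩

include hE in
lemma dies_succ_succ_iff [Injective E.X₂] (q : ℕ) :
    Dies X J E.X₁.obj (q + 2) ↔ Dies X J E.X₃.obj (q + 1) :=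
  ⟨fun h => (dies_im_iff hE _).1 (dies_right (imSES_shortExact hE) (dies_injective E.X₂ q) h),
    fun h => dies_left (imSES_shortExact hE) (dies_injective E.X₂ (q + 1)) ((dies_im_iff hE _).2 h)⟩

end ses

open Groth.Agent.SiteBase in
/-- Sheaf cohomology vanishes iff all Cech classes die on refinements. -/
theorem dies_iff_subsingleton_HU (F : Sheaf J AddCommGrpCat.{u}) (q : ℕ) :
    Dies X J F.obj q ↔ Subsingleton (CohSite.HU F q X) := by
  induction q generalizing F with
  | zero =>
    exact (dies_zero_iff F).trans ⟨fun h => (huZero F X).toEquiv.subsingleton,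
      fun h => (huZero F X).symm.toEquiv.subsingleton⟩
  | succ q ih =>
    have hE := injectiveSES_shortExact F
    cases q with
    | zero =>
      refine (dies_one_iff hE).trans ⟨fun h => ?_, fun h => ?_⟩
      · exact subsingleton_HU_one_X₁ hE X (subsingleton_HU_of_injective _ X 0) h
      · exact surjective_sections_of_HU_one hE X h
    | succ q =>
      refine (dies_succ_succ_iff hE q).trans ((ih _).trans ⟨fun h => ?_, fun h => ?_⟩)
      · exact subsingleton_HU_X₁_succ hE X q (subsingleton_HU_of_injective _ X (q + 1)) h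
      · exact subsingleton_HU_X₃ hE X (q + 1) h (subsingleton_HU_of_injective _ X q)

lemma isZero_cechH_aux (F : Sheaf J AddCommGrpCat.{u})
    (hF : ∀ (U : C) (q : ℕ), Subsingleton (CohSite.HU F (q + 1) U))
    {K : SimplicialObject (FormalCoproduct.{u} (Over X))} (hK : IsLocTrivial (J.over X) K) (p : ℕ)
    (key : ∀ (hS : ((SiteBase.injectiveSES F).map (sheafToPresheaf J AddCommGrpCat.{u})).ShortExact)
      (ξ : Hyper.cechH X K F.obj (p + 1)) η, δH hS K p η = ξ → ξ = 0) :
    IsZero (Hyper.cechH X K F.obj (p + 1)) := by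
  let E := SiteBase.injectiveSES F
  have hE : E.ShortExact := SiteBase.injectiveSES_shortExact F
  have := hE.mono_f
  have hS : (E.map (sheafToPresheaf J AddCommGrpCat.{u})).ShortExact :=
    { exact := hE.exact.map_of_mono_of_preservesKernel _ ‹_› inferInstance
      mono_f := (sheafToPresheaf J AddCommGrpCat.{u}).map_mono E.f
      epi_g := by
        rw [NatTrans.epi_iff_epi_app]
        intro U
        exact (AddCommGrpCat.epi_iff_surjective _).2
          (SiteBase.surjective_sections_of_HU_one hE U.unop (hF U.unop 0)) }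
  have : Subsingleton (Hyper.cechH X K F.obj (p + 1)) := by
    refine subsingleton_of_forall_eq 0 fun ξ => ?_
    have := AddCommGrpCat.subsingleton_of_isZero (isZero_cechH_injective hK E.X₂ p)
    obtain ⟨η, hη⟩ := exists_of_hMap_f_eq_zero hS ξ
      (@Subsingleton.elim (Hyper.cechH X K E.X₂.obj (p + 1)) _ _ _)
    exact key hS ξ η hη
  exact AddCommGrpCat.isZero_of_subsingleton _

/-- Cech cohomology of a sheaf acyclic on every object vanishes on every hypercovering. -/
theorem isZero_cechH_of_acyclic (F : Sheaf J AddCommGrpCat.{u})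
    (hF : ∀ (U : C) (q : ℕ), Subsingleton (CohSite.HU F (q + 1) U))
    {K : SimplicialObject (FormalCoproduct.{u} (Over X))} (hK : IsLocTrivial (J.over X) K) (p : ℕ) :
    IsZero (Hyper.cechH X K F.obj (p + 1)) := by
  induction p generalizing F with
  | zero =>
    refine isZero_cechH_aux F hF hK 0 fun hS ξ η hη => ?_
    obtain ⟨t, rfl⟩ := augH_surjective hK (SiteBase.injectiveSES F).X₃ η
    obtain ⟨s, rfl⟩ := SiteBase.surjective_sections_of_HU_one
      (SiteBase.injectiveSES_shortExact F) X (hF X 0) t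
    rw [← hη, ← hMap_augH]
    exact ConcreteCategory.congr_hom ((cechX_shortExact hS K).comp_δ 0 1 rfl) _
  | succ p ih =>
    refine isZero_cechH_aux F hF hK (p + 1) fun hS ξ η hη => ?_
    have hG : ∀ (U : C) (q : ℕ),
        Subsingleton (CohSite.HU (SiteBase.injectiveSES F).X₃ (q + 1) U) := fun U q =>
      SiteBase.subsingleton_HU_X₃ (SiteBase.injectiveSES_shortExact F) U (q + 1) (hF U (q + 1))
        (SiteBase.subsingleton_HU_of_injective _ U q)
    have := AddCommGrpCat.subsingleton_of_isZero (ih _ hG)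
    rw [← hη, show η = 0 from @Subsingleton.elim (Hyper.cechH X K (SiteBase.injectiveSES F).X₃.obj (p + 1)) this η 0, map_zero]
    rfl

end Groth.Agent.HyperLib
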