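import Groth.Agent.HyperLib.ChainSheaf

/-!
# Examples of locally trivial fibrations
-/

universe v w u

open CategoryTheory CategoryTheory.Limits Opposite Simplicial

namespace Groth.Agent.HyperLib

section

variable {D : Type w} [Category.{v} D] {K : SimplicialObject D}

lemma eq_of_pairwise {P : D} {m : ℕ} {y : Fin (m + 1 + 2) → (P ⟶ K _⦋m + 1⦌)}
    (h : ∀ i j : Fin (m + 2), i ≤ j → y j.succ ≫ K.δ i = y i.castSucc ≫ K.δ j)
    {Δ : SimplexCategory} (φ ψ : Δ ⟶ ⦋m + 1⦌) (a b : Fin (m + 1 + 2)) (hab : a < b)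
    (e : φ ≫ SimplexCategory.δ a = ψ ≫ SimplexCategory.δ b) :
    y a ≫ K.map φ.op = y b ≫ K.map ψ.op := by
  obtain ⟨i, rfl⟩ : ∃ i : Fin (m + 2), i.castSucc = a :=
    ⟨a.castPred (Fin.ne_last_of_lt hab), Fin.castSucc_castPred _ _⟩
  obtain ⟨j, rfl⟩ : ∃ j : Fin (m + 2), j.succ = b :=
    ⟨b.pred (Fin.ne_zero_of_lt hab), Fin.succ_pred _ _⟩
  have hij : i ≤ j := Fin.le_iff_val_le_val.2 (by
    have := Fin.lt_def.1 hab
    simp at this
    omega)
  have hmiss : ∀ x, φ.toOrderHom x ≠ j := by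
    intro x hx
    have e' := congrArg (fun f : Δ ⟶ ⦋m + 1 + 1⦌ => f.toOrderHom x) e
    change (i.castSucc : Fin (m + 3)).succAbove (φ.toOrderHom x) =
      (j.succ : Fin (m + 3)).succAbove (ψ.toOrderHom x) at e'
    rw [hx, Fin.succAbove_of_le_castSucc _ _ (Fin.castSucc_le_castSucc_iff.2 hij)] at e'
    exact Fin.succAbove_ne _ _ e'.symm
  obtain ⟨χ, hχ⟩ := SimplexCategory.eq_comp_δ_of_not_surjective' φ j hmiss
  have hψ : ψ = χ ≫ SimplexCategory.δ i := by
    rw [← cancel_mono (SimplexCategory.δ j.succ), ← e, hχ, Category.assoc, Category.assoc,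
      SimplexCategory.δ_comp_δ hij]
  rw [hχ, hψ, op_comp, op_comp, Functor.map_comp, Functor.map_comp, ← Category.assoc,
    ← Category.assoc]
  exact congrArg (fun z => z ≫ K.map χ.op) (h i j hij).symm

lemma isBdry_of_pairwise {P : D} {m : ℕ} {y : Fin (m + 1 + 2) → (P ⟶ K _⦋m + 1⦌)}
    (h : ∀ i j : Fin (m + 2), i ≤ j → y j.succ ≫ K.δ i = y i.castSucc ≫ K.δ j) :
    IsBdry K (m + 1) P y := by
  intro Δ _ φ ψ a b e
  rcases lt_trichotomy a b with hab | rfl | hab
  · exact eq_of_pairwise h φ ψ a b hab e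
  · rw [(cancel_mono (SimplexCategory.δ a)).1 e]
  · exact (eq_of_pairwise h ψ φ b a hab e.symm).symm

lemma isBdry_deg_zero {P : D} (y : Fin 2 → (P ⟶ K _⦋0⦌)) : IsBdry K 0 P y := by
  intro Δ hΔ φ ψ a b e
  obtain rfl : φ = ψ :=
    SimplexCategory.Hom.ext _ _ (OrderHom.ext _ _ (funext fun _ => Subsingleton.elim (α := Fin 1) _ _))
  have : a = b := by
    have e' := congrArg (fun f : Δ ⟶ ⦋1⦌ => f.toOrderHom 0) e
    have h0 : φ.toOrderHom 0 = 0 := Subsingleton.elim (α := Fin 1) _ _
    simp only [SimplexCategory.comp_toOrderHom, OrderHom.comp_coe, Function.comp_apply, h0] at e'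
    revert e'
    fin_cases a <;> fin_cases b <;> decide
  rw [this]

variable [∀ α : Type, HasColimitsOfShape (Discrete α) D] {n : ℕ}
  [∀ F : (SimplexCategory.Truncated n)ᵒᵖ ⥤ D,
  (SimplexCategory.Truncated.inclusion n).op.HasRightKanExtension F]

/-- Points of a coskeletal object are detected on simplices of dimension at most `n`. -/
lemma hom_ext_of_isIso_unit [IsIso ((SimplicialObject.coskAdj n).unit.app K)] {P : D} {q : ℕ}
    {x x' : P ⟶ K _⦋q⦌}
    (h : ∀ (Δ : SimplexCategory) (_ : Δ.len ≤ n) (φ : Δ ⟶ ⦋q⦌),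
      x ≫ K.map φ.op = x' ≫ K.map φ.op) : x = x' := by
  have : (ofSimplex x ≫ (SimplicialObject.coskAdj n).unit.app K) =
      ofSimplex x' ≫ (SimplicialObject.coskAdj n).unit.app K := by
    refine ((SimplicialObject.coskAdj n).homEquiv _ _).symm.injective ?_
    simp only [Adjunction.homEquiv_counit, Functor.map_comp,
      Category.assoc, Adjunction.left_triangle_components, Category.comp_id]
    ext ⟨Δ⟩
    refine copow_hom_ext (Δ := op Δ.obj) fun φ => ?_
    exact (cι_ofSimplex x φ).trans ((h Δ.obj Δ.property φ).trans (cι_ofSimplex x' φ).symm)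
  rw [cancel_mono] at this
  rw [← ι_ofSimplex_id x, this, ι_ofSimplex_id]

/-- Boundaries of a coskeletal object are filled, in degrees above `n`. -/
lemma exists_fill_of_isIso_unit [IsIso ((SimplicialObject.coskAdj n).unit.app K)] {P : D} {q : ℕ}
    (hq : n ≤ q) (y : Fin (q + 2) → (P ⟶ K _⦋q⦌)) (hy : IsBdry K q P y) :
    ∃ x : P ⟶ K _⦋q + 1⦌, ∀ i, x ≫ K.δ i = y i := by
  classical
  choose a φ' hφ using fun (Δ : SimplexCategory.Truncated n) (φ : Δ.obj ⟶ ⦋q + 1⦌) =>
    exists_eq_comp_δ (Δ.property.trans hq) φ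
  let τ : (SimplicialObject.truncation n).obj (copow P (q + 1)) ⟶
      (SimplicialObject.truncation n).obj K :=
    { app := fun Δ => cdesc (Δ := op (unop Δ).obj)
        fun φ => y (a (unop Δ) φ) ≫ K.map (φ' (unop Δ) φ).op
      naturality := fun Δ Δ' θ => copow_hom_ext fun φ => by
        refine (cι_map_assoc _ _ _).trans ((cι_cdesc _ _).trans ?_)
        refine Eq.trans ?_ (cι_cdesc_assoc (T := K.obj (op (unop Δ).obj)) _ φ _).symm
        refine Eq.trans ?_ (Category.assoc _ _ _).symm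
        refine Eq.trans ?_ (congrArg (fun z => y (a (unop Δ) φ) ≫ z)
          (K.map_comp (φ' (unop Δ) φ).op θ.unop.hom.op))
        refine hy ((unop Δ').property.trans hq) _ (θ.unop.hom ≫ φ' (unop Δ) φ) _ _ ?_
        exact ((hφ _ _).symm).trans ((congrArg (fun z => θ.unop.hom ≫ z) (hφ _ φ)).trans
          (Category.assoc _ _ _).symm) }
  let τ' : copow P (q + 1) ⟶ K := (SimplicialObject.coskAdj n).homEquiv _ _ τ ≫
    inv ((SimplicialObject.coskAdj n).unit.app K)
  have e : (SimplicialObject.truncation n).map τ' = τ := by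
    have : τ' ≫ (SimplicialObject.coskAdj n).unit.app K =
        (SimplicialObject.coskAdj n).homEquiv _ _ τ := by simp [τ']
    have := congrArg ((SimplicialObject.coskAdj n).homEquiv _ _).symm this
    rw [Equiv.symm_apply_apply] at this
    refine Eq.trans ?_ this
    simp [Adjunction.homEquiv_counit]
  refine ⟨cι P (Δ := op ⦋q + 1⦌) (𝟙 _) ≫ τ'.app (op ⦋q + 1⦌), fun i => ?_⟩
  refine hom_ext_of_isIso_unit (n := n) fun Δ hΔ φ => ?_
  simp only [SimplicialObject.δ, Category.assoc, ← Functor.map_comp, ← op_comp]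
  rw [← τ'.naturality, cι_map_assoc]
  refine (congrArg (fun z => cι P (Δ := op Δ) ((φ ≫ SimplexCategory.δ i).op.unop ≫ 𝟙 _) ≫ z)
    (congr_app e (op ⟨Δ, hΔ⟩))).trans ?_
  refine (cι_cdesc (Δ := op Δ) (P := P) (q := q + 1) _ _).trans ?_
  refine hy (hΔ.trans hq) (φ' ⟨Δ, hΔ⟩ _) φ _ i ?_
  refine (hφ _ _).symm.trans ?_
  simp

end

variable {C : Type u} [SmallCategory C] (J : GrothendieckTopology C)

section

variable {D : Type w} [Category.{v} D] [∀ α : Type, HasColimitsOfShape (Discrete α) D]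

/-- A morphism of `n`-coskeletal simplicial objects of a category with a functor to presheaves
whose sections are corepresentable, which is bijective below `n` and locally surjective in degree `n`,
gives a locally trivial fibration. -/
theorem locFib_of_coskeletal (G : D ⥤ Cᵒᵖ ⥤ Type u) (P : C → D)
    (e : ∀ (U : C) (X : D), (P U ⟶ X) ≃ (G.obj X).obj (op U))
    (he : ∀ (U : C) {X Y : D} (f : X ⟶ Y) (z : P U ⟶ X),
      e U Y (z ≫ f) = (G.map f).app (op U) (e U X z))
    {S T : SimplicialObject D} (v : S ⟶ T) (n : ℕ)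
    [∀ (F : (SimplexCategory.Truncated n)ᵒᵖ ⥤ D),
      (SimplexCategory.Truncated.inclusion n).op.HasRightKanExtension F]
    (h1 : ∀ i : ℕ, i < n → IsIso (v.app (op ⦋i⦌)))
    (h2 : Presheaf.IsLocallySurjective J (G.map (v.app (op ⦋n⦌))))
    (hS : IsIso ((SimplicialObject.coskAdj n).unit.app S))
    (hT : IsIso ((SimplicialObject.coskAdj n).unit.app T)) :
    LocFib J (((SimplicialObject.whiskering _ _).obj G).map v) := by
  let w := ((SimplicialObject.whiskering _ _).obj G).map v
  have hbij : ∀ i, i < n → ∀ U : C, Function.Bijective ((secMap w U).app (op ⦋i⦌)) := by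
    intro i hi U
    have := h1 i hi
    exact (isIso_iff_bijective _).1
      (inferInstanceAs (IsIso ((G.map (v.app (op ⦋i⦌))).app (op U))))
  refine ⟨fun U t => ?_, fun q U y hy t ht => ?_⟩
  · rcases Nat.eq_zero_or_pos n with rfl | hn
    · exact ⟨_, h2.1 t, fun V g ⟨x, hx⟩ => ⟨x, hx⟩⟩
    · refine ⟨⊤, J.top_mem U, fun V g _ => ?_⟩
      exact (hbij 0 hn V).2 _
  · rcases lt_trichotomy (q + 1) n with hq | hq | hq
    · refine ⟨⊤, J.top_mem U, fun V g _ => ?_⟩
      obtain ⟨x, hx⟩ := (hbij (q + 1) hq V).2 ((secRes _ g).app _ t)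
      refine ⟨x, fun i => (hbij q (by omega) V).1 ?_, hx⟩
      refine (SSet.δ_naturality_apply (secMap w V) i x).trans ((congrArg _ hx).trans ?_)
      rw [← SSet.δ_naturality_apply, secMap_res, ← ht]
    · subst hq
      refine ⟨_, h2.1 t, fun V g hg => ?_⟩
      obtain ⟨x, hx⟩ := hg
      have hx' : (secMap w V).app _ x = (secRes _ g).app _ t := hx
      refine ⟨x, fun i => (hbij q (by omega) V).1 ?_, hx'⟩
      refine (SSet.δ_naturality_apply (secMap w V) i x).trans ((congrArg _ hx').trans ?_)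
      rw [← SSet.δ_naturality_apply, secMap_res, ← ht]
    · refine ⟨⊤, J.top_mem U, fun V g _ => ?_⟩
      let pt' : ∀ (Y : SimplicialObject D) {Δ : SimplexCategoryᵒᵖ},
          (G.obj (Y.obj Δ)).obj (op U) → (P U ⟶ Y.obj Δ) := fun Y Δ a => (e U (Y.obj Δ)).symm a
      have hpt : ∀ (Y Y' : SimplicialObject D) {Δ Δ' : SimplexCategoryᵒᵖ} (f : Y.obj Δ ⟶ Y'.obj Δ')
          (a : (G.obj (Y.obj Δ)).obj (op U)), pt' Y a ≫ f = pt' Y' ((G.map f).app (op U) a) :=
        fun Y Y' Δ Δ' f a => (e U _).injective (by rw [he]; simp [pt'])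
      have hy' : IsBdry S q (P U) (fun i => pt' S (y i)) := by
        cases q with
        | zero => exact isBdry_deg_zero _
        | succ m =>
          refine isBdry_of_pairwise fun i j hij => ?_
          exact (hpt S S (S.δ i) _).trans
            ((congrArg (pt' S) (hy i j hij)).trans (hpt S S (S.δ j) _).symm)
      obtain ⟨z, hz⟩ := exists_fill_of_isIso_unit (n := n) (K := S) (q := q) (by omega) _ hy'
      obtain ⟨x, rfl⟩ : ∃ x, pt' S (Δ := op ⦋q + 1⦌) x = z := ⟨e U _ z, Equiv.symm_apply_apply _ _⟩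
      have hxy : ∀ i, (sec (S ⋙ G) U).δ i x = y i := fun i =>
        (e U _).symm.injective (((hpt S S (S.δ i) x).symm.trans (hz i)) :)
      have hxt : (secMap w U).app _ x = t := by
        refine (e U _).symm.injective (hom_ext_of_isIso_unit (n := n) (K := T) fun Δ hΔ φ => ?_)
        obtain ⟨a, φ', rfl⟩ := exists_eq_comp_δ (n := q) (by omega) φ
        rw [op_comp, Functor.map_comp, ← Category.assoc, ← Category.assoc]
        refine congrArg (fun w => w ≫ T.map φ'.op) ?_
        refine ((hpt T T (T.δ a) _).trans ?_).trans (hpt T T (T.δ a) t).symm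
        refine congrArg (pt' T) ?_
        exact (SSet.δ_naturality_apply (secMap w U) a x).symm.trans
          ((congrArg _ (hxy a)).trans (ht a).symm)
      refine ⟨(secRes _ g).app _ x, fun i => ?_, ?_⟩
      · exact (SSet.δ_naturality_apply (secRes (((SimplicialObject.whiskering _ _).obj G).obj S) g)
          i x).symm.trans (congrArg _ (hxy i))
      · exact (secMap_res w g x).trans (congrArg _ hxt)

end

/-- Every simplex of the base lifts locally along a locally trivial fibration. -/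
theorem LocFib.isLocallySurjective {S T : SimplicialObject (Cᵒᵖ ⥤ Type u)} {v : S ⟶ T}
    (hv : LocFib J v) (p : ℕ) : Presheaf.IsLocallySurjective J (v.app (op ⦋p⦌)) := by
  refine ⟨fun {U} t => ?_⟩
  obtain ⟨R, hR, hR'⟩ := exists_section J v hv {(t : (sec T U) _⦋p⦌)} (Set.finite_singleton _) p
  refine J.superset_covering ?_ hR
  intro V g hg
  obtain ⟨s, hs, -⟩ := hR' g hg
  exact ⟨s p le_rfl ⟨t, mem_gen rfl⟩, hs p le_rfl _⟩

open FormalCoproduct

/-- The constant simplicial presheaf at the point. -/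
abbrev ptS : SimplicialObject (Cᵒᵖ ⥤ Type u) :=
  (Functor.const _).obj ((Functor.const Cᵒᵖ).obj PUnit.{u + 1})

/-- The map to the point. -/
def toPtS (K : SimplicialObject (FormalCoproduct.{u} C)) : (K ⋙ el) ⟶ ptS where
  app Δ := { app := fun _ => ↾fun _ => PUnit.unit }

/-- The map of a locally trivial simplicial semi-representable object to the point. -/
theorem locFib_toPtS {K : SimplicialObject (FormalCoproduct.{u} C)} (hK : IsLocTrivial J K) :
    LocFib J (toPtS K) := by
  refine ⟨fun U t => ?_, fun n U y hy t _ => ?_⟩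
  · refine ⟨_, hK.1 U, ?_⟩
    rintro V g ⟨x⟩
    exact ⟨x, rfl⟩
  · have hy' : IsBdry K n ((incl C).obj U) y := by
      cases n with
      | zero => exact isBdry_deg_zero y
      | succ m => exact isBdry_of_pairwise fun i j hij => hy i j hij
    obtain ⟨R, hR, hR'⟩ := hK.2 n U y hy'
    refine ⟨R, hR, fun V g hg => ?_⟩
    obtain ⟨x, hx⟩ := hR' g hg
    exact ⟨x, hx, rfl⟩

end Groth.Agent.HyperLib
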