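import Groth.Agent.HyperLib.Pullback
import Mathlib.AlgebraicTopology.SimplicialSet.Basic

/-!
# Locally trivial fibrations of simplicial presheaves and lifting of finite families
-/

universe u

open CategoryTheory CategoryTheory.Limits Opposite Simplicial

namespace Groth.Agent.HyperLib

variable {C : Type u} [SmallCategory C] (J : GrothendieckTopology C)

/-- The simplicial set of sections. -/
abbrev sec (S : SimplicialObject (Cᵒᵖ ⥤ Type u)) (U : C) : SSet.{u} :=
  S ⋙ (CategoryTheory.evaluation Cᵒᵖ (Type u)).obj (op U)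

variable {S T : SimplicialObject (Cᵒᵖ ⥤ Type u)}

/-- Restriction maps. -/
abbrev secRes (S : SimplicialObject (Cᵒᵖ ⥤ Type u)) {U V : C} (g : V ⟶ U) : sec S U ⟶ sec S V :=
  Functor.whiskerLeft S ((CategoryTheory.evaluation Cᵒᵖ (Type u)).map g.op)

/-- The map on sections. -/
abbrev secMap (v : S ⟶ T) (U : C) : sec S U ⟶ sec T U :=
  Functor.whiskerRight v _

lemma secRes_comp_apply {U V W : C} (g : V ⟶ U) (r : W ⟶ V) {Δ : SimplexCategoryᵒᵖ}
    (x : (sec S U).obj Δ) :
    (secRes S (r ≫ g)).app Δ x = (secRes S r).app Δ ((secRes S g).app Δ x) :=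
  ConcreteCategory.congr_hom ((S.obj Δ).map_comp g.op r.op) x

lemma secMap_res (v : S ⟶ T) {U V : C} (g : V ⟶ U) {Δ : SimplexCategoryᵒᵖ}
    (x : (sec S U).obj Δ) :
    (secMap v V).app Δ ((secRes S g).app Δ x) = (secRes T g).app Δ ((secMap v U).app Δ x) :=
  (v.app Δ).naturality_apply g.op x

/-- Faces of a would-be simplex agree. -/
def PBdry (Y : SSet.{u}) : (n : ℕ) → (Fin (n + 2) → Y _⦋n⦌) → Prop
  | 0, _ => True
  | m + 1, y => ∀ i j : Fin (m + 2), i ≤ j → Y.δ i (y j.succ) = Y.δ j (y i.castSucc)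

/-- A locally trivial fibration of simplicial presheaves. -/
def LocFib (v : S ⟶ T) : Prop :=
  (∀ (U : C) (t : (sec T U) _⦋0⦌), ∃ R : Sieve U, R ∈ J U ∧ ∀ ⦃V : C⦄ (g : V ⟶ U), R g →
    ∃ x : (sec S V) _⦋0⦌, (secMap v V).app _ x = (secRes T g).app _ t) ∧
  ∀ (n : ℕ) (U : C) (y : Fin (n + 2) → (sec S U) _⦋n⦌), PBdry (sec S U) n y →
    ∀ t : (sec T U) _⦋n + 1⦌, (∀ i, (sec T U).δ i t = (secMap v U).app _ (y i)) →
    ∃ R : Sieve U, R ∈ J U ∧ ∀ ⦃V : C⦄ (g : V ⟶ U), R g →
      ∃ x : (sec S V) _⦋n + 1⦌, (∀ i, (sec S V).δ i x = (secRes S g).app _ (y i)) ∧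
        (secMap v V).app _ x = (secRes T g).app _ t

/-- A lifting, up to degree `m`, of a finite semi-simplicial family. -/
def IsLift (v : S ⟶ T) {U V : C} (g : V ⟶ U) {Q : ℕ → Type u}
    (dQ : ∀ k, Fin (k + 2) → Q (k + 1) → Q k) (q : ∀ k, Q k → (sec T U) _⦋k⦌)
    (fixed : ∀ k, Q k → Option ((sec S U) _⦋k⦌)) (m : ℕ)
    (L : ∀ k, k ≤ m → Q k → (sec S V) _⦋k⦌) : Prop :=
  (∀ k hk a, (secMap v V).app _ (L k hk a) = (secRes T g).app _ (q k a)) ∧
  (∀ k (hk : k + 1 ≤ m) (a : Q (k + 1)) (i : Fin (k + 2)),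
    (sec S V).δ i (L (k + 1) hk a) = L k ((Nat.le_succ k).trans hk) (dQ k i a)) ∧
  ∀ k hk a w, fixed k a = some w → L k hk a = (secRes S g).app _ w

theorem exists_lift (v : S ⟶ T) (hv : LocFib J v) (U : C) (Q : ℕ → Type u)
    [∀ k, Finite (Q k)] (dQ : ∀ k, Fin (k + 2) → Q (k + 1) → Q k)
    (hdQ : ∀ k (i j : Fin (k + 2)), i ≤ j → ∀ a : Q (k + 2),
      dQ k i (dQ (k + 1) j.succ a) = dQ k j (dQ (k + 1) i.castSucc a))
    (q : ∀ k, Q k → (sec T U) _⦋k⦌)
    (hq : ∀ k (i : Fin (k + 2)) a, (sec T U).δ i (q (k + 1) a) = q k (dQ k i a))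
    (fixed : ∀ k, Q k → Option ((sec S U) _⦋k⦌))
    (hfix : ∀ k a w, fixed k a = some w → (secMap v U).app _ w = q k a)
    (hfixd : ∀ k (a : Q (k + 1)) w (i : Fin (k + 2)), fixed (k + 1) a = some w →
      fixed k (dQ k i a) = some ((sec S U).δ i w))
    (m : ℕ) :
    ∃ R : Sieve U, R ∈ J U ∧ ∀ ⦃V : C⦄ (g : V ⟶ U), R g →
      ∃ L : ∀ k, k ≤ m → Q k → (sec S V) _⦋k⦌, IsLift v g dQ q fixed m L := by
  classical
  induction m with
  | zero =>
    choose R hR hR' using fun a : Q 0 => hv.1 U (q 0 a)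
    refine ⟨_, finite_intersection_mem J R hR, fun V g hg => ?_⟩
    choose x hx using fun a => hR' a g (iInf_arrows_apply _ hg a)
    refine ⟨fun k hk => (Nat.le_zero.1 hk) ▸ fun a => match fixed 0 a with
      | some w => (secRes S g).app _ w
      | none => x a, ?_, fun k hk => (Nat.not_succ_le_zero k hk).elim, ?_⟩
    · intro k hk a
      obtain rfl := Nat.le_zero.1 hk
      dsimp only
      cases h : fixed 0 a with
      | none => exact hx a
      | some w => exact (secMap_res v g w).trans (congrArg _ (hfix 0 a w h))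
    · intro k hk a w h
      obtain rfl := Nat.le_zero.1 hk
      dsimp only
      simp [h]
  | succ m ih =>
    obtain ⟨R, hR, hL⟩ := ih
    let R' : Sieve U :=
      { arrows := fun V g => ∃ L : ∀ k, k ≤ m + 1 → Q k → (sec S V) _⦋k⦌,
          IsLift v g dQ q fixed (m + 1) L
        downward_closed := by
          rintro V W g ⟨L, h₁, h₂, h₃⟩ r
          refine ⟨fun k hk a => (secRes S r).app _ (L k hk a), fun k hk a => ?_,
            fun k hk a i => ?_, fun k hk a w h => ?_⟩
          · rw [secMap_res, h₁, secRes_comp_apply]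
          · exact (SSet.δ_naturality_apply (secRes S r) i _).symm.trans (congrArg _ (h₂ k hk a i))
          · exact (congrArg _ (h₃ k hk a w h)).trans (secRes_comp_apply _ _ _).symm }
    refine ⟨R', J.transitive hR R' fun V g hg => ?_, fun V g hg => hg⟩
    obtain ⟨L, h₁, h₂, h₃⟩ := hL g hg
    have hfill : ∀ a : Q (m + 1), ∃ R₁ : Sieve V, R₁ ∈ J V ∧ ∀ ⦃W : C⦄ (r : W ⟶ V), R₁ r →
        ∃ x : (sec S W) _⦋m + 1⦌,
          (∀ i, (sec S W).δ i x = (secRes S r).app _ (L m le_rfl (dQ m i a))) ∧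
          (secMap v W).app _ x = (secRes T (r ≫ g)).app _ (q (m + 1) a) ∧
          ∀ w, fixed (m + 1) a = some w → x = (secRes S (r ≫ g)).app _ w := by
      intro a
      cases h : fixed (m + 1) a with
      | some w =>
        refine ⟨⊤, J.top_mem V, fun W r _ => ⟨(secRes S (r ≫ g)).app _ w, fun i => ?_, ?_, ?_⟩⟩
        · rw [h₃ m le_rfl _ _ (hfixd m a w i h), secRes_comp_apply]
          simp only [SSet.δ_naturality_apply]
        · rw [secMap_res, hfix _ a w h]
        · rintro w' ⟨⟩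
          rfl
      | none =>
        have hy : PBdry (sec S V) m (fun i => L m le_rfl (dQ m i a)) := by
          cases m with
          | zero => trivial
          | succ k =>
            intro i j hij
            rw [h₂ k le_rfl, h₂ k le_rfl, hdQ k i j hij]
        obtain ⟨R₁, hR₁, hR₁'⟩ := hv.2 m V _ hy ((secRes T g).app _ (q (m + 1) a))
          (fun i => by
            rw [h₁ m le_rfl, ← SSet.δ_naturality_apply, hq])
        refine ⟨R₁, hR₁, fun W r hr => ?_⟩
        obtain ⟨x, hx, hx'⟩ := hR₁' r hr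
        exact ⟨x, hx, hx'.trans (secRes_comp_apply _ _ _).symm, fun w hw => by cases hw⟩
    choose R₁ hR₁ hR₁' using hfill
    refine J.superset_covering ?_ (finite_intersection_mem J R₁ hR₁)
    intro W r hr
    choose x hx hx' hx'' using fun a => hR₁' a r (iInf_arrows_apply _ hr a)
    let L' : ∀ k, k ≤ m + 1 → Q k → (sec S W) _⦋k⦌ := fun k hk =>
      if h : k ≤ m then fun a => (secRes S r).app _ (L k h a)
      else (show k = m + 1 by omega) ▸ x
    have hlow : ∀ k hk (h : k ≤ m) a, L' k hk a = (secRes S r).app _ (L k h a) := fun k hk h a => by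
      simp only [L', dif_pos h]
    have htop : ∀ hk a, L' (m + 1) hk a = x a := fun hk a => by
      simp only [L', dif_neg (Nat.not_succ_le_self m)]
    refine ⟨L', fun k hk a => ?_, fun k hk a i => ?_, fun k hk a w h => ?_⟩
    · rcases Nat.lt_or_eq_of_le hk with h | rfl
      · rw [hlow k hk (by omega), secMap_res, h₁, secRes_comp_apply]
      · rw [htop hk]; exact hx' a
    · rcases Nat.lt_or_eq_of_le hk with h | h
      · rw [hlow (k + 1) hk (by omega), hlow k (by omega) (by omega), ← SSet.δ_naturality_apply,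
          h₂ k (by omega)]
      · obtain rfl : k = m := by omega
        rw [htop hk, hlow k (Nat.le_succ k) le_rfl, hx]
    · rcases Nat.lt_or_eq_of_le hk with h' | rfl
      · rw [hlow k hk (by omega), h₃ k _ a w h, secRes_comp_apply]
      · rw [htop hk]; exact hx'' a w h

end Groth.Agent.HyperLib
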