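import Groth.Agent.HyperLib.PathObj
import Groth.Agent.HyperLib.Refine
import Groth.Agent.HyperLib.Fibrations

/-!
# The path object of hypercoverings is a hypercovering
-/

universe u

open CategoryTheory CategoryTheory.Limits Opposite Simplicial

namespace Groth.Agent.HyperLib

open FormalCoproduct

variable {C : Type u} [SmallCategory C] (J : GrothendieckTopology C) [HasPullbacks C] [HasTerminal C]
  {K L : SimplicialObject (FormalCoproduct.{u} C)} {a b : K ⟶ L}

/-- The prescribed values of a filling of the prism. -/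
def PrismSpec {n : ℕ} {P : FormalCoproduct.{u} C} (m : Fin (n + 2) → PathData a b n P)
    (k : P ⟶ K _⦋n + 1⦌) {p : ℕ} (φ : ⦋p⦌ ⟶ ⦋n + 1⦌) (α : ⦋p⦌ ⟶ ⦋1⦌) (w : P ⟶ L _⦋p⦌) : Prop :=
  (∃ (c : Fin (n + 2)) (φ' : ⦋p⦌ ⟶ ⦋n⦌), φ = φ' ≫ SimplexCategory.δ c ∧ w = (m c).val φ' α) ∨
    ((∀ x, (α.toOrderHom x).val = 0) ∧ w = k ≫ K.map φ.op ≫ a.app _) ∨
    ((∀ x, (α.toOrderHom x).val = 1) ∧ w = k ≫ K.map φ.op ≫ b.app _)

lemma prismSpec_unique {n : ℕ} {P : FormalCoproduct.{u} C} {m : Fin (n + 2) → PathData a b n P}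
    {k : P ⟶ K _⦋n + 1⦌} (hm : ∀ {p : ℕ} (φ ψ : ⦋p⦌ ⟶ ⦋n⦌) (c d : Fin (n + 2)),
      φ ≫ SimplexCategory.δ c = ψ ≫ SimplexCategory.δ d → (m c).restrict φ = (m d).restrict ψ)
    (hk : ∀ c, k ≫ K.δ c = (m c).k) {p : ℕ} {φ : ⦋p⦌ ⟶ ⦋n + 1⦌} {α : ⦋p⦌ ⟶ ⦋1⦌}
    {w w' : P ⟶ L _⦋p⦌} (h : PrismSpec m k φ α w) (h' : PrismSpec m k φ α w') : w = w' := by
  have hA : ∀ (c : Fin (n + 2)) (φ' : ⦋p⦌ ⟶ ⦋n⦌), φ = φ' ≫ SimplexCategory.δ c →
      ((∀ x, (α.toOrderHom x).val = 0) → (m c).val φ' α = k ≫ K.map φ.op ≫ a.app _) ∧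
      ((∀ x, (α.toOrderHom x).val = 1) → (m c).val φ' α = k ≫ K.map φ.op ≫ b.app _) := by
    rintro c φ' rfl
    refine ⟨fun h0 => ?_, fun h1 => ?_⟩
    · rw [(m c).val_zero φ' α h0, ← hk c, op_comp, Functor.map_comp]
      simp only [Category.assoc]
      rfl
    · rw [(m c).val_one φ' α h1, ← hk c, op_comp, Functor.map_comp]
      simp only [Category.assoc]
      rfl
  have h01 : (∀ x, (α.toOrderHom x).val = 0) → ¬ ∀ x, (α.toOrderHom x).val = 1 := fun h0 h1 => by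
    have := (h0 0).symm.trans (h1 0)
    omega
  rcases h with ⟨c, φ₁, e₁, rfl⟩ | ⟨h0, rfl⟩ | ⟨h1, rfl⟩ <;>
    rcases h' with ⟨d, φ₂, e₂, rfl⟩ | ⟨h0', rfl⟩ | ⟨h1', rfl⟩
  · have e := congrArg (fun z => z.val (𝟙 _) α) (hm φ₁ φ₂ c d (e₁.symm.trans e₂))
    simpa [PathData.restrict_val] using e
  · exact (hA c φ₁ e₁).1 h0'
  · exact (hA c φ₁ e₁).2 h1'
  · exact ((hA d φ₂ e₂).1 h0).symm
  · rfl
  · exact absurd h1' (h01 h0)
  · exact ((hA d φ₂ e₂).2 h1).symm
  · exact absurd h1 (h01 h0')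
  · rfl

lemma prismSpec_comp {n : ℕ} {P : FormalCoproduct.{u} C} {m : Fin (n + 2) → PathData a b n P}
    {k : P ⟶ K _⦋n + 1⦌} {p r : ℕ} {φ : ⦋p⦌ ⟶ ⦋n + 1⦌} {α : ⦋p⦌ ⟶ ⦋1⦌} {w : P ⟶ L _⦋p⦌}
    (θ : ⦋r⦌ ⟶ ⦋p⦌) (h : PrismSpec m k φ α w) :
    PrismSpec m k (θ ≫ φ) (θ ≫ α) (w ≫ L.map θ.op) := by
  rcases h with ⟨c, φ', rfl, rfl⟩ | ⟨h0, rfl⟩ | ⟨h1, rfl⟩
  · exact Or.inl ⟨c, θ ≫ φ', (Category.assoc _ _ _).symm, (m c).val_map θ φ' α⟩
  · refine Or.inr (Or.inl ⟨fun x => h0 (θ.toOrderHom x), ?_⟩)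
    simp only [op_comp, Functor.map_comp, Category.assoc]
    rw [← NatTrans.naturality]
  · refine Or.inr (Or.inr ⟨fun x => h1 (θ.toOrderHom x), ?_⟩)
    simp only [op_comp, Functor.map_comp, Category.assoc]
    rw [← NatTrans.naturality]

lemma mono_prismMap_σ {n : ℕ} (c : Fin (n + 2)) (i : Fin (n + 1)) :
    Mono (prismMap (SimplexCategory.σ i ≫ SimplexCategory.δ c) (cut ⦋n + 1⦌ (i.val + 1))) := by
  rw [SimplexCategory.mono_iff_injective]
  refine StrictMono.injective (fun x y hxy => ?_)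
  have e : ∀ z : Fin (n + 1 + 1),
      ((SimplexCategory.σ i).toOrderHom z).val + ((cut ⦋n + 1⦌ (i.val + 1)).toOrderHom z).val =
        z.val := fun z => by
    rw [← prismMap_apply, prismMap_σ_cut]
    rfl
  have h₁ : ((SimplexCategory.σ i).toOrderHom x).val ≤ ((SimplexCategory.σ i).toOrderHom y).val :=
    (SimplexCategory.σ i).toOrderHom.monotone hxy.le
  have h₂ : ((cut ⦋n + 1⦌ (i.val + 1)).toOrderHom x).val ≤
      ((cut ⦋n + 1⦌ (i.val + 1)).toOrderHom y).val :=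
    (cut ⦋n + 1⦌ (i.val + 1)).toOrderHom.monotone hxy.le
  have h₃ : x.val < y.val := hxy
  have ex := e x
  have ey := e y
  show ((prismMap (SimplexCategory.σ i ≫ SimplexCategory.δ c) (cut ⦋n + 1⦌ (i.val + 1))).toOrderHom x).val <
    ((prismMap (SimplexCategory.σ i ≫ SimplexCategory.δ c) (cut ⦋n + 1⦌ (i.val + 1))).toOrderHom y).val
  rw [prismMap_apply, prismMap_apply]
  rcases Nat.lt_or_eq_of_le h₁ with h | h
  · have hδ : ((SimplexCategory.σ i ≫ SimplexCategory.δ c).toOrderHom x).val <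
        ((SimplexCategory.σ i ≫ SimplexCategory.δ c).toOrderHom y).val :=
      Fin.strictMono_succAbove c (show (SimplexCategory.σ i).toOrderHom x <
        (SimplexCategory.σ i).toOrderHom y from h)
    omega
  · have hδ : ((SimplexCategory.σ i ≫ SimplexCategory.δ c).toOrderHom x).val =
        ((SimplexCategory.σ i ≫ SimplexCategory.δ c).toOrderHom y).val :=
      congrArg (fun z => ((SimplexCategory.δ c).toOrderHom z).val) (Fin.ext h)
    omega

theorem isLocTrivial_pathObj (a b : K ⟶ L) (hK : IsLocTrivial J K) (hL : IsLocTrivial J L) :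
    IsLocTrivial J (pathObj a b) := by
  classical
  refine ⟨fun U => ?_, fun n U y hy => ?_⟩
  · refine J.transitive (hK.1 U) _ fun V g hg => ?_
    obtain ⟨k⟩ := hg
    obtain ⟨S, hS, hS'⟩ := hL.2 0 V ![k ≫ b.app _, k ≫ a.app _] (isBdry_deg_zero _)
    refine J.superset_covering ?_ hS
    intro W r hr
    obtain ⟨h, hh⟩ := hS' r hr
    refine ⟨(exists_pathPt a b
      { k := (incl C).map r ≫ k
        h := fun _ => h
        eq := fun s => ?_ }).choose⟩
    fin_cases s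
    · show bndL a _ _ (0 : Fin 1).castSucc = bndR b _ _ (0 : Fin 2)
      rw [bndL, Fin.lastCases_castSucc, bndR, Fin.cases_zero, Category.assoc]
      exact hh 0
    · show bndL a _ _ (Fin.last 1) = bndR b _ _ (0 : Fin 1).succ
      rw [bndL, Fin.lastCases_last, bndR, Fin.cases_succ, Category.assoc]
      exact (hh 1).symm
  · obtain ⟨S, hS, hS'⟩ := hK.2 n U (fun c => y c ≫ (pathProj a b).app _) fun Δ hΔ φ ψ c d e => by
      simp only [Category.assoc, ← (pathProj a b).naturality, reassoc_of% (hy hΔ φ ψ c d e)]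
    let T : Sieve U :=
      { arrows := fun V g => ∃ x : (incl C).obj V ⟶ (pathObj a b) _⦋n + 1⦌,
          ∀ i, x ≫ (pathObj a b).δ i = (incl C).map g ≫ y i
        downward_closed := by
          rintro V W g ⟨x, hx⟩ k
          exact ⟨(incl C).map k ≫ x, fun i => by
            rw [Category.assoc, hx, Functor.map_comp, Category.assoc]⟩ }
    refine ⟨T, J.transitive hS T fun V g hg => ?_, fun V g hg => hg⟩
    obtain ⟨k, hk⟩ := hS' g hg
    let yg : Fin (n + 2) → ((incl C).obj V ⟶ (pathObj a b) _⦋n⦌) := fun c => (incl C).map g ≫ y c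
    let m : Fin (n + 2) → PathData a b n ((incl C).obj V) := fun c => pathOfPt a b (yg c)
    have hm : ∀ {p : ℕ} (φ ψ : ⦋p⦌ ⟶ ⦋n⦌) (c d : Fin (n + 2)),
        φ ≫ SimplexCategory.δ c = ψ ≫ SimplexCategory.δ d →
          (m c).restrict φ = (m d).restrict ψ := fun φ ψ c d e => by
      rw [← pathOfPt_map, ← pathOfPt_map, (hy.comp ((incl C).map g)).eq_of_comp_eq φ ψ c d e]
    have hk' : ∀ c, k ≫ K.δ c = (m c).k := fun c => by
      refine (hk c).trans ?_
      rw [← comp_pathProj]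
      simp [m, yg]
    let Q : ℕ → Type u := fun p => ULift.{u} ((⦋p⦌ ⟶ ⦋n + 1⦌) × (⦋p⦌ ⟶ ⦋1⦌))
    have : ∀ x y : SimplexCategory, Finite (x ⟶ y) := fun x y =>
      Finite.of_injective (fun f => f.toOrderHom.toFun) fun f f' h =>
        SimplexCategory.Hom.ext _ _ (OrderHom.ext _ _ h)
    have : ∀ p, Finite (Q p) := fun p =>
      inferInstanceAs (Finite (ULift.{u} ((⦋p⦌ ⟶ ⦋n + 1⦌) × (⦋p⦌ ⟶ ⦋1⦌))))
    let fixed : ∀ p, Q p → Option ((sec (L ⋙ el) V) _⦋p⦌) := fun p z =>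
      if h : ∃ w, PrismSpec m k z.down.1 z.down.2 w then some h.choose else none
    have hfixed : ∀ p (z : Q p) w, PrismSpec m k z.down.1 z.down.2 w → fixed p z = some w :=
      fun p z w hw => by
        simp only [fixed]
        rw [dif_pos ⟨w, hw⟩]
        exact congrArg some
          (prismSpec_unique hm hk' (Exists.choose_spec (⟨w, hw⟩ : ∃ w, _)) hw)
    have hspec : ∀ p (z : Q p) w, fixed p z = some w → PrismSpec m k z.down.1 z.down.2 w :=
      fun p z w hw => by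
        simp only [fixed] at hw
        split_ifs at hw with h
        cases hw
        exact h.choose_spec
    obtain ⟨R, hR, hL'⟩ := exists_lift J (toPtS L) (locFib_toPtS J hL) V Q
      (fun p i z => ⟨(SimplexCategory.δ i ≫ z.down.1, SimplexCategory.δ i ≫ z.down.2)⟩)
      (fun p i j hij z => by
        refine ULift.ext _ _ (Prod.ext ?_ ?_)
        · show SimplexCategory.δ i ≫ SimplexCategory.δ j.succ ≫ _ =
            SimplexCategory.δ j ≫ SimplexCategory.δ i.castSucc ≫ _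
          rw [← Category.assoc, SimplexCategory.δ_comp_δ hij, Category.assoc]
        · show SimplexCategory.δ i ≫ SimplexCategory.δ j.succ ≫ _ =
            SimplexCategory.δ j ≫ SimplexCategory.δ i.castSucc ≫ _
          rw [← Category.assoc, SimplexCategory.δ_comp_δ hij, Category.assoc])
      (fun _ _ => PUnit.unit) (fun _ _ _ => rfl) fixed (fun _ _ _ _ => rfl)
      (fun p z w i hw => hfixed _ _ _ (prismSpec_comp (SimplexCategory.δ i) (hspec _ _ _ hw)))
      (n + 2)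
    refine J.superset_covering ?_ hR
    intro W r hr
    obtain ⟨Lf, -, hd, hfix⟩ := hL' r hr
    let r' := (incl C).map r
    let h : Fin (n + 2) → ((incl C).obj W ⟶ L _⦋n + 2⦌) := fun i =>
      Lf (n + 2) le_rfl ⟨(SimplexCategory.σ i, cut ⦋n + 2⦌ (i.val + 1))⟩
    have hval : ∀ (hle : n + 1 ≤ n + 2) φ α w, PrismSpec m k φ α w →
        Lf (n + 1) hle ⟨(φ, α)⟩ = r' ≫ w := fun hle φ α w hw =>
      hfix (n + 1) hle ⟨(φ, α)⟩ w (hfixed _ _ _ hw)
    let ed : ∀ (i : Fin (n + 2)) (t : Fin (n + 3)), h i ≫ L.δ t =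
        Lf (n + 1) (Nat.le_succ _) ⟨(SimplexCategory.δ t ≫ SimplexCategory.σ i,
          SimplexCategory.δ t ≫ cut ⦋n + 2⦌ (i.val + 1))⟩ := fun i t => hd (n + 1) le_rfl _ t
    have heq : ∀ s : Fin (n + 3), bndL a (r' ≫ k) h s = bndR b (r' ≫ k) h s := by
      intro s
      have hA : ∀ s : Fin (n + 3), bndL a (r' ≫ k) h s =
          Lf (n + 1) (Nat.le_succ _) ⟨(𝟙 _, cut ⦋n + 1⦌ s.val)⟩ := by
        intro s
        refine Fin.lastCases ?_ (fun i => ?_) s
        · rw [bndL, Fin.lastCases_last]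
          refine Eq.trans ?_ (hval _ _ _ _ (Or.inr (Or.inl ⟨fun x => ?_, rfl⟩))).symm
          · simp
          · rw [cut_apply]
            exact if_pos x.isLt
        · rw [bndL, Fin.lastCases_castSucc, ed, SimplexCategory.δ_comp_σ_self' (by simp),
            δ_comp_cut i.castSucc _ (Or.inr (by simp))]
      have hB : ∀ s : Fin (n + 3), bndR b (r' ≫ k) h s =
          Lf (n + 1) (Nat.le_succ _) ⟨(𝟙 _, cut ⦋n + 1⦌ s.val)⟩ := by
        intro s
        refine Fin.cases ?_ (fun i => ?_) s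
        · rw [bndR, Fin.cases_zero]
          refine Eq.trans ?_ (hval _ _ _ _ (Or.inr (Or.inr ⟨fun x => ?_, rfl⟩))).symm
          · simp
          · rw [cut_apply]
            exact if_neg (by simp)
        · rw [bndR, Fin.cases_succ, ed, SimplexCategory.δ_comp_σ_succ' (by simp),
            δ_comp_cut i.succ _ (Or.inl (by simp))]
      rw [hA, hB]
    let M' : PathData a b (n + 1) ((incl C).obj W) := { k := r' ≫ k, h := h, eq := heq }
    obtain ⟨x, hx⟩ := exists_pathPt a b M'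
    refine ⟨x, fun c => ofPt_injective ?_⟩
    show pathOfPt a b (x ≫ (pathObj a b).δ c) = pathOfPt a b ((incl C).map (r ≫ g) ≫ y c)
    have er : pathOfPt a b ((incl C).map (r ≫ g) ≫ y c) = (m c).precomp r' := by
      rw [Functor.map_comp, Category.assoc]
      exact ofPt_comp r' (yg c)
    rw [er, SimplicialObject.δ, pathOfPt_map, hx]
    refine PathData.ext ?_ (funext fun i => ?_)
    · show (r' ≫ k) ≫ K.δ c = r' ≫ (m c).k
      rw [Category.assoc, hk']
    · show M'.val (SimplexCategory.σ i ≫ SimplexCategory.δ c) (cut ⦋n + 1⦌ (i.val + 1)) =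
        r' ≫ (m c).h i
      obtain ⟨e, he⟩ := exists_valid (SimplexCategory.σ i ≫ SimplexCategory.δ c)
        (cut ⦋n + 1⦌ (i.val + 1))
      have := mono_prismMap_σ c i
      obtain ⟨t, ht⟩ := SimplexCategory.eq_δ_of_mono
        (prismMap (SimplexCategory.σ i ≫ SimplexCategory.δ c) (cut ⦋n + 1⦌ (i.val + 1)))
      rw [M'.val_eq he, PathData.V, ht]
      refine (ed e t).trans ?_
      rw [← ht, prismMap_σ he, prismMap_cut he]
      refine (hval _ _ _ _ (Or.inl ⟨c, SimplexCategory.σ i, rfl, rfl⟩)).trans ?_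
      rw [PathData.val_σ_cut]

end Groth.Agent.HyperLib
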