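import Groth.Agent.HyperLib.Coskel
import Mathlib.AlgebraicTopology.SimplicialObject.Homotopy
import Mathlib.CategoryTheory.Limits.Shapes.FiniteLimits
import Mathlib.CategoryTheory.Limits.Shapes.Equalizers
import Mathlib.CategoryTheory.Limits.Shapes.BinaryProducts

/-!
# The path object of a pair of morphisms of simplicial objects

For `a b : K ⟶ L`, a `P`-point in degree `q` consists of a point `k` of `K_q` and `q + 1` points of
`L_{q+1}` forming a homotopy from `a k` to `b k`.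
-/

universe v w

open CategoryTheory CategoryTheory.Limits Opposite Simplicial

namespace Groth.Agent.HyperLib

/-- The map to `⦋1⦌` cutting at `s`. -/
def cut (Δ : SimplexCategory) (s : ℕ) : Δ ⟶ ⦋1⦌ :=
  SimplexCategory.Hom.mk
    { toFun := fun x => if x.val < s then (0 : Fin 2) else 1
      monotone' := fun x y h => by
        by_cases hx : x.val < s
        · simp [hx]
        · have : ¬ y.val < s := fun hy => hx (lt_of_le_of_lt h hy)
          simp [hx, this] }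

lemma cut_apply (Δ : SimplexCategory) (s : ℕ) (x : Fin (Δ.len + 1)) :
    ((cut Δ s).toOrderHom x).val = if x.val < s then 0 else 1 := by
  show ((if x.val < s then (0 : Fin 2) else 1) : Fin 2).val = _
  split_ifs <;> rfl

lemma alpha_le_one {Δ : SimplexCategory} (α : Δ ⟶ ⦋1⦌) (x : Fin (Δ.len + 1)) :
    (α.toOrderHom x).val ≤ 1 :=
  Nat.le_of_lt_succ (α.toOrderHom x).isLt

/-- A simplex of the prism, embedded in a simplex of one dimension higher. -/
def prismMap {Δ : SimplexCategory} {q : ℕ} (φ : Δ ⟶ ⦋q⦌) (α : Δ ⟶ ⦋1⦌) : Δ ⟶ ⦋q + 1⦌ :=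
  SimplexCategory.Hom.mk
    { toFun := fun x => (⟨(φ.toOrderHom x).val + (α.toOrderHom x).val, by
        have h₁ : (φ.toOrderHom x).val < q + 1 := (φ.toOrderHom x).isLt
        have h₂ := alpha_le_one α x
        omega⟩ : Fin (q + 2))
      monotone' := fun x y h => by
        have h₁ : (φ.toOrderHom x).val ≤ (φ.toOrderHom y).val := φ.toOrderHom.monotone h
        have h₂ : (α.toOrderHom x).val ≤ (α.toOrderHom y).val := α.toOrderHom.monotone h
        show (φ.toOrderHom x).val + (α.toOrderHom x).val ≤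
          (φ.toOrderHom y).val + (α.toOrderHom y).val
        omega }

lemma prismMap_apply {Δ : SimplexCategory} {q : ℕ} (φ : Δ ⟶ ⦋q⦌) (α : Δ ⟶ ⦋1⦌)
    (x : Fin (Δ.len + 1)) :
    ((prismMap φ α).toOrderHom x).val = (φ.toOrderHom x).val + (α.toOrderHom x).val :=
  rfl

lemma prismMap_comp {Δ Δ' : SimplexCategory} {q : ℕ} (θ : Δ' ⟶ Δ) (φ : Δ ⟶ ⦋q⦌) (α : Δ ⟶ ⦋1⦌) :
    prismMap (θ ≫ φ) (θ ≫ α) = θ ≫ prismMap φ α :=
  rfl

/-- The simplex lies in the prism piece with index `c`. -/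
def Valid {Δ : SimplexCategory} {q : ℕ} (c : Fin (q + 1)) (φ : Δ ⟶ ⦋q⦌) (α : Δ ⟶ ⦋1⦌) : Prop :=
  ∀ x, ((α.toOrderHom x).val = 0 → (φ.toOrderHom x).val ≤ c.val) ∧
    ((α.toOrderHom x).val = 1 → c.val ≤ (φ.toOrderHom x).val)

lemma exists_valid {Δ : SimplexCategory} {q : ℕ} (φ : Δ ⟶ ⦋q⦌) (α : Δ ⟶ ⦋1⦌) :
    ∃ c, Valid c φ α := by
  classical
  by_cases h : ∃ y, (α.toOrderHom y).val = 1
  · obtain ⟨y, hy, hmin⟩ := Finset.exists_min_image
      (Finset.univ.filter fun y => (α.toOrderHom y).val = 1) (fun y => (φ.toOrderHom y).val)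
      ⟨h.choose, by simp [h.choose_spec]⟩
    simp only [Finset.mem_filter, Finset.mem_univ, true_and] at hy hmin
    refine ⟨φ.toOrderHom y, fun x => ⟨fun hx => ?_, fun hx => hmin x hx⟩⟩
    refine φ.toOrderHom.monotone (le_of_lt ?_)
    by_contra hle
    have : (α.toOrderHom y).val ≤ (α.toOrderHom x).val := α.toOrderHom.monotone (not_lt.1 hle)
    omega
  · exact ⟨Fin.last q, fun x => ⟨fun _ => Nat.le_of_lt_succ (φ.toOrderHom x).isLt,
      fun hx => (h ⟨x, hx⟩).elim⟩⟩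

lemma Valid.comp {Δ Δ' : SimplexCategory} {q : ℕ} {c : Fin (q + 1)} {φ : Δ ⟶ ⦋q⦌} {α : Δ ⟶ ⦋1⦌}
    (h : Valid c φ α) (θ : Δ' ⟶ Δ) : Valid c (θ ≫ φ) (θ ≫ α) :=
  fun x => h (θ.toOrderHom x)

lemma prismMap_σ {Δ : SimplexCategory} {q : ℕ} {c : Fin (q + 1)} {φ : Δ ⟶ ⦋q⦌} {α : Δ ⟶ ⦋1⦌}
    (h : Valid c φ α) : prismMap φ α ≫ SimplexCategory.σ c = φ := by
  ext x : 3
  apply Fin.ext
  show (c.predAbove ((prismMap φ α).toOrderHom x)).val = (φ.toOrderHom x).val
  have h₀ := prismMap_apply φ α x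
  have h₁ := alpha_le_one α x
  have h₂ := h x
  rcases lt_or_ge c.castSucc ((prismMap φ α).toOrderHom x) with hx | hx
  · rw [Fin.predAbove_of_castSucc_lt _ _ hx, Fin.val_pred, h₀]
    have hx' : c.val < ((prismMap φ α).toOrderHom x).val := hx
    rcases Nat.le_one_iff_eq_zero_or_eq_one.1 h₁ with e | e
    · have := h₂.1 e
      omega
    · omega
  · rw [Fin.predAbove_of_le_castSucc _ _ hx, Fin.coe_castPred, h₀]
    have hx' : ((prismMap φ α).toOrderHom x).val ≤ c.val := hx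
    rcases Nat.le_one_iff_eq_zero_or_eq_one.1 h₁ with e | e
    · omega
    · have := h₂.2 e
      omega

lemma prismMap_cut {Δ : SimplexCategory} {q : ℕ} {c : Fin (q + 1)} {φ : Δ ⟶ ⦋q⦌} {α : Δ ⟶ ⦋1⦌}
    (h : Valid c φ α) : prismMap φ α ≫ cut ⦋q + 1⦌ (c.val + 1) = α := by
  ext x : 3
  apply Fin.ext
  refine (cut_apply ⦋q + 1⦌ (c.val + 1) ((prismMap φ α).toOrderHom x)).trans ?_
  have h₀ := prismMap_apply φ α x
  have h₁ := alpha_le_one α x
  have h₂ := h x
  split_ifs with hx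
  · rcases Nat.le_one_iff_eq_zero_or_eq_one.1 h₁ with e | e
    · exact e.symm
    · have := h₂.2 e
      omega
  · rcases Nat.le_one_iff_eq_zero_or_eq_one.1 h₁ with e | e
    · have := h₂.1 e
      omega
    · exact e.symm

lemma valid_σ_cut {q : ℕ} (i : Fin (q + 1)) :
    Valid i (SimplexCategory.σ i) (cut ⦋q + 1⦌ (i.val + 1)) := by
  intro x
  have hc := cut_apply ⦋q + 1⦌ (i.val + 1) x
  have hx0 : ((SimplexCategory.σ i).toOrderHom x).val = (Fin.predAbove (n := q + 1) i x).val := rfl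
  have hx : x.val ≤ i.val ∧ (Fin.predAbove (n := q + 1) i x).val = x.val ∨
      i.val < x.val ∧ (Fin.predAbove (n := q + 1) i x).val = x.val - 1 := by
    rcases lt_or_ge i.castSucc (x : Fin (q + 2)) with h | h
    · exact Or.inr ⟨h, by rw [Fin.predAbove_of_castSucc_lt _ _ h, Fin.val_pred]⟩
    · exact Or.inl ⟨h, by rw [Fin.predAbove_of_le_castSucc _ _ h, Fin.coe_castPred]⟩
  rcases hx with ⟨h, e⟩ | ⟨h, e⟩
  · rw [if_pos (Nat.lt_succ_of_le h)] at hc
    exact ⟨fun _ => (hx0.trans e).le.trans h, fun h1 => by omega⟩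
  · rw [if_neg (by omega)] at hc
    exact ⟨fun h0 => by omega, fun _ => (show i.val ≤ x.val - 1 by omega).trans (hx0.trans e).ge⟩

lemma prismMap_σ_cut {q : ℕ} (i : Fin (q + 1)) :
    prismMap (SimplexCategory.σ i) (cut ⦋q + 1⦌ (i.val + 1)) = 𝟙 _ := by
  ext x : 3
  apply Fin.ext
  refine (prismMap_apply _ _ x).trans ?_
  have hσ : ((SimplexCategory.σ i).toOrderHom x).val = (i.predAbove x).val := rfl
  rw [cut_apply, hσ]
  show _ = x.val
  rcases lt_or_ge i.castSucc x with hx | hx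
  · rw [Fin.predAbove_of_castSucc_lt _ _ hx, Fin.val_pred]
    have hx' : i.val < x.val := hx
    split_ifs <;> omega
  · rw [Fin.predAbove_of_le_castSucc _ _ hx, Fin.coe_castPred]
    have hx' : x.val ≤ i.val := hx
    split_ifs <;> omega

lemma δ_comp_cut {n : ℕ} (k : Fin (n + 2)) (s : ℕ) (h : s = k.val ∨ s = k.val + 1) :
    SimplexCategory.δ k ≫ cut ⦋n + 1⦌ s = cut ⦋n⦌ k.val := by
  ext x : 3
  apply Fin.ext
  refine (cut_apply ⦋n + 1⦌ s ((SimplexCategory.δ k).toOrderHom x)).trans ?_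
  rw [cut_apply]
  show (if (k.succAbove x).val < s then 0 else 1) = _
  rcases lt_or_ge x.castSucc k with hx | hx
  · rw [Fin.succAbove_of_castSucc_lt _ _ hx, Fin.val_castSucc]
    have hx' : x.val < k.val := hx
    split_ifs <;> omega
  · rw [Fin.succAbove_of_le_castSucc _ _ hx, Fin.val_succ]
    have hx' : k.val ≤ x.val := hx
    split_ifs <;> omega

variable {D : Type w} [Category.{v} D] {K L : SimplicialObject D} (a b : K ⟶ L)

/-- The interface of the prism from above. -/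
def bndL {q : ℕ} {P : D} (k : P ⟶ K _⦋q⦌) (h : Fin (q + 1) → (P ⟶ L _⦋q + 1⦌)) :
    Fin (q + 2) → (P ⟶ L _⦋q⦌) :=
  Fin.lastCases (k ≫ a.app _) fun i => h i ≫ L.δ i.castSucc

/-- The interface of the prism from below. -/
def bndR {q : ℕ} {P : D} (k : P ⟶ K _⦋q⦌) (h : Fin (q + 1) → (P ⟶ L _⦋q + 1⦌)) :
    Fin (q + 2) → (P ⟶ L _⦋q⦌) :=
  Fin.cases (k ≫ b.app _) fun i => h i ≫ L.δ i.succ

/-- Points of the path object. -/
@[ext]
structure PathData (q : ℕ) (P : D) where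
  /-- The point of `K`. -/
  k : P ⟶ K _⦋q⦌
  /-- The homotopy. -/
  h : Fin (q + 1) → (P ⟶ L _⦋q + 1⦌)
  eq : ∀ s, bndL a k h s = bndR b k h s

variable {a b}

namespace PathData

variable {q : ℕ} {P : D} (m : PathData a b q P)

lemma eq_bot : m.h 0 ≫ L.δ 0 = m.k ≫ b.app _ := by
  have := m.eq (0 : Fin (q + 1)).castSucc
  rw [bndL, Fin.lastCases_castSucc, bndR, Fin.castSucc_zero, Fin.cases_zero] at this
  exact this

lemma eq_top : m.h (Fin.last q) ≫ L.δ (Fin.last (q + 1)) = m.k ≫ a.app _ := by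
  have := m.eq (Fin.last (q + 1))
  rw [bndL, Fin.lastCases_last, bndR, ← Fin.succ_last, Fin.cases_succ] at this
  exact this.symm

lemma eq_mid (i : Fin q) :
    m.h i.succ ≫ L.δ i.succ.castSucc = m.h i.castSucc ≫ L.δ i.succ.castSucc := by
  have := m.eq i.succ.castSucc
  rw [bndL, Fin.lastCases_castSucc, bndR] at this
  refine this.trans ?_
  rw [← Fin.succ_castSucc, Fin.cases_succ]

/-- The value on the piece with index `c`. -/
def V {Δ : SimplexCategory} (c : Fin (q + 1)) (φ : Δ ⟶ ⦋q⦌) (α : Δ ⟶ ⦋1⦌) :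
    P ⟶ L.obj (op Δ) :=
  m.h c ≫ L.map (prismMap φ α).op

lemma V_eq_of_le : ∀ (d : ℕ) {Δ : SimplexCategory} (c c' : Fin (q + 1)) (φ : Δ ⟶ ⦋q⦌)
    (α : Δ ⟶ ⦋1⦌), c.val + d = c'.val → Valid c φ α → Valid c' φ α → m.V c φ α = m.V c' φ α := by
  intro d
  induction d with
  | zero =>
    intro Δ c c' φ α h _ _
    obtain rfl : c = c' := Fin.ext (by omega)
    rfl
  | succ d ih =>
    intro Δ c c' φ α h hc hc'
    have hq : c.val < q := by have := c'.isLt; omega
    let i : Fin q := ⟨c.val, hq⟩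
    have hcs : Valid i.succ φ α := fun x => by
      refine ⟨fun e => ((hc x).1 e).trans (by simp [i]), fun e => ?_⟩
      have := (hc' x).2 e
      simp only [i, Fin.val_succ]
      omega
    refine Eq.trans ?_ (ih i.succ c' φ α (by simp [i]; omega) hcs hc')
    have hmiss : ∀ x, (prismMap φ α).toOrderHom x ≠ i.succ.castSucc := by
      intro x e
      have e' := congrArg Fin.val e
      simp only [Fin.val_castSucc, Fin.val_succ, i] at e'
      rw [prismMap_apply] at e'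
      rcases Nat.le_one_iff_eq_zero_or_eq_one.1 (alpha_le_one α x) with e₀ | e₁
      · have := (hc x).1 e₀
        omega
      · have := (hcs x).2 e₁
        simp only [i, Fin.val_succ] at this
        omega
    obtain ⟨χ, hχ⟩ := SimplexCategory.eq_comp_δ_of_not_surjective' (prismMap φ α) _ hmiss
    simp only [V, hχ, op_comp, Functor.map_comp, ← Category.assoc]
    rw [show c = i.castSucc from Fin.ext rfl]
    exact congrArg (fun z => z ≫ L.map χ.op) (m.eq_mid i).symm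

lemma V_eq {Δ : SimplexCategory} {c c' : Fin (q + 1)} {φ : Δ ⟶ ⦋q⦌} {α : Δ ⟶ ⦋1⦌}
    (hc : Valid c φ α) (hc' : Valid c' φ α) : m.V c φ α = m.V c' φ α := by
  rcases le_total c.val c'.val with h | h
  · exact m.V_eq_of_le (c'.val - c.val) c c' φ α (by omega) hc hc'
  · exact (m.V_eq_of_le (c.val - c'.val) c' c φ α (by omega) hc' hc).symm

/-- The value of the homotopy on a simplex of the prism. -/
noncomputable def val {Δ : SimplexCategory} (φ : Δ ⟶ ⦋q⦌) (α : Δ ⟶ ⦋1⦌) : P ⟶ L.obj (op Δ) :=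
  m.V (exists_valid φ α).choose φ α

lemma val_eq {Δ : SimplexCategory} {c : Fin (q + 1)} {φ : Δ ⟶ ⦋q⦌} {α : Δ ⟶ ⦋1⦌}
    (hc : Valid c φ α) : m.val φ α = m.V c φ α :=
  m.V_eq (exists_valid φ α).choose_spec hc

lemma val_map {Δ Δ' : SimplexCategory} (θ : Δ' ⟶ Δ) (φ : Δ ⟶ ⦋q⦌) (α : Δ ⟶ ⦋1⦌) :
    m.val φ α ≫ L.map θ.op = m.val (θ ≫ φ) (θ ≫ α) := by
  obtain ⟨c, hc⟩ := exists_valid φ α
  rw [m.val_eq hc, m.val_eq (hc.comp θ), V, V, Category.assoc, ← Functor.map_comp, prismMap_comp]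
  rfl

lemma val_σ_cut (i : Fin (q + 1)) :
    m.val (SimplexCategory.σ i) (cut ⦋q + 1⦌ (i.val + 1)) = m.h i := by
  rw [m.val_eq (valid_σ_cut i), V, prismMap_σ_cut]
  simp

lemma val_zero {Δ : SimplexCategory} (φ : Δ ⟶ ⦋q⦌) (α : Δ ⟶ ⦋1⦌)
    (hα : ∀ x, (α.toOrderHom x).val = 0) :
    m.val φ α = m.k ≫ K.map φ.op ≫ a.app _ := by
  have hv : Valid (Fin.last q) φ α := fun x =>
    ⟨fun _ => Nat.le_of_lt_succ (φ.toOrderHom x).isLt, fun e => absurd ((hα x).symm.trans e) (by simp)⟩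
  have e : prismMap φ α = φ ≫ SimplexCategory.δ (Fin.last (q + 1)) := by
    ext x : 3
    apply Fin.ext
    refine (prismMap_apply φ α x).trans ?_
    show _ = ((Fin.last (q + 1)).succAbove (φ.toOrderHom x)).val
    rw [Fin.succAbove_last, Fin.val_castSucc, hα, Nat.add_zero]
  rw [m.val_eq hv, V, e, op_comp, Functor.map_comp, ← Category.assoc, NatTrans.naturality,
    ← Category.assoc]
  exact congrArg (fun z => z ≫ L.map φ.op) m.eq_top

lemma val_one {Δ : SimplexCategory} (φ : Δ ⟶ ⦋q⦌) (α : Δ ⟶ ⦋1⦌)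
    (hα : ∀ x, (α.toOrderHom x).val = 1) :
    m.val φ α = m.k ≫ K.map φ.op ≫ b.app _ := by
  have hv : Valid (0 : Fin (q + 1)) φ α := fun x =>
    ⟨fun e => absurd (e.symm.trans (hα x)) (by simp), fun _ => Nat.zero_le _⟩
  have e : prismMap φ α = φ ≫ SimplexCategory.δ (0 : Fin (q + 2)) := by
    ext x : 3
    apply Fin.ext
    refine (prismMap_apply φ α x).trans ?_
    show _ = ((0 : Fin (q + 2)).succAbove (φ.toOrderHom x)).val
    rw [Fin.succAbove_zero, Fin.val_succ, hα]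
  rw [m.val_eq hv, V, e, op_comp, Functor.map_comp, ← Category.assoc, NatTrans.naturality,
    ← Category.assoc]
  exact congrArg (fun z => z ≫ L.map φ.op) m.eq_bot

/-- Composition with a morphism of points. -/
def precomp {Q : D} (g : Q ⟶ P) : PathData a b q Q where
  k := g ≫ m.k
  h i := g ≫ m.h i
  eq s := by
    have e₁ : bndL a (g ≫ m.k) (fun i => g ≫ m.h i) s = g ≫ bndL a m.k m.h s := by
      refine Fin.lastCases ?_ (fun i => ?_) s
      · simp only [bndL, Fin.lastCases_last, Category.assoc]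
      · simp only [bndL, Fin.lastCases_castSucc, Category.assoc]
    have e₂ : bndR b (g ≫ m.k) (fun i => g ≫ m.h i) s = g ≫ bndR b m.k m.h s := by
      refine Fin.cases ?_ (fun i => ?_) s
      · simp only [bndR, Fin.cases_zero, Category.assoc]
      · simp only [bndR, Fin.cases_succ, Category.assoc]
    rw [e₁, e₂, m.eq]

lemma precomp_val {Q : D} (g : Q ⟶ P) {Δ : SimplexCategory} (φ : Δ ⟶ ⦋q⦌) (α : Δ ⟶ ⦋1⦌) :
    (m.precomp g).val φ α = g ≫ m.val φ α := by
  obtain ⟨c, hc⟩ := exists_valid φ α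
  rw [(m.precomp g).val_eq hc, m.val_eq hc, V, V, ← Category.assoc]
  rfl

lemma δ_comp_σ_cut_bot {r : ℕ} (i : Fin (r + 1)) (θ : ⦋r⦌ ⟶ ⦋q⦌) :
    m.val (SimplexCategory.σ i ≫ θ) (cut ⦋r + 1⦌ (i.val + 1)) ≫ L.δ i.castSucc =
      m.val θ (cut ⦋r⦌ i.val) := by
  rw [SimplicialObject.δ, m.val_map, ← Category.assoc,
    SimplexCategory.δ_comp_σ_self' (by simp), δ_comp_cut i.castSucc _ (Or.inr (by simp))]
  simp

lemma δ_comp_σ_cut_top {r : ℕ} (i : Fin (r + 1)) (θ : ⦋r⦌ ⟶ ⦋q⦌) :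
    m.val (SimplexCategory.σ i ≫ θ) (cut ⦋r + 1⦌ (i.val + 1)) ≫ L.δ i.succ =
      m.val θ (cut ⦋r⦌ (i.val + 1)) := by
  rw [SimplicialObject.δ, m.val_map, ← Category.assoc,
    SimplexCategory.δ_comp_σ_succ' (by simp), δ_comp_cut i.succ _ (Or.inl (by simp))]
  simp

/-- Restriction along a map of simplices. -/
noncomputable def restrict {r : ℕ} (θ : ⦋r⦌ ⟶ ⦋q⦌) : PathData a b r P where
  k := m.k ≫ K.map θ.op
  h i := m.val (SimplexCategory.σ i ≫ θ) (cut ⦋r + 1⦌ (i.val + 1))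
  eq s := by
    have hA : ∀ s : Fin (r + 2), bndL a (m.k ≫ K.map θ.op)
        (fun i => m.val (SimplexCategory.σ i ≫ θ) (cut ⦋r + 1⦌ (i.val + 1))) s =
          m.val θ (cut ⦋r⦌ s.val) := by
      intro s
      refine Fin.lastCases ?_ (fun i => ?_) s
      · rw [bndL, Fin.lastCases_last, Category.assoc]
        refine (m.val_zero θ _ fun x => ?_).symm
        rw [cut_apply]
        exact if_pos x.isLt
      · rw [bndL, Fin.lastCases_castSucc]
        exact m.δ_comp_σ_cut_bot i θ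
    have hB : ∀ s : Fin (r + 2), bndR b (m.k ≫ K.map θ.op)
        (fun i => m.val (SimplexCategory.σ i ≫ θ) (cut ⦋r + 1⦌ (i.val + 1))) s =
          m.val θ (cut ⦋r⦌ s.val) := by
      intro s
      refine Fin.cases ?_ (fun i => ?_) s
      · rw [bndR, Fin.cases_zero, Category.assoc]
        refine (m.val_one θ _ fun x => ?_).symm
        rw [cut_apply]
        exact if_neg (by simp)
      · rw [bndR, Fin.cases_succ]
        exact (m.δ_comp_σ_cut_top i θ).trans (by simp)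
    rw [hA, hB]

lemma restrict_val {r : ℕ} (θ : ⦋r⦌ ⟶ ⦋q⦌) {Δ : SimplexCategory} (φ : Δ ⟶ ⦋r⦌) (α : Δ ⟶ ⦋1⦌) :
    (m.restrict θ).val φ α = m.val (φ ≫ θ) α := by
  obtain ⟨c, hc⟩ := exists_valid φ α
  rw [(m.restrict θ).val_eq hc, V]
  show m.val _ _ ≫ _ = _
  rw [m.val_map, ← Category.assoc, prismMap_σ hc, prismMap_cut hc]

lemma restrict_id : m.restrict (𝟙 _) = m := by
  refine PathData.ext ?_ (funext fun i => ?_)
  · simp [restrict]
  · show m.val (SimplexCategory.σ i ≫ 𝟙 _) _ = _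
    rw [Category.comp_id, val_σ_cut]

lemma restrict_comp {r r' : ℕ} (θ : ⦋r⦌ ⟶ ⦋q⦌) (θ' : ⦋r'⦌ ⟶ ⦋r⦌) :
    (m.restrict θ).restrict θ' = m.restrict (θ' ≫ θ) := by
  refine PathData.ext ?_ (funext fun i => ?_)
  · simp [restrict]
  · show (m.restrict θ).val _ _ = m.val _ _
    rw [restrict_val, Category.assoc]

lemma precomp_restrict {Q : D} (g : Q ⟶ P) {r : ℕ} (θ : ⦋r⦌ ⟶ ⦋q⦌) :
    (m.restrict θ).precomp g = (m.precomp g).restrict θ := by
  refine PathData.ext ?_ (funext fun i => ?_)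
  · simp [restrict, precomp]
  · exact (m.precomp_val g _ _).symm

end PathData

section

variable [HasFiniteLimits D] (a b)

/-- The ambient product. -/
noncomputable abbrev pathAmb (q : ℕ) : D := K _⦋q⦌ ⨯ ∏ᶜ fun _ : Fin (q + 1) => L _⦋q + 1⦌

/-- The two interface maps. -/
noncomputable def ambL (q : ℕ) : pathAmb (K := K) (L := L) q ⟶ ∏ᶜ fun _ : Fin (q + 2) => L _⦋q⦌ :=
  Pi.lift (bndL a prod.fst fun i => prod.snd ≫ Pi.π _ i)

/-- The two interface maps. -/
noncomputable def ambR (q : ℕ) : pathAmb (K := K) (L := L) q ⟶ ∏ᶜ fun _ : Fin (q + 2) => L _⦋q⦌ :=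
  Pi.lift (bndR b prod.fst fun i => prod.snd ≫ Pi.π _ i)

/-- The terms of the path object. -/
noncomputable abbrev pathTerm (q : ℕ) : D := equalizer (ambL a q) (ambR b q)

lemma comp_ambL {q : ℕ} {P : D} (x : P ⟶ pathAmb (K := K) (L := L) q) (s : Fin (q + 2)) :
    x ≫ ambL a q ≫ Pi.π _ s =
      bndL a (x ≫ prod.fst) (fun i => x ≫ prod.snd ≫ Pi.π _ i) s := by
  rw [ambL, Pi.lift_π]
  refine Fin.lastCases ?_ (fun i => ?_) s
  · simp only [bndL, Fin.lastCases_last, Category.assoc]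
  · simp only [bndL, Fin.lastCases_castSucc, Category.assoc]

lemma comp_ambR {q : ℕ} {P : D} (x : P ⟶ pathAmb (K := K) (L := L) q) (s : Fin (q + 2)) :
    x ≫ ambR b q ≫ Pi.π _ s =
      bndR b (x ≫ prod.fst) (fun i => x ≫ prod.snd ≫ Pi.π _ i) s := by
  rw [ambR, Pi.lift_π]
  refine Fin.cases ?_ (fun i => ?_) s
  · simp only [bndR, Fin.cases_zero, Category.assoc]
  · simp only [bndR, Fin.cases_succ, Category.assoc]

variable {a b}

/-- The data of a point. -/
noncomputable def ofPt {q : ℕ} {P : D} (x : P ⟶ pathTerm a b q) : PathData a b q P where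
  k := (x ≫ equalizer.ι _ _) ≫ prod.fst
  h i := (x ≫ equalizer.ι _ _) ≫ prod.snd ≫ Pi.π _ i
  eq s := by
    rw [← comp_ambL, ← comp_ambR, Category.assoc, Category.assoc, equalizer.condition_assoc]

/-- The point of some data. -/
noncomputable def PathData.toPt' {q : ℕ} {P : D} (m : PathData a b q P) : P ⟶ pathTerm a b q :=
  equalizer.lift (prod.lift m.k (Pi.lift m.h)) (Pi.hom_ext _ _ fun s => by
    rw [Category.assoc, Category.assoc, comp_ambL, comp_ambR]
    simp only [prod.lift_fst, prod.lift_snd_assoc, Pi.lift_π]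
    exact m.eq s)

lemma ofPt_toPt' {q : ℕ} {P : D} (m : PathData a b q P) : ofPt m.toPt' = m := by
  refine PathData.ext ?_ (funext fun i => ?_) <;>
    simp only [ofPt, PathData.toPt', equalizer.lift_ι, prod.lift_fst, prod.lift_snd_assoc, Pi.lift_π]

lemma ofPt_injective {q : ℕ} {P : D} {x y : P ⟶ pathTerm a b q} (h : ofPt x = ofPt y) : x = y := by
  refine equalizer.hom_ext (Limits.prod.hom_ext (congrArg PathData.k h) (Pi.hom_ext _ _ fun i => ?_))
  simpa [ofPt] using congrFun (congrArg PathData.h h) i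

lemma ofPt_comp {q : ℕ} {P Q : D} (g : Q ⟶ P) (x : P ⟶ pathTerm a b q) :
    ofPt (g ≫ x) = (ofPt x).precomp g := by
  refine PathData.ext ?_ (funext fun i => ?_) <;> simp [ofPt, PathData.precomp]

variable (a b)

/-- The transition maps. -/
noncomputable def pathMapAux {q r : ℕ} (θ : ⦋r⦌ ⟶ ⦋q⦌) : pathTerm a b q ⟶ pathTerm a b r :=
  ((ofPt (𝟙 _)).restrict θ).toPt'

lemma ofPt_comp_pathMap {q r : ℕ} {P : D} (x : P ⟶ pathTerm a b q) (θ : ⦋r⦌ ⟶ ⦋q⦌) :
    ofPt (x ≫ pathMapAux a b θ) = (ofPt x).restrict θ := by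
  rw [ofPt_comp, pathMapAux, ofPt_toPt', PathData.precomp_restrict, ← ofPt_comp, Category.comp_id]

/-- The path object. -/
noncomputable def pathObj : SimplicialObject D where
  obj Δ := pathTerm a b Δ.unop.len
  map {Δ Δ'} θ := pathMapAux a b (q := Δ.unop.len) (r := Δ'.unop.len) θ.unop
  map_id Δ := ofPt_injective (by
    rw [← Category.id_comp (pathMapAux a b _), ofPt_comp_pathMap]
    exact PathData.restrict_id _)
  map_comp {Δ Δ' Δ''} θ θ' := ofPt_injective (by
    rw [← Category.id_comp (pathMapAux a b _), ofPt_comp_pathMap, ofPt_comp_pathMap,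
      ← Category.id_comp (pathMapAux a b θ.unop), ofPt_comp_pathMap, PathData.restrict_comp]
    rfl)

/-- The data of a point of the path object. -/
noncomputable def pathOfPt {q : ℕ} {P : D} (x : P ⟶ (pathObj a b) _⦋q⦌) : PathData a b q P :=
  ofPt x

lemma pathOfPt_map {q r : ℕ} {P : D} (x : P ⟶ (pathObj a b) _⦋q⦌) (θ : ⦋r⦌ ⟶ ⦋q⦌) :
    pathOfPt a b (x ≫ (pathObj a b).map θ.op) = (pathOfPt a b x).restrict θ :=
  ofPt_comp_pathMap a b x θ

lemma exists_pathPt {q : ℕ} {P : D} (m : PathData a b q P) :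
    ∃ x : P ⟶ (pathObj a b) _⦋q⦌, pathOfPt a b x = m :=
  ⟨m.toPt', ofPt_toPt' m⟩

/-- The projection of the path object. -/
noncomputable def pathProj : pathObj a b ⟶ K where
  app Δ := (ofPt (𝟙 (pathTerm a b Δ.unop.len))).k
  naturality Δ Δ' θ := by
    have e := congrArg PathData.k
      (ofPt_comp (pathMapAux a b (q := Δ.unop.len) (r := Δ'.unop.len) θ.unop)
        (𝟙 (pathTerm a b Δ'.unop.len)))
    rw [Category.comp_id, ← Category.id_comp (pathMapAux a b _), ofPt_comp_pathMap] at e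
    simp only [PathData.restrict, PathData.precomp, Category.id_comp] at e
    exact e.symm

lemma comp_pathProj {q : ℕ} {P : D} (x : P ⟶ (pathObj a b) _⦋q⦌) :
    x ≫ (pathProj a b).app (op ⦋q⦌) = (pathOfPt a b x).k := by
  have := congrArg PathData.k (ofPt_comp (a := a) (b := b) x (𝟙 (pathTerm a b q)))
  erw [Category.comp_id] at this
  exact this.symm

lemma restrict_h_eq {q r : ℕ} {P : D} (m : PathData a b q P) (θ : ⦋r⦌ ⟶ ⦋q⦌) (i : Fin (r + 1))
    (c : Fin (q + 1)) (χ : ⦋r + 1⦌ ⟶ ⦋q + 1⦌)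
    (h₁ : χ ≫ SimplexCategory.σ c = SimplexCategory.σ i ≫ θ)
    (h₂ : χ ≫ cut ⦋q + 1⦌ (c.val + 1) = cut ⦋r + 1⦌ (i.val + 1)) :
    (m.restrict θ).h i = m.h c ≫ L.map χ.op := by
  show m.val _ _ = _
  rw [← h₁, ← h₂, ← m.val_map, m.val_σ_cut]

lemma cut_comp_eq {r q : ℕ} (χ : ⦋r⦌ ⟶ ⦋q⦌) (s t : ℕ)
    (h : ∀ x : Fin (r + 1), (χ.toOrderHom x).val < s ↔ x.val < t) :
    χ ≫ cut ⦋q⦌ s = cut ⦋r⦌ t := by
  ext x : 3
  apply Fin.ext
  refine (cut_apply ⦋q⦌ s (χ.toOrderHom x)).trans ?_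
  rw [cut_apply]
  exact if_congr (h x) rfl rfl

/-- The components of the universal homotopy. -/
noncomputable def pathH {q : ℕ} (i : Fin (q + 1)) : (pathObj a b) _⦋q⦌ ⟶ L _⦋q + 1⦌ :=
  (pathOfPt a b (𝟙 _)).h i

lemma comp_pathH {q : ℕ} {P : D} (x : P ⟶ (pathObj a b) _⦋q⦌) (i : Fin (q + 1)) :
    x ≫ pathH a b i = (pathOfPt a b x).h i := by
  have := congrFun (congrArg PathData.h (ofPt_comp (a := a) (b := b) x (𝟙 (pathTerm a b q)))) i
  erw [Category.comp_id] at this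
  exact this.symm

lemma map_pathH {q r : ℕ} (θ : ⦋r⦌ ⟶ ⦋q⦌) (i : Fin (r + 1)) (c : Fin (q + 1))
    (χ : ⦋r + 1⦌ ⟶ ⦋q + 1⦌) (h₁ : χ ≫ SimplexCategory.σ c = SimplexCategory.σ i ≫ θ)
    (h₂ : χ ≫ cut ⦋q + 1⦌ (c.val + 1) = cut ⦋r + 1⦌ (i.val + 1)) :
    (pathObj a b).map θ.op ≫ pathH a b i = pathH a b c ≫ L.map χ.op := by
  rw [comp_pathH, ← Category.id_comp ((pathObj a b).map θ.op), pathOfPt_map]
  exact restrict_h_eq a b _ θ i c χ h₁ h₂

/-- The universal homotopy on the path object. -/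
noncomputable def pathHomotopy :
    SimplicialObject.Homotopy (pathProj a b ≫ a) (pathProj a b ≫ b) where
  h i := pathH a b i
  h_zero_comp_δ_zero q := by
    refine (pathOfPt a b (𝟙 ((pathObj a b) _⦋q⦌))).eq_bot.trans ?_
    rw [← comp_pathProj]
    simp
  h_last_comp_δ_last q := by
    refine (pathOfPt a b (𝟙 ((pathObj a b) _⦋q⦌))).eq_top.trans ?_
    rw [← comp_pathProj]
    simp
  h_succ_comp_δ_castSucc_succ {q} j :=
    (pathOfPt a b (𝟙 ((pathObj a b) _⦋q + 1⦌))).eq_mid j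
  h_succ_comp_δ_castSucc_of_lt {q} i j hij := by
    refine (map_pathH a b (SimplexCategory.δ i) j j.succ (SimplexCategory.δ i.castSucc)
      (SimplexCategory.δ_comp_σ_of_le hij) (cut_comp_eq _ _ _ fun x => ?_)).symm
    show ((i.castSucc : Fin (q + 3)).succAbove x).val < j.succ.val + 1 ↔ x.val < j.val + 1
    rcases lt_or_ge x.castSucc i.castSucc with hx | hx
    · rw [Fin.succAbove_of_castSucc_lt _ _ hx]
      simp only [Fin.le_def, Fin.lt_def, Fin.val_castSucc, Fin.val_succ] at hij hx ⊢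
      omega
    · rw [Fin.succAbove_of_le_castSucc _ _ hx]
      simp only [Fin.val_succ]
      omega
  h_castSucc_comp_δ_succ_of_lt {q} i j hji := by
    refine (map_pathH a b (SimplexCategory.δ i) j j.castSucc (SimplexCategory.δ i.succ)
      (SimplexCategory.δ_comp_σ_of_gt hji) (cut_comp_eq _ _ _ fun x => ?_)).symm
    show ((i.succ : Fin (q + 3)).succAbove x).val < j.castSucc.val + 1 ↔ x.val < j.val + 1
    rcases lt_or_ge x.castSucc i.succ with hx | hx
    · rw [Fin.succAbove_of_castSucc_lt _ _ hx]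
      simp only [Fin.val_castSucc]
    · rw [Fin.succAbove_of_le_castSucc _ _ hx]
      simp only [Fin.le_def, Fin.lt_def, Fin.val_castSucc, Fin.val_succ] at hji hx ⊢
      omega
  h_comp_σ_castSucc_of_le {q} i j hij := by
    refine (map_pathH a b (SimplexCategory.σ i) j.succ j (SimplexCategory.σ i.castSucc)
      (SimplexCategory.σ_comp_σ hij) (cut_comp_eq _ _ _ fun x => ?_)).symm
    show ((i.castSucc : Fin (q + 2)).predAbove x).val < j.val + 1 ↔ x.val < j.succ.val + 1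
    rcases lt_or_ge i.castSucc.castSucc x with hx | hx
    · rw [Fin.predAbove_of_castSucc_lt _ _ hx]
      simp only [Fin.lt_def, Fin.val_castSucc, Fin.val_succ, Fin.val_pred] at hx ⊢
      omega
    · rw [Fin.predAbove_of_le_castSucc _ _ hx]
      simp only [Fin.le_def, Fin.val_castSucc, Fin.val_succ, Fin.coe_castPred] at hij hx ⊢
      omega
  h_comp_σ_succ_of_lt {q} i j hji := by
    refine (map_pathH a b (SimplexCategory.σ i) j.castSucc j (SimplexCategory.σ i.succ)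
      (SimplexCategory.σ_comp_σ hji).symm (cut_comp_eq _ _ _ fun x => ?_)).symm
    show ((i.succ : Fin (q + 2)).predAbove x).val < j.val + 1 ↔ x.val < j.castSucc.val + 1
    rcases lt_or_ge i.succ.castSucc x with hx | hx
    · rw [Fin.predAbove_of_castSucc_lt _ _ hx]
      simp only [Fin.le_def, Fin.lt_def, Fin.val_castSucc, Fin.val_succ, Fin.val_pred] at hji hx ⊢
      omega
    · rw [Fin.predAbove_of_le_castSucc _ _ hx]
      simp only [Fin.le_def, Fin.val_castSucc, Fin.val_succ, Fin.coe_castPred] at hx ⊢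

end

end Groth.Agent.HyperLib
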