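import Groth.Agent.HyperLib.Site

/-!
# Base change of locally trivial simplicial semi-representable objects
-/

universe v w u

open CategoryTheory CategoryTheory.Limits Opposite Simplicial

namespace Groth.Agent.HyperLib

open FormalCoproduct

section

variable {D : Type w} [Category.{v} D] {K : SimplicialObject D} {n : ℕ}

/-- The compatibility of a boundary holds for simplices of every dimension. -/
lemma IsBdry.eq_of_comp_eq {P : D} {y : Fin (n + 2) → (P ⟶ K _⦋n⦌)} (hy : IsBdry K n P y)
    {Δ : SimplexCategory} (φ ψ : Δ ⟶ ⦋n⦌) (a b : Fin (n + 2))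
    (e : φ ≫ SimplexCategory.δ a = ψ ≫ SimplexCategory.δ b) : y a ≫ K.map φ.op = y b ≫ K.map ψ.op := by
  let π := factorThruImage φ
  let ι := Limits.image.ι φ
  have hφ : φ = π ≫ ι := (Limits.image.fac φ).symm
  have hlen : (Limits.image φ).len ≤ n := SimplexCategory.len_le_of_mono ι
  have hb : ∀ x, ((ι ≫ SimplexCategory.δ a).toOrderHom x) ≠ b := by
    intro x
    obtain ⟨x', rfl⟩ := (SimplexCategory.epi_iff_surjective.1 (inferInstance : Epi π)) x
    have hx := congrArg (fun f : Δ ⟶ ⦋n + 1⦌ => f.toOrderHom x') e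
    rw [hφ] at hx
    exact fun h => Fin.succAbove_ne b _ ((hx.symm.trans h :))
  obtain ⟨ι', hι⟩ := SimplexCategory.eq_comp_δ_of_not_surjective' (ι ≫ SimplexCategory.δ a) b hb
  have hψ : ψ = π ≫ ι' := by
    rw [← cancel_mono (SimplexCategory.δ b), ← e]
    refine (congrArg (fun z => z ≫ SimplexCategory.δ a) hφ).trans ?_
    rw [Category.assoc, Category.assoc, hι]
  rw [show φ.op = ι.op ≫ π.op from congrArg Quiver.Hom.op hφ,
    show ψ.op = ι'.op ≫ π.op from congrArg Quiver.Hom.op hψ, Functor.map_comp, Functor.map_comp]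
  rw [← Category.assoc, hy hlen ι ι' a b hι, Category.assoc]

variable [∀ α : Type, HasColimitsOfShape (Discrete α) D]
  [∀ F : (SimplexCategory.Truncated n)ᵒᵖ ⥤ D,
  (SimplexCategory.Truncated.inclusion n).op.HasRightKanExtension F]

set_option linter.unusedSectionVars false in
lemma bd_map {K L : SimplicialObject D} (f : K ⟶ L) {P : D}
    (h : P ⟶ ((SimplicialObject.cosk n).obj K) _⦋n + 1⦌) (i : Fin (n + 2)) :
    bd L (h ≫ ((SimplicialObject.cosk n).map f).app (op ⦋n + 1⦌)) i =
      bd K h i ≫ f.app (op ⦋n⦌) := by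
  simp only [bd, SimplicialObject.δ, Category.assoc]
  congr 1
  erw [← ((SimplicialObject.cosk n).map f).naturality_assoc]
  congr 1
  exact congr_app ((SimplicialObject.coskAdj n).counit.naturality
    ((SimplicialObject.truncation n).map f)) (op ⟨⦋n⦌, le_rfl⟩)

end

variable {C : Type u} [SmallCategory C] (J : GrothendieckTopology C)

lemma finite_intersection_mem {U : C} {ι : Type*} [Finite ι] (S : ι → Sieve U)
    (h : ∀ i, S i ∈ J U) : (⨅ i, S i) ∈ J U := by
  classical
  cases nonempty_fintype ι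
  have : ∀ s : Finset ι, s.inf S ∈ J U := by
    intro s
    induction s using Finset.induction with
    | empty => simpa using J.top_mem U
    | insert i s _ ih => simpa using J.intersection_covering (h i) ih
  simpa [Finset.inf_eq_iInf] using this Finset.univ

lemma iInf_arrows_apply {U V : C} {ι : Type*} (S : ι → Sieve U) {g : V ⟶ U}
    (h : (⨅ i, S i) g) (i : ι) : S i g :=
  (iInf_le S i) g h

/-- Relative local filling for a morphism. -/
def FillsRel {M L : SimplicialObject (FormalCoproduct.{u} C)} (b : M ⟶ L) (n : ℕ) : Prop :=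
  ∀ (U : C) (y : Fin (n + 2) → ((incl C).obj U ⟶ M _⦋n⦌)), IsBdry M n _ y →
    ∀ l : (incl C).obj U ⟶ L _⦋n + 1⦌, (∀ i, l ≫ L.δ i = y i ≫ b.app (op ⦋n⦌)) →
    ∃ S : Sieve U, S ∈ J U ∧ ∀ ⦃V : C⦄ (g : V ⟶ U), S g →
      ∃ m : (incl C).obj V ⟶ M _⦋n + 1⦌, (∀ i, m ≫ M.δ i = (incl C).map g ≫ y i) ∧
        m ≫ b.app (op ⦋n + 1⦌) = (incl C).map g ≫ l

variable [HasPullbacks C]

lemma isLocTrivial_pullback {P K L M : SimplicialObject (FormalCoproduct.{u} C)} {p : P ⟶ K}
    {q : P ⟶ M} {a : K ⟶ L} {b : M ⟶ L} (hP : IsPullback p q a b) (hK : IsLocTrivial J K)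
    (h0 : Hyper.IsSRCovering J (b.app (op ⦋0⦌))) (h : ∀ n, FillsRel J b n) :
    IsLocTrivial J P := by
  have hPn : ∀ Δ, IsPullback (p.app Δ) (q.app Δ) (a.app Δ) (b.app Δ) := fun Δ =>
    hP.map ((CategoryTheory.evaluation _ _).obj Δ)
  refine ⟨fun U => ?_, fun n U y hy => ?_⟩
  · rw [isSRCovering_iff] at h0
    refine J.transitive (hK.1 U) _ fun V g ⟨x⟩ => ?_
    refine J.superset_covering ?_ (h0 V (x ≫ a.app _))
    rintro W k ⟨m, hm⟩
    exact ⟨(hPn _).lift ((incl C).map k ≫ x) m (by simp [hm])⟩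
  · have hK' := hK.2 n U (fun i => y i ≫ p.app _) fun Δ hΔ φ ψ c d e => by
      simp only [Category.assoc, ← p.naturality, reassoc_of% (hy hΔ φ ψ c d e)]
    obtain ⟨S, hS, hS'⟩ := hK'
    let T : Sieve U :=
      { arrows := fun V g => ∃ x : (incl C).obj V ⟶ P _⦋n + 1⦌,
          ∀ i, x ≫ P.δ i = (incl C).map g ≫ y i
        downward_closed := by
          rintro V W g ⟨x, hx⟩ k
          exact ⟨(incl C).map k ≫ x, fun i => by
            rw [Category.assoc, hx, Functor.map_comp, Category.assoc]⟩ }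
    refine ⟨T, J.transitive hS T fun V g hg => ?_, fun V g hg => hg⟩
    obtain ⟨k, hk⟩ := hS' g hg
    obtain ⟨S', hS'', hfill⟩ := h n V (fun i => (incl C).map g ≫ y i ≫ q.app _)
      (by
        intro Δ hΔ φ ψ c d e
        simp only [Category.assoc, ← q.naturality, reassoc_of% (hy hΔ φ ψ c d e)])
      (k ≫ a.app _) (fun i => by
        simp only [Category.assoc, SimplicialObject.δ]
        rw [← a.naturality]
        erw [reassoc_of% (hk i)]
        rw [(hPn _).w])
    refine J.superset_covering ?_ hS''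
    intro W r hr
    obtain ⟨m, hm, hm'⟩ := hfill r hr
    refine ⟨(hPn _).lift ((incl C).map r ≫ k) m (by simp [hm']), fun i => (hPn _).hom_ext ?_ ?_⟩
    · simp only [Category.assoc, SimplicialObject.δ, p.naturality]
      erw [(hPn _).lift_fst_assoc, Category.assoc, hk i]
      simp
    · simp only [Category.assoc, SimplicialObject.δ, q.naturality]
      erw [(hPn _).lift_snd_assoc, hm i]
      simp

end Groth.Agent.HyperLib
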