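import Groth.Agent.HyperLib.Pullback
import Mathlib.CategoryTheory.Functor.OfSequence
import Mathlib.Data.Finite.Sum
import Mathlib.CategoryTheory.Limits.Constructions.LimitsOfProductsAndEqualizers

/-!
# Hypercoverings built by successively attaching coverings of boundaries
-/

universe u

open CategoryTheory CategoryTheory.Limits Opposite Simplicial

namespace Groth.Agent.HyperLib

open FormalCoproduct

variable {C : Type u} [SmallCategory C] (J : GrothendieckTopology C)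

/-- A family of boundaries of `n + 1`-simplices. -/
structure BdryFam (K : SimplicialObject (FormalCoproduct.{u} C)) (n : ℕ) where
  /-- The parameters. -/
  N : FormalCoproduct.{u} C
  /-- The faces. -/
  d : Fin (n + 2) → (N ⟶ K _⦋n⦌)
  isBdry : IsBdry K n N d

/-- Every boundary locally belongs to the family. -/
def BdryFam.Covers {K : SimplicialObject (FormalCoproduct.{u} C)} {n : ℕ} (B : BdryFam K n) : Prop :=
  ∀ (U : C) (y : Fin (n + 2) → ((incl C).obj U ⟶ K _⦋n⦌)), IsBdry K n _ y →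
    ∃ S : Sieve U, S ∈ J U ∧ ∀ ⦃V : C⦄ (g : V ⟶ U), S g →
      ∃ x : (incl C).obj V ⟶ B.N, ∀ c, x ≫ B.d c = (incl C).map g ≫ y c

section attach

variable {K : SimplicialObject (FormalCoproduct.{u} C)} {n : ℕ} (B : BdryFam K n)

namespace BdryFam

/-- The value of a degenerate-or-smaller simplex. -/
noncomputable def val {m : SimplexCategory} (ψ : m ⟶ ⦋n + 1⦌) (h : ¬ Epi ψ) :
    B.N ⟶ K.obj (op m) :=
  B.d (SimplexCategory.eq_comp_δ_of_not_surjective ψ
      (mt SimplexCategory.epi_iff_surjective.2 h)).choose ≫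
    K.map (SimplexCategory.eq_comp_δ_of_not_surjective ψ
      (mt SimplexCategory.epi_iff_surjective.2 h)).choose_spec.choose.op

lemma val_eq {m : SimplexCategory} (ψ : m ⟶ ⦋n + 1⦌) (h : ¬ Epi ψ) (c : Fin (n + 2))
    (φ : m ⟶ ⦋n⦌) (e : ψ = φ ≫ SimplexCategory.δ c) : B.val ψ h = B.d c ≫ K.map φ.op :=
  B.isBdry.eq_of_comp_eq _ _ _ _
    ((SimplexCategory.eq_comp_δ_of_not_surjective ψ
      (mt SimplexCategory.epi_iff_surjective.2 h)).choose_spec.choose_spec.symm.trans e)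

lemma not_epi_comp {p m : SimplexCategory} (θ : p ⟶ m) (ψ : m ⟶ ⦋n + 1⦌) (h : ¬ Epi ψ) :
    ¬ Epi (θ ≫ ψ) := fun _ => h (epi_of_epi θ ψ)

lemma val_map {p m : SimplexCategory} (θ : p ⟶ m) (ψ : m ⟶ ⦋n + 1⦌) (h : ¬ Epi ψ)
    (h' : ¬ Epi (θ ≫ ψ)) : B.val ψ h ≫ K.map θ.op = B.val (θ ≫ ψ) h' := by
  obtain ⟨c, φ, e⟩ := SimplexCategory.eq_comp_δ_of_not_surjective ψ
    (mt SimplexCategory.epi_iff_surjective.2 h)
  rw [B.val_eq ψ h c φ e, B.val_eq _ h' c (θ ≫ φ) (by rw [e, Category.assoc]), Category.assoc,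
    ← K.map_comp]
  rfl

/-- The terms of the attached object. -/
abbrev attObj (m : SimplexCategoryᵒᵖ) : FormalCoproduct.{u} C :=
  ⟨(K.obj m).I ⊕ ({η : unop m ⟶ ⦋n + 1⦌ // Epi η} × B.N.I),
    Sum.elim (K.obj m).obj fun z => B.N.obj z.2⟩

/-- The old simplices. -/
def inL (m : SimplexCategoryᵒᵖ) : K.obj m ⟶ B.attObj m :=
  descPts fun i => pt (B.attObj m) (Sum.inl i)

/-- The new simplices. -/
def inR {m : SimplexCategoryᵒᵖ} (η : unop m ⟶ ⦋n + 1⦌) (h : Epi η) : B.N ⟶ B.attObj m :=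
  descPts fun j => pt (B.attObj m) (Sum.inr (⟨η, h⟩, j))

/-- The points of a map out of the attached object. -/
def attFun {m : SimplexCategoryᵒᵖ} {T : FormalCoproduct.{u} C} (f : K.obj m ⟶ T)
    (g : ∀ η : unop m ⟶ ⦋n + 1⦌, Epi η → (B.N ⟶ T)) :
    ∀ x, (incl C).obj ((B.attObj m).obj x) ⟶ T
  | Sum.inl i => pt (K.obj m) i ≫ f
  | Sum.inr (η, j) => pt B.N j ≫ g η.1 η.2

/-- A map out of the attached object. -/
def attDesc {m : SimplexCategoryᵒᵖ} {T : FormalCoproduct.{u} C} (f : K.obj m ⟶ T)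
    (g : ∀ η : unop m ⟶ ⦋n + 1⦌, Epi η → (B.N ⟶ T)) : B.attObj m ⟶ T :=
  descPts (B.attFun f g)

@[reassoc (attr := simp)]
lemma inL_attDesc {m : SimplexCategoryᵒᵖ} {T : FormalCoproduct.{u} C} (f : K.obj m ⟶ T)
    (g : ∀ η : unop m ⟶ ⦋n + 1⦌, Epi η → (B.N ⟶ T)) : B.inL m ≫ B.attDesc f g = f := by
  refine fc_ext fun i => ?_
  exact (Category.assoc _ _ _).symm.trans ((congrArg (· ≫ B.attDesc f g)
    (pt_descPts (fun i => pt (B.attObj m) (Sum.inl i)) i)).trans (pt_descPts (X := B.attObj m) (B.attFun f g) (Sum.inl i)))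

@[reassoc (attr := simp)]
lemma inR_attDesc {m : SimplexCategoryᵒᵖ} {T : FormalCoproduct.{u} C} (f : K.obj m ⟶ T)
    (g : ∀ η : unop m ⟶ ⦋n + 1⦌, Epi η → (B.N ⟶ T)) (η : unop m ⟶ ⦋n + 1⦌) (h : Epi η) :
    B.inR η h ≫ B.attDesc f g = g η h := by
  refine fc_ext fun i => ?_
  exact (Category.assoc _ _ _).symm.trans ((congrArg (· ≫ B.attDesc f g)
    (pt_descPts (fun j => pt (B.attObj m) (Sum.inr (⟨η, h⟩, j))) i)).trans
      (pt_descPts (X := B.attObj m) (B.attFun f g) (Sum.inr (⟨η, h⟩, i))))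

lemma att_ext {m : SimplexCategoryᵒᵖ} {T : FormalCoproduct.{u} C} {a b : B.attObj m ⟶ T}
    (hl : B.inL m ≫ a = B.inL m ≫ b)
    (hr : ∀ (η : unop m ⟶ ⦋n + 1⦌) (h : Epi η), B.inR η h ≫ a = B.inR η h ≫ b) : a = b := by
  refine fc_ext fun x => ?_
  rcases x with i | ⟨⟨η, h⟩, j⟩
  · have e := pt_descPts (fun i => pt (B.attObj m) (Sum.inl i)) i
    exact (congrArg (· ≫ a) e).symm.trans ((Category.assoc _ _ _).trans
      ((congrArg (fun z => pt (K.obj m) i ≫ z) hl).trans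
        ((Category.assoc _ _ _).symm.trans (congrArg (· ≫ b) e))))
  · have e := pt_descPts (fun j => pt (B.attObj m) (Sum.inr (⟨η, h⟩, j))) j
    exact (congrArg (· ≫ a) e).symm.trans ((Category.assoc _ _ _).trans
      ((congrArg (fun z => pt B.N j ≫ z) (hr η h)).trans
        ((Category.assoc _ _ _).symm.trans (congrArg (· ≫ b) e))))

open Classical in
/-- The action of a map of simplices on the attached object. -/
noncomputable def attMap {m p : SimplexCategoryᵒᵖ} (θ : m ⟶ p) : B.attObj m ⟶ B.attObj p :=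
  B.attDesc (K.map θ ≫ B.inL p) fun η _ =>
    if h : Epi (θ.unop ≫ η) then B.inR (θ.unop ≫ η) h else B.val (θ.unop ≫ η) h ≫ B.inL p

lemma inR_attMap_of_epi {m p : SimplexCategoryᵒᵖ} (θ : m ⟶ p) (η : unop m ⟶ ⦋n + 1⦌) (h : Epi η)
    (h' : Epi (θ.unop ≫ η)) : B.inR η h ≫ B.attMap θ = B.inR (θ.unop ≫ η) h' := by
  rw [attMap, inR_attDesc, dif_pos h']

lemma inR_attMap_of_not_epi {m p : SimplexCategoryᵒᵖ} (θ : m ⟶ p) (η : unop m ⟶ ⦋n + 1⦌)
    (h : Epi η) (h' : ¬ Epi (θ.unop ≫ η)) :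
    B.inR η h ≫ B.attMap θ = B.val (θ.unop ≫ η) h' ≫ B.inL p := by
  rw [attMap, inR_attDesc, dif_neg h']

@[reassoc (attr := simp)]
lemma inL_attMap {m p : SimplexCategoryᵒᵖ} (θ : m ⟶ p) :
    B.inL m ≫ B.attMap θ = K.map θ ≫ B.inL p := by
  rw [attMap, inL_attDesc]

lemma inR_congr {m : SimplexCategoryᵒᵖ} {η η' : unop m ⟶ ⦋n + 1⦌} (e : η = η') (h : Epi η)
    (h' : Epi η') : B.inR η h = B.inR η' h' := by
  subst e
  rfl

lemma val_congr {m : SimplexCategory} {ψ ψ' : m ⟶ ⦋n + 1⦌} (e : ψ = ψ') (h : ¬ Epi ψ)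
    (h' : ¬ Epi ψ') : B.val ψ h = B.val ψ' h' := by
  subst e
  rfl

/-- Attach a family of boundaries. -/
noncomputable def attach : SimplicialObject (FormalCoproduct.{u} C) where
  obj := B.attObj
  map θ := B.attMap θ
  map_id m := B.att_ext (by simp) fun η h => by
    rw [Category.comp_id, B.inR_attMap_of_epi _ _ h (by simpa using h)]
    exact B.inR_congr (by simp) _ _
  map_comp {m p q} θ θ' := by
    classical
    refine B.att_ext (by simp) fun η h => ?_
    rw [← Category.assoc]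
    by_cases h₁ : Epi (θ.unop ≫ η)
    · rw [B.inR_attMap_of_epi θ η h h₁]
      by_cases h₂ : Epi (θ'.unop ≫ θ.unop ≫ η)
      · rw [B.inR_attMap_of_epi θ' _ h₁ h₂, B.inR_attMap_of_epi (θ ≫ θ') η h (by simpa using h₂)]
        exact B.inR_congr (by simp) _ _
      · rw [B.inR_attMap_of_not_epi θ' _ h₁ h₂,
          B.inR_attMap_of_not_epi (θ ≫ θ') η h (by simpa using h₂)]
        exact congrArg (· ≫ B.inL q) (B.val_congr (by simp) _ _)
    · have h₂ : ¬ Epi (θ'.unop ≫ θ.unop ≫ η) := not_epi_comp _ _ h₁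
      rw [B.inR_attMap_of_not_epi θ η h h₁,
        B.inR_attMap_of_not_epi (θ ≫ θ') η h (by simpa using h₂)]
      refine Eq.trans ?_ ((Category.assoc _ _ _).trans (congrArg (B.val _ h₁ ≫ ·) (B.inL_attMap θ'))).symm
      refine Eq.trans (congrArg (· ≫ B.inL q) ?_) (Category.assoc _ _ _)
      rw [B.val_congr (show (θ ≫ θ').unop ≫ η = θ'.unop ≫ θ.unop ≫ η by simp) _ h₂]
      exact (B.val_map θ'.unop _ h₁ h₂).symm

/-- The old object maps to the attached one. -/
noncomputable def inclusion : K ⟶ B.attach where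
  app m := B.inL m
  naturality _ _ θ := (B.inL_attMap θ).symm

lemma isIso_inclusion_app (m : SimplexCategoryᵒᵖ) (hm : (unop m).len ≤ n) :
    IsIso (B.inclusion.app m) := by
  have hne : ∀ η : unop m ⟶ ⦋n + 1⦌, ¬ Epi η := fun η _ => by
    have := SimplexCategory.len_le_of_epi η
    simp only at this
    omega
  refine ⟨B.attDesc (𝟙 _) fun η h => (hne η h).elim, ?_, B.att_ext ?_ fun η h => (hne η h).elim⟩
  · exact B.inL_attDesc _ _
  · show B.inL m ≫ B.attDesc _ _ ≫ B.inL m = B.inL m ≫ 𝟙 _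
    rw [inL_attDesc_assoc, Category.id_comp, Category.comp_id]

lemma inR_id_δ (c : Fin (n + 2)) :
    B.inR (m := op ⦋n + 1⦌) (𝟙 _) inferInstance ≫ B.attach.δ c = B.d c ≫ B.inL (op ⦋n⦌) := by
  have h' : ¬ Epi ((SimplexCategory.δ c).op.unop ≫ 𝟙 ⦋n + 1⦌) := fun h => by
    have := SimplexCategory.len_le_of_epi ((SimplexCategory.δ c).op.unop ≫ 𝟙 ⦋n + 1⦌)
    simp only at this
    omega
  refine (B.inR_attMap_of_not_epi (SimplexCategory.δ c).op (𝟙 _) inferInstance h').trans ?_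
  rw [B.val_eq _ h' c (𝟙 _) (by simp)]
  simp

end BdryFam

end attach

section stages

variable (P : FormalCoproduct.{u} C → Prop)
  (hP : ∀ (K : SimplicialObject (FormalCoproduct.{u} C)) (n : ℕ) (B : BdryFam K n) m,
    P (K.obj m) → P B.N → P (B.attObj m))
  (hstep : ∀ (K : SimplicialObject (FormalCoproduct.{u} C)) (n : ℕ), P (K _⦋n⦌) →
    ∃ B : BdryFam K n, P B.N ∧ B.Covers J)
  (N₀ : FormalCoproduct.{u} C) (hN₀ : P N₀)

/-- The successive skeleta. -/
noncomputable def stage :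
    ℕ → {K : SimplicialObject (FormalCoproduct.{u} C) // ∀ m, P (K.obj m)}
  | 0 => ⟨(Functor.const _).obj N₀, fun _ => hN₀⟩
  | n + 1 => ⟨(hstep _ n ((stage n).2 _)).choose.attach, fun m =>
      hP _ n (hstep _ n ((stage n).2 _)).choose m ((stage n).2 m)
        (hstep _ n ((stage n).2 _)).choose_spec.1⟩

/-- The chosen family at a stage. -/
noncomputable abbrev stageFam (n : ℕ) : BdryFam (stage J P hP hstep N₀ hN₀ n).1 n :=
  (hstep _ n ((stage J P hP hstep N₀ hN₀ n).2 _)).choose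

/-- The inclusion of a skeleton in the next one. -/
noncomputable def stageStep (n : ℕ) :
    (stage J P hP hstep N₀ hN₀ n).1 ⟶ (stage J P hP hstep N₀ hN₀ (n + 1)).1 :=
  (stageFam J P hP hstep N₀ hN₀ n).inclusion

/-- The sequence of skeleta. -/
noncomputable def stageSeq : ℕ ⥤ SimplicialObject (FormalCoproduct.{u} C) :=
  Functor.ofSequence (X := fun n => (stage J P hP hstep N₀ hN₀ n).1)
    (stageStep J P hP hstep N₀ hN₀)

lemma isIso_stageSeq_map (m : SimplexCategoryᵒᵖ) {a b : ℕ} (h : a ≤ b) (ha : (unop m).len ≤ a) :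
    IsIso (((stageSeq J P hP hstep N₀ hN₀).map (homOfLE h)).app m) := by
  induction b, h using Nat.le_induction with
  | base =>
    rw [show homOfLE (le_refl a) = 𝟙 a from rfl, CategoryTheory.Functor.map_id]
    exact inferInstanceAs (IsIso (𝟙 _))
  | succ b hab ih =>
    rw [show homOfLE (hab.trans (Nat.le_succ b)) = homOfLE hab ≫ homOfLE (Nat.le_succ b) from rfl,
      Functor.map_comp, NatTrans.comp_app]
    have : IsIso (((stageSeq J P hP hstep N₀ hN₀).map (homOfLE (Nat.le_succ b))).app m) := by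
      rw [stageSeq, Functor.ofSequence_map_homOfLE_succ]
      exact BdryFam.isIso_inclusion_app _ m (ha.trans hab)
    exact inferInstance

/-- Comparison of a diagonal term with a later skeleton. -/
noncomputable def stageIso (m : SimplexCategoryᵒᵖ) (M : ℕ) (h : (unop m).len ≤ M) :
    (stage J P hP hstep N₀ hN₀ (unop m).len).1.obj m ≅
      ((stageSeq J P hP hstep N₀ hN₀).obj M).obj m :=
  @asIso _ _ _ _ (((stageSeq J P hP hstep N₀ hN₀).map (homOfLE h)).app m)
    (isIso_stageSeq_map J P hP hstep N₀ hN₀ m h le_rfl)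

lemma stageIso_comp (m : SimplexCategoryᵒᵖ) {M M' : ℕ} (h : (unop m).len ≤ M) (h' : M ≤ M') :
    (stageIso J P hP hstep N₀ hN₀ m M h).hom ≫
        ((stageSeq J P hP hstep N₀ hN₀).map (homOfLE h')).app m =
      (stageIso J P hP hstep N₀ hN₀ m M' (h.trans h')).hom := by
  exact (congr_app (Functor.map_comp (stageSeq J P hP hstep N₀ hN₀) (homOfLE h) (homOfLE h')) m).symm

lemma stageIso_self (m : SimplexCategoryᵒᵖ) :
    (stageIso J P hP hstep N₀ hN₀ m (unop m).len le_rfl).hom = 𝟙 _ :=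
  congr_app (CategoryTheory.Functor.map_id (stageSeq J P hP hstep N₀ hN₀) (unop m).len) m

lemma stageIso_step (n : ℕ) :
    (stageIso J P hP hstep N₀ hN₀ (op ⦋n⦌) (n + 1) (Nat.le_succ n)).hom =
      (stageFam J P hP hstep N₀ hN₀ n).inclusion.app (op ⦋n⦌) :=
  congr_app (Functor.ofSequence_map_homOfLE_succ (stageStep J P hP hstep N₀ hN₀) n) (op ⦋n⦌)

/-- The action on diagonal terms. -/
noncomputable def splitMap {m p : SimplexCategoryᵒᵖ} (θ : m ⟶ p) :
    (stage J P hP hstep N₀ hN₀ (unop m).len).1.obj m ⟶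
      (stage J P hP hstep N₀ hN₀ (unop p).len).1.obj p :=
  (stageIso J P hP hstep N₀ hN₀ m (max (unop m).len (unop p).len) (le_max_left _ _)).hom ≫
    ((stageSeq J P hP hstep N₀ hN₀).obj _).map θ ≫
    (stageIso J P hP hstep N₀ hN₀ p (max (unop m).len (unop p).len) (le_max_right _ _)).inv

lemma splitMap_spec {m p : SimplexCategoryᵒᵖ} (θ : m ⟶ p) (M : ℕ) (hm : (unop m).len ≤ M)
    (hp : (unop p).len ≤ M) :
    splitMap J P hP hstep N₀ hN₀ θ ≫ (stageIso J P hP hstep N₀ hN₀ p M hp).hom =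
      (stageIso J P hP hstep N₀ hN₀ m M hm).hom ≫
        ((stageSeq J P hP hstep N₀ hN₀).obj M).map θ := by
  have h := max_le hm hp
  rw [← stageIso_comp J P hP hstep N₀ hN₀ p (le_max_right _ _) h,
    ← stageIso_comp J P hP hstep N₀ hN₀ m (le_max_left _ _) h, splitMap]
  simp only [Category.assoc, Iso.inv_hom_id_assoc]
  rw [NatTrans.naturality]

/-- The union of the skeleta. -/
noncomputable def splitObj : SimplicialObject (FormalCoproduct.{u} C) where
  obj m := (stage J P hP hstep N₀ hN₀ (unop m).len).1.obj m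
  map θ := splitMap J P hP hstep N₀ hN₀ θ
  map_id m := by
    rw [← cancel_mono (stageIso J P hP hstep N₀ hN₀ m (unop m).len le_rfl).hom,
      splitMap_spec J P hP hstep N₀ hN₀ (𝟙 m) (unop m).len le_rfl le_rfl]
    simp
  map_comp {m p q} θ θ' := by
    let M := max (unop m).len (max (unop p).len (unop q).len)
    have hm : (unop m).len ≤ M := le_max_left _ _
    have hp : (unop p).len ≤ M := (le_max_left _ _).trans (le_max_right _ _)
    have hq : (unop q).len ≤ M := (le_max_right _ _).trans (le_max_right _ _)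
    rw [← cancel_mono (stageIso J P hP hstep N₀ hN₀ q M hq).hom, Category.assoc,
      splitMap_spec J P hP hstep N₀ hN₀ θ' M hp hq, ← Category.assoc,
      splitMap_spec J P hP hstep N₀ hN₀ θ M hm hp,
      splitMap_spec J P hP hstep N₀ hN₀ (θ ≫ θ') M hm hq, Category.assoc, Functor.map_comp]

lemma splitObj_prop (m : SimplexCategoryᵒᵖ) : P ((splitObj J P hP hstep N₀ hN₀).obj m) :=
  (stage J P hP hstep N₀ hN₀ (unop m).len).2 m

lemma isLocTrivial_splitObj (h0 : ∀ U, ptSieve N₀ U ∈ J U) :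
    IsLocTrivial J (splitObj J P hP hstep N₀ hN₀) := by
  refine ⟨h0, fun n U y hy => ?_⟩
  let B := stageFam J P hP hstep N₀ hN₀ n
  have hy' : IsBdry (stage J P hP hstep N₀ hN₀ n).1 n _ y := by
    intro Δ hΔ φ ψ a b e
    have key : ∀ φ : Δ ⟶ ⦋n⦌, (stage J P hP hstep N₀ hN₀ n).1.map φ.op =
        (splitObj J P hP hstep N₀ hN₀).map φ.op ≫
          (stageIso J P hP hstep N₀ hN₀ (op Δ) n hΔ).hom := fun φ => by
      refine Eq.trans ?_ (splitMap_spec J P hP hstep N₀ hN₀ φ.op n le_rfl hΔ).symm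
      exact ((congrArg (· ≫ _) (stageIso_self J P hP hstep N₀ hN₀ (op ⦋n⦌))).trans
        (Category.id_comp _)).symm
    rw [key, key]
    exact (Category.assoc _ _ _).symm.trans ((congrArg (· ≫ _) (hy hΔ φ ψ a b e)).trans
      (Category.assoc _ _ _))
  obtain ⟨S, hS, hS'⟩ := (hstep _ n ((stage J P hP hstep N₀ hN₀ n).2 _)).choose_spec.2 U y hy'
  refine ⟨S, hS, fun V g hg => ?_⟩
  obtain ⟨x, hx⟩ := hS' g hg
  let x' : (incl C).obj V ⟶ (splitObj J P hP hstep N₀ hN₀) _⦋n + 1⦌ :=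
    x ≫ B.inR (m := op ⦋n + 1⦌) (𝟙 _) inferInstance
  refine ⟨x', fun c => ?_⟩
  let I₁ := stageIso J P hP hstep N₀ hN₀ (op ⦋n⦌) (n + 1) (Nat.le_succ n)
  have e₁ : (splitObj J P hP hstep N₀ hN₀).δ c ≫ I₁.hom = B.attach.δ c :=
    (splitMap_spec J P hP hstep N₀ hN₀ (SimplexCategory.δ c).op (n + 1) le_rfl (Nat.le_succ n)).trans
      ((congrArg (· ≫ _) (stageIso_self J P hP hstep N₀ hN₀ (op ⦋n + 1⦌))).trans (Category.id_comp _))
  refine (cancel_mono I₁.hom).1 ?_
  refine (Category.assoc _ _ _).trans ((congrArg (fun w => x' ≫ w) e₁).trans ?_)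
  refine (Category.assoc _ _ _).trans ((congrArg (fun w => x ≫ w) (B.inR_id_δ c)).trans ?_)
  refine (Category.assoc _ _ _).symm.trans ((congrArg (· ≫ B.inL (op ⦋n⦌)) (hx c)).trans ?_)
  exact congrArg (fun w => ((incl C).map g ≫ y c) ≫ w) (stageIso_step J P hP hstep N₀ hN₀ n).symm

include hP hstep hN₀ in
theorem exists_isLocTrivial_of_step (h0 : ∀ U, ptSieve N₀ U ∈ J U) :
    ∃ K : SimplicialObject (FormalCoproduct.{u} C), IsLocTrivial J K ∧ ∀ m, P (K.obj m) :=
  ⟨_, isLocTrivial_splitObj J P hP hstep N₀ hN₀ h0, splitObj_prop J P hP hstep N₀ hN₀⟩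

end stages

/-- All members belong to `B`. -/
def AllIn (B : Set C) (X : FormalCoproduct.{u} C) : Prop :=
  ∀ i, X.obj i ∈ B

/-- Finitely many members, all in `B`. -/
def FinIn (B : Set C) (X : FormalCoproduct.{u} C) : Prop :=
  Finite X.I ∧ AllIn B X

lemma BdryFam.allIn_attObj {B : Set C} {K : SimplicialObject (FormalCoproduct.{u} C)} {n : ℕ}
    (F : BdryFam K n) (m : SimplexCategoryᵒᵖ) (hK : AllIn B (K.obj m)) (hN : AllIn B F.N) :
    AllIn B (F.attObj m) := by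
  rintro (i | ⟨η, j⟩)
  · exact hK i
  · exact hN j

lemma BdryFam.finite_attObj {K : SimplicialObject (FormalCoproduct.{u} C)} {n : ℕ}
    (F : BdryFam K n) (m : SimplexCategoryᵒᵖ) (hK : Finite (K.obj m).I) (hN : Finite F.N.I) :
    Finite (F.attObj m).I := by
  have : Finite (unop m ⟶ ⦋n + 1⦌) :=
    Finite.of_injective (fun f => f.toOrderHom.toFun) fun f f' h =>
      SimplexCategory.Hom.ext _ _ (OrderHom.ext _ _ h)
  have : Finite {η : unop m ⟶ ⦋n + 1⦌ // Epi η} :=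
    Finite.of_injective Subtype.val Subtype.val_injective
  have : Finite ({η : unop m ⟶ ⦋n + 1⦌ // Epi η} × F.N.I) := Finite.instProd
  have := hK
  exact Finite.of_equiv ((K.obj m).I ⊕ ({η : unop m ⟶ ⦋n + 1⦌ // Epi η} × F.N.I)) (Equiv.refl _)

/-- Hypercoverings with all members in a class covering every object. -/
theorem exists_isLocTrivial_allIn (B : Set C)
    (hB : ∀ U : C, ∃ (ι : Type u) (V : ι → C) (f : ∀ i, V i ⟶ U),
      Sieve.ofArrows V f ∈ J U ∧ ∀ i, V i ∈ B) :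
    ∃ K : SimplicialObject (FormalCoproduct.{u} C), IsLocTrivial J K ∧ ∀ m, AllIn B (K.obj m) := by
  choose ι V f hf hV using hB
  refine exists_isLocTrivial_of_step J (AllIn B) (fun K n F m => F.allIn_attObj m)
    (fun K n _ => ?_) ⟨Σ U, ι U, fun z => V z.1 z.2⟩ (fun z => hV _ _) fun U => ?_
  · let N : FormalCoproduct.{u} C :=
      ⟨Σ U : C, {y : Fin (n + 2) → ((incl C).obj U ⟶ K _⦋n⦌) // IsBdry K n _ y} × ι U,
        fun z => V z.1 z.2.2⟩
    let d : Fin (n + 2) → (N ⟶ K _⦋n⦌) := fun c =>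
      descPts fun z => (incl C).map (f z.1 z.2.2) ≫ z.2.1.1 c
    refine ⟨⟨N, d, ?_⟩, fun z => hV _ _, fun U y hy => ⟨_, hf U, ?_⟩⟩
    · intro Δ hΔ φ ψ a b e
      refine fc_ext fun z => ?_
      simp only [d, ← Category.assoc, pt_descPts]
      exact (z.2.1.2.comp _) hΔ φ ψ a b e
    · rintro W g ⟨Z, a, _, ⟨i⟩, rfl⟩
      refine ⟨(incl C).map a ≫ pt N ⟨U, ⟨y, hy⟩, i⟩, fun c => ?_⟩
      rw [Category.assoc, pt_descPts, Functor.map_comp, Category.assoc]
  · refine J.superset_covering ?_ (hf U)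
    rintro W g ⟨Z, a, _, ⟨i⟩, rfl⟩
    exact ⟨(incl C).map a ≫ pt (⟨Σ U, ι U, fun z => V z.1 z.2⟩ : FormalCoproduct.{u} C) ⟨U, i⟩⟩

/-- Finitely many pairs of points are simultaneously equalized universally, or not at all. -/
lemma exists_equalizing [HasTerminal C] [HasPullbacks C] {P : C} {S : Type u} [Finite S]
    (Z : S → FormalCoproduct.{u} C) (v w : ∀ s, (incl C).obj P ⟶ Z s)
    (hidx : ∀ s, (v s).f PUnit.unit = (w s).f PUnit.unit) :
    ∃ (E : C) (e : E ⟶ P), (∀ s, (incl C).map e ≫ v s = (incl C).map e ≫ w s) ∧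
      ∀ (W : C) (g : W ⟶ P), (∀ s, (incl C).map g ≫ v s = (incl C).map g ≫ w s) →
        ∃ k : W ⟶ E, k ≫ e = g := by
  have : HasFiniteLimits C := hasFiniteLimits_of_hasTerminal_and_pullbacks
  let O : S → C := fun s => (Z s).obj ((w s).f PUnit.unit)
  let a : P ⟶ ∏ᶜ O := Pi.lift fun s => (v s).φ PUnit.unit ≫ eqToHom (by rw [hidx s])
  let b : P ⟶ ∏ᶜ O := Pi.lift fun s => (w s).φ PUnit.unit
  have key : ∀ (W : C) (g : W ⟶ P),
      (∀ s, (incl C).map g ≫ v s = (incl C).map g ≫ w s) ↔ g ≫ a = g ≫ b := by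
    intro W g
    constructor
    · intro h
      refine Pi.hom_ext _ _ fun s => ?_
      obtain ⟨h₁, h₂⟩ := (hom_ext_iff _ _).1 (h s)
      have e : (g ≫ (v s).φ PUnit.unit) ≫ eqToHom _ = g ≫ (w s).φ PUnit.unit := h₂ PUnit.unit
      exact (Category.assoc _ _ _).trans (((congrArg (g ≫ ·) (Pi.lift_π _ s)).trans
        ((Category.assoc _ _ _).symm.trans e)).trans
          ((congrArg (g ≫ ·) (Pi.lift_π _ s)).symm.trans (Category.assoc _ _ _).symm))
    · intro h s
      refine hom_ext (funext fun _ => hidx s) fun _ => ?_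
      have e := congrArg (fun z => z ≫ Pi.π O s) h
      exact (Category.assoc _ _ _).trans ((congrArg (g ≫ ·) (Pi.lift_π _ s)).symm.trans
        ((Category.assoc _ _ _).symm.trans (e.trans ((Category.assoc _ _ _).trans
          (congrArg (g ≫ ·) (Pi.lift_π _ s))))))
  exact ⟨equalizer a b, equalizer.ι a b, (key _ _).2 (equalizer.condition a b),
    fun W g h => ⟨equalizer.lift g ((key W g).1 h), equalizer.lift_ι _ _⟩⟩

/-- Hypercoverings with finitely many members in each degree, all in a class. -/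
theorem exists_isLocTrivial_finIn [HasTerminal C] [HasPullbacks C] (B : Set C)
    (hB : ∀ U : C, ∃ (ι : Type u) (_ : Finite ι) (V : ι → C) (f : ∀ i, V i ⟶ U),
      Sieve.ofArrows V f ∈ J U ∧ ∀ i, V i ∈ B) :
    ∃ K : SimplicialObject (FormalCoproduct.{u} C), IsLocTrivial J K ∧ ∀ m, FinIn B (K.obj m) := by
  classical
  choose ι hfin V f hf hV using hB
  have : HasFiniteLimits C := hasFiniteLimits_of_hasTerminal_and_pullbacks
  refine exists_isLocTrivial_of_step J (FinIn B)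
    (fun K n F m hK hN => ⟨F.finite_attObj m hK.1 hN.1, F.allIn_attObj m hK.2 hN.2⟩)
    (fun K n hKn => ?_) ⟨ι (⊤_ C), fun i => V _ i⟩ ⟨hfin _, fun i => hV _ i⟩ fun U => ?_
  · have := hKn.1
    have : ∀ x y : SimplexCategory, Finite (x ⟶ y) := fun x y =>
      Finite.of_injective (fun f => f.toOrderHom.toFun) fun f f' h =>
        SimplexCategory.Hom.ext _ _ (OrderHom.ext _ _ h)
    -- the relations
    let S : Type u := ULift.{u} (Σ k : Fin (n + 1),
      {z : ((⦋k.val⦌ ⟶ ⦋n⦌) × (⦋k.val⦌ ⟶ ⦋n⦌)) × Fin (n + 2) × Fin (n + 2) //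
        z.1.1 ≫ SimplexCategory.δ z.2.1 = z.1.2 ≫ SimplexCategory.δ z.2.2})
    let Pd : (Fin (n + 2) → (K _⦋n⦌).I) → C := fun T => ∏ᶜ fun c => (K _⦋n⦌).obj (T c)
    let yT : ∀ T c, (incl C).obj (Pd T) ⟶ K _⦋n⦌ := fun T c =>
      (incl C).map (Pi.π (fun c => (K _⦋n⦌).obj (T c)) c) ≫ pt _ (T c)
    let vT : ∀ T (s : S), (incl C).obj (Pd T) ⟶ K _⦋s.down.1.val⦌ := fun T s =>
      yT T s.down.2.1.2.1 ≫ K.map s.down.2.1.1.1.op
    let wT : ∀ T (s : S), (incl C).obj (Pd T) ⟶ K _⦋s.down.1.val⦌ := fun T s =>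
      yT T s.down.2.1.2.2 ≫ K.map s.down.2.1.1.2.op
    let Good := {T : Fin (n + 2) → (K _⦋n⦌).I //
      ∀ s : S, (vT T s).f PUnit.unit = (wT T s).f PUnit.unit}
    have hE := fun T : Good => exists_equalizing (fun s : S => K _⦋s.down.1.val⦌) (vT T.1) (wT T.1) T.2
    choose E e he hE' using hE
    let N : FormalCoproduct.{u} C := ⟨Σ T : Good, ι (E T), fun z => V _ z.2⟩
    let d : Fin (n + 2) → (N ⟶ K _⦋n⦌) := fun c =>
      descPts fun z => (incl C).map (f _ z.2 ≫ e z.1) ≫ yT z.1.1 c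
    have : ∀ T : Good, Finite (ι (E T)) := fun T => hfin _
    have hNfin : Finite N.I := inferInstanceAs (Finite (Σ T : Good, ι (E T)))
    refine ⟨⟨N, d, ?_⟩, ⟨hNfin, fun z => hV _ _⟩,
      fun U y hy => ?_⟩
    · intro Δ hΔ φ ψ a b h
      obtain ⟨k⟩ := Δ
      refine fc_ext fun z => ?_
      simp only [d, ← Category.assoc, pt_descPts]
      have := congrArg (fun w => (incl C).map (f _ z.2) ≫ w)
        (he z.1 ⟨⟨⟨k, Nat.lt_succ_of_le hΔ⟩, ⟨((φ, ψ), a, b), h⟩⟩⟩)
      simp only [Functor.map_comp, Category.assoc]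
      exact this
    · let T₀ : Fin (n + 2) → (K _⦋n⦌).I := fun c => (y c).f PUnit.unit
      let g₀ : U ⟶ Pd T₀ := Pi.lift fun c => (y c).φ PUnit.unit
      have hg₀ : ∀ c, (incl C).map g₀ ≫ yT T₀ c = y c := fun c => by
        simp only [yT, g₀, ← Category.assoc, ← Functor.map_comp]
        refine Eq.trans ?_ (fromIncl_eq (y c)).symm
        exact congrArg (fun q => (incl C).map q ≫ pt (K _⦋n⦌) (T₀ c)) (Pi.lift_π _ c)
      have hrel : ∀ s : S, (incl C).map g₀ ≫ vT T₀ s = (incl C).map g₀ ≫ wT T₀ s := fun s => by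
        simp only [vT, wT, ← Category.assoc, hg₀]
        exact hy (Nat.le_of_lt_succ s.down.1.isLt) _ _ _ _ s.down.2.2
      let G : Good := ⟨T₀, fun s => congrFun ((hom_ext_iff _ _).1 (hrel s)).1 PUnit.unit⟩
      obtain ⟨k, hk⟩ := hE' G U g₀ hrel
      refine ⟨_, J.pullback_stable k (hf (E G)), ?_⟩
      rintro W g ⟨Z, a, _, ⟨i⟩, hai⟩
      refine ⟨(incl C).map a ≫ pt N ⟨G, i⟩, fun c => ?_⟩
      rw [Category.assoc, pt_descPts, ← Category.assoc, ← Functor.map_comp]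
      refine (congrArg (fun q => (incl C).map q ≫ yT G.1 c)
        (((Category.assoc a (f (E G) i) (e G)).symm.trans (congrArg (· ≫ e G) hai)).trans
          ((Category.assoc g k (e G)).trans (congrArg (g ≫ ·) hk)))).trans ?_
      rw [Functor.map_comp, Category.assoc]
      exact congrArg ((incl C).map g ≫ ·) (hg₀ c)
  · refine J.superset_covering ?_ (J.pullback_stable (terminal.from U) (hf (⊤_ C)))
    rintro W g ⟨Z, a, _, ⟨i⟩, _⟩
    exact ⟨(incl C).map a ≫ pt (⟨ι (⊤_ C), fun i => V _ i⟩ : FormalCoproduct.{u} C) i⟩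

/-- A class covering every object of `C` covers every object of the slice. -/
lemma exists_over_cover (B : Set C) {X : C} (U : Over X) {ι : Type u} (V : ι → C)
    (f : ∀ i, V i ⟶ U.left) (hf : Sieve.ofArrows V f ∈ J U.left) (hV : ∀ i, V i ∈ B) :
    ∃ (W : ι → Over X) (g : ∀ i, W i ⟶ U), Sieve.ofArrows W g ∈ J.over X U ∧
      ∀ i, W i ∈ {Y : Over X | Y.left ∈ B} := by
  refine ⟨fun i => Over.mk (f i ≫ U.hom), fun i => Over.homMk (f i), ?_, hV⟩
  rw [J.mem_over_iff]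
  refine J.superset_covering ?_ hf
  rintro W g ⟨Z, a, _, ⟨i⟩, rfl⟩
  rw [Sieve.overEquiv_iff]
  exact ⟨Over.mk (f i ≫ U.hom), Over.homMk a (by simp), Over.homMk (f i), Presieve.ofArrows.mk i,
    by ext; simp⟩

end Groth.Agent.HyperLib
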